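import Mathlib.RingTheory.Artinian.Ring
import Mathlib.RingTheory.Jacobson.Ideal
import Mathlib.RingTheory.SimpleModule.Basic
import Mathlib.LinearAlgebra.Matrix.BilinearForm
import Mathlib.LinearAlgebra.Trace
import Mathlib.RingTheory.TensorProduct.Free
import Mathlib.LinearAlgebra.Charpoly.BaseChange

/-!
# Semisimple algebras in characteristic zero: the trace form and base change

`A` a finite-dimensional algebra over a field `K`, `tr K A x` the trace of the left multiplication by `x`.
* `isSemisimpleRing_of_trace`: if the trace form is nondegenerate, `A` is semisimple;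
* `eq_zero_of_trace`: the converse in characteristic zero;
* `baseChange`: hence `L ⊗[K] A` is semisimple for `A` semisimple, `K` of characteristic zero, `L` any extension field.
-/

set_option autoImplicit false

namespace K522.SsBC

open Module TensorProduct

section

variable (K A : Type*) [Field K] [Ring A] [Algebra K A]

/-- the trace of left multiplications. -/
noncomputable def tr : A →ₗ[K] K := (LinearMap.trace K A).comp (Algebra.lmul K A).toLinearMap

/-- the trace form. -/
noncomputable def trForm : LinearMap.BilinForm K A := LinearMap.compr₂ (Algebra.lmul K A).toLinearMap (tr K A)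

end

variable {K A : Type*} [Field K] [Ring A] [Algebra K A]

theorem trForm_apply (x y : A) : trForm K A x y = tr K A (x * y) := rfl

theorem tr_comm (x y : A) : tr K A (x * y) = tr K A (y * x) := by
  change LinearMap.trace K A (Algebra.lmul K A (x * y)) = LinearMap.trace K A (Algebra.lmul K A (y * x))
  have h1 : Algebra.lmul K A (x * y) = Algebra.lmul K A x * Algebra.lmul K A y := map_mul _ _ _
  have h2 : Algebra.lmul K A (y * x) = Algebra.lmul K A y * Algebra.lmul K A x := map_mul _ _ _
  rw [h1, h2]
  exact LinearMap.trace_mul_comm K _ _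

variable [FiniteDimensional K A]

theorem isSemisimpleRing_of_trace (h : ∀ x : A, (∀ y, tr K A (y * x) = 0) → x = 0) :
    IsSemisimpleRing A := by
  haveI : IsArtinianRing A := IsArtinianRing.of_finite K A
  rw [IsArtinianRing.isSemisimpleRing_iff_jacobson, eq_bot_iff]
  intro x hx
  rw [Submodule.mem_bot]
  refine h x fun y => ?_
  obtain ⟨n, hn⟩ := IsSemiprimaryRing.isNilpotent (R := A)
  have hy : y * x ∈ Ring.jacobson A := Ideal.mul_mem_left _ y hx
  have h1 : (y * x) ^ n = 0 := by
    have h2 : (y * x) ^ n ∈ (Ring.jacobson A) ^ n := Ideal.pow_mem_pow hy n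
    rw [hn] at h2
    exact h2
  have h2 : IsNilpotent (Algebra.lmul K A (y * x)) := ⟨n, by rw [← map_pow, h1, map_zero]⟩
  exact (LinearMap.isNilpotent_trace_of_isNilpotent h2).eq_zero

theorem eq_zero_of_trace [CharZero K] [IsSemisimpleRing A] (x : A)
    (hx : ∀ y, tr K A (y * x) = 0) : x = 0 := by
  let N : Ideal A :=
    { carrier := {x | ∀ y, tr K A (y * x) = 0}
      add_mem' := fun {a b} ha hb y => by rw [mul_add, map_add, ha, hb, add_zero]
      zero_mem' := fun y => by rw [mul_zero, map_zero]
      smul_mem' := fun c a ha y => by rw [smul_eq_mul, ← mul_assoc]; exact ha _ }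
  obtain ⟨e, he, hN⟩ := IsSemisimpleRing.ideal_eq_span_idempotent N
  have he1 : e ∈ N := by rw [hN]; exact Ideal.mem_span_singleton_self e
  have h1 : tr K A e = 0 := by
    have := he1 1
    rwa [one_mul] at this
  have h2 : IsIdempotentElem (Algebra.lmul K A e) := by
    rw [IsIdempotentElem, ← map_mul, he.eq]
  have h3 : Algebra.lmul K A e = 0 := (LinearMap.IsIdempotentElem.trace_eq_zero_iff h2).mp h1
  have h4 : e = 0 := by
    have := LinearMap.congr_fun h3 1
    simpa using this
  have hx' : x ∈ N := hx
  rw [hN, h4] at hx'
  obtain ⟨a, ha⟩ := Ideal.mem_span_singleton'.mp hx'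
  rw [← ha, mul_zero]

theorem separatingLeft_iff : (trForm K A).SeparatingLeft ↔ ∀ x : A, (∀ y, tr K A (y * x) = 0) → x = 0 := by
  constructor
  · intro h x hx
    exact h x fun y => by rw [trForm_apply, tr_comm, hx]
  · intro h x hx
    exact h x fun y => by rw [tr_comm]; exact hx y

theorem nondegenerate_iff : (trForm K A).Nondegenerate ↔ ∀ x : A, (∀ y, tr K A (y * x) = 0) → x = 0 := by
  rw [← separatingLeft_iff]
  constructor
  · exact fun h => h.1
  · refine fun h => ⟨h, fun x hx => h x fun y => ?_⟩
    rw [trForm_apply, tr_comm]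
    exact hx y

theorem baseChange (L : Type*) [Field L] [Algebra K L] [CharZero K] [IsSemisimpleRing A] :
    IsSemisimpleRing (L ⊗[K] A) := by
  classical
  refine isSemisimpleRing_of_trace (K := L) (A := L ⊗[K] A) ?_
  rw [← nondegenerate_iff]
  let b := finBasis K A
  have h1 : (trForm K A).Nondegenerate := nondegenerate_iff.mpr fun x hx => eq_zero_of_trace x hx
  rw [LinearMap.BilinForm.nondegenerate_iff_det_ne_zero b] at h1
  rw [LinearMap.BilinForm.nondegenerate_iff_det_ne_zero (b.baseChange L)]
  have h2 : LinearMap.BilinForm.toMatrix (b.baseChange L) (trForm L (L ⊗[K] A)) =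
      (LinearMap.BilinForm.toMatrix b (trForm K A)).map (algebraMap K L) := by
    ext i j
    rw [LinearMap.BilinForm.toMatrix_apply, Matrix.map_apply, LinearMap.BilinForm.toMatrix_apply, trForm_apply,
      trForm_apply, Basis.baseChange_apply, Basis.baseChange_apply, Algebra.TensorProduct.tmul_mul_tmul, one_mul]
    change LinearMap.trace L _ (Algebra.lmul L (L ⊗[K] A) (1 ⊗ₜ[K] (b i * b j))) =
      algebraMap K L (LinearMap.trace K A (Algebra.lmul K A (b i * b j)))
    rw [← Algebra.baseChange_lmul, LinearMap.trace_baseChange]
  rw [h2]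
  have h3 : ((LinearMap.BilinForm.toMatrix b (trForm K A)).map (algebraMap K L)).det =
      algebraMap K L (LinearMap.BilinForm.toMatrix b (trForm K A)).det :=
    (RingHom.map_det (algebraMap K L) _).symm
  rw [h3]
  exact fun h => h1 ((algebraMap K L).injective (h.trans (map_zero _).symm))

/-- A ring which is the image of `L ⊗ A`, `A` semisimple finite-dimensional over `K` of characteristic zero. -/
theorem of_surjective {L S : Type*} [Field L] [Algebra K L] [CharZero K] [IsSemisimpleRing A] [Ring S]
    (f : L ⊗[K] A →+* S) (hf : Function.Surjective f) : IsSemisimpleRing S :=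
  haveI := baseChange (K := K) (A := A) L
  RingHom.isSemisimpleRing_of_surjective f hf

end K522.SsBC
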