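import Groth.Prelude.Def_Frob
import Mathlib.AlgebraicGeometry.Properties

/-! Dividing a morphism by the absolute Frobenius: if `f : X ⟶ Y`, `X` reduced of characteristic `p`, maps all local
rings into `p`-th powers, then `f = w ≫ frob Y p`. Frobenius of a reduced scheme is an epimorphism. -/

set_option autoImplicit false
universe u

namespace K522.FrobRoot

open CategoryTheory CategoryTheory.Limits AlgebraicGeometry Opposite TopologicalSpace

variable {X Y : Scheme.{u}} (p : ℕ) [hp : Fact p.Prime] [FrobSch.IsCharP X p]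

theorem pow_inj [IsReduced X] {U : X.Opens} {a b : Γ(X, U)} (h : a ^ p = b ^ p) : a = b := by
  have h1 := (FrobSch.powHom p Γ(X, U) (FrobSch.natCast_eq_zero_app X p U)).map_sub a b
  simp only [FrobSch.powHom_apply] at h1
  rw [h, sub_self] at h1
  exact sub_eq_zero.mp (pow_eq_zero_iff hp.out.ne_zero |>.mp h1)

/-- Gluing local `p`-th roots. -/
theorem exists_root [IsReduced X] {V : X.Opens} (t : Γ(X, V))
    (h : ∀ (x : X) (hx : x ∈ V), ∃ r : X.presheaf.stalk x, (X.presheaf.germ V x hx).hom t = r ^ p) :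
    ∃ r : Γ(X, V), r ^ p = t := by
  have h1 : ∀ x : V, ∃ (W : X.Opens) (_ : x.1 ∈ W) (i : W ⟶ V) (r : Γ(X, W)), r ^ p = (X.presheaf.map i.op).hom t := by
    rintro ⟨x, hx⟩
    obtain ⟨r, hr⟩ := h x hx
    obtain ⟨U, hxU, s, rfl⟩ := X.presheaf.exists_germ_eq (x := x) r
    have h2 : X.presheaf.germ V x hx t = X.presheaf.germ U x hxU (s ^ p) := by
      rw [map_pow]; exact hr
    obtain ⟨W, hxW, iV, iU, h3⟩ := X.presheaf.germ_eq x hx hxU t (s ^ p) h2
    refine ⟨W, hxW, iV, (X.presheaf.map iU.op).hom s, ?_⟩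
    rw [← map_pow]
    exact h3.symm
  choose W hxW i r hr using h1
  have hcover : V ≤ iSup W := by
    intro x hx
    exact Opens.mem_iSup.mpr ⟨⟨x, hx⟩, hxW ⟨x, hx⟩⟩
  obtain ⟨s, hs⟩ : ∃ s : Γ(X, V), ∀ x, (X.presheaf.map (i x).op).hom s = r x := by
    obtain ⟨s, hs, -⟩ := X.sheaf.existsUnique_gluing' W V i hcover r (by
      intro x y
      apply pow_inj p
      change ((X.presheaf.map _).hom (r x)) ^ p = ((X.presheaf.map _).hom (r y)) ^ p
      rw [← map_pow, ← map_pow, hr, hr, ← CommRingCat.comp_apply, ← CommRingCat.comp_apply, ← Functor.map_comp,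
        ← Functor.map_comp]
      rfl)
    exact ⟨s, hs⟩
  refine ⟨s, ?_⟩
  apply X.sheaf.eq_of_locally_eq' W V i hcover
  intro x
  change (X.presheaf.map (i x).op).hom (s ^ p) = (X.presheaf.map (i x).op).hom t
  rw [map_pow, ← hr x, hs x]

variable [FrobSch.IsCharP Y p] [IsReduced X] (f : X ⟶ Y)
  (hf : ∀ (x : X) (s : Y.presheaf.stalk (f x)), ∃ r : X.presheaf.stalk x, (f.stalkMap x).hom s = r ^ p)

include hf in
theorem exists_rt (U : Y.Opens) (s : Γ(Y, U)) : ∃ r : Γ(X, f ⁻¹ᵁ U), r ^ p = (f.app U).hom s := by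
  apply exists_root p
  intro x hx
  obtain ⟨r, hr⟩ := hf x ((Y.presheaf.germ U (f x) hx).hom s)
  refine ⟨r, ?_⟩
  rw [← hr]
  exact (Scheme.Hom.germ_stalkMap_apply f U x hx s).symm

/-- The root of the pull back of a section. -/
noncomputable def rt (U : Y.Opens) (s : Γ(Y, U)) : Γ(X, f ⁻¹ᵁ U) := (exists_rt p f hf U s).choose

theorem rt_spec (U : Y.Opens) (s : Γ(Y, U)) : rt p f hf U s ^ p = (f.app U).hom s := (exists_rt p f hf U s).choose_spec

theorem rt_unique (U : Y.Opens) (s : Γ(Y, U)) (r : Γ(X, f ⁻¹ᵁ U)) (h : r ^ p = (f.app U).hom s) : rt p f hf U s = r :=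
  pow_inj p ((rt_spec p f hf U s).trans h.symm)

/-- The root map as a ring homomorphism. -/
noncomputable def rtHom (U : Y.Opens) : Γ(Y, U) →+* Γ(X, f ⁻¹ᵁ U) where
  toFun := rt p f hf U
  map_one' := rt_unique _ _ _ _ _ _ (by simp)
  map_mul' a b := rt_unique _ _ _ _ _ _ (by rw [mul_pow, rt_spec, rt_spec, map_mul])
  map_zero' := rt_unique _ _ _ _ _ _ (by rw [map_zero, zero_pow hp.out.ne_zero])
  map_add' a b := rt_unique _ _ _ _ _ _ (by
    have h1 := (FrobSch.powHom p Γ(X, f ⁻¹ᵁ U) (FrobSch.natCast_eq_zero_app X p _)).map_add (rt p f hf U a) (rt p f hf U b)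
    simp only [FrobSch.powHom_apply] at h1
    rw [h1, rt_spec, rt_spec, map_add])

/-- The root map on presheaves. -/
noncomputable def rtApp : Y.presheaf ⟶ (TopCat.Presheaf.pushforward _ f.base).obj X.presheaf where
  app U := CommRingCat.ofHom (rtHom p f hf U.unop)
  naturality U V i := by
    ext s
    change rt p f hf V.unop ((Y.presheaf.map i).hom s) = (X.presheaf.map _).hom (rt p f hf U.unop s)
    apply rt_unique
    rw [← map_pow, rt_spec]
    exact (CommRingCat.comp_apply _ _ _).symm.trans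
      ((congrArg (fun g => g.hom s) (f.naturality i).symm).trans (CommRingCat.comp_apply _ _ _)) |>.symm ▸ rfl

/-- The root as a morphism of sheafed spaces. -/
noncomputable def rtSh : X.toSheafedSpace ⟶ Y.toSheafedSpace :=
  InducedCategory.homMk { base := f.base, c := rtApp p f hf }

theorem isLocalHom_rtSh (x : X) : IsLocalHom ((rtSh p f hf).hom.stalkMap x).hom := by
  constructor
  intro t ht
  obtain ⟨U, hxU, s, rfl⟩ := Y.presheaf.exists_germ_eq (x := f x) t
  have h := PresheafedSpace.stalkMap_germ_apply (rtSh p f hf).hom U x hxU s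
  erw [h] at ht
  change IsUnit (X.presheaf.germ (f ⁻¹ᵁ U) x hxU (rt p f hf U s)) at ht
  have h2 := ht.pow p
  rw [← map_pow, rt_spec] at h2
  have h3 : (f.stalkMap x).hom (Y.presheaf.germ U (f x) hxU s) = X.presheaf.germ (f ⁻¹ᵁ U) x hxU ((f.app U).hom s) :=
    Scheme.Hom.germ_stalkMap_apply f U x hxU s
  rw [← h3] at h2
  exact (isUnit_map_iff (f.stalkMap x).hom _).mp h2

/-- The root of `f` under Frobenius. -/
noncomputable def root : X ⟶ Y := ⟨LocallyRingedSpace.homMk (rtSh p f hf) (isLocalHom_rtSh p f hf)⟩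

theorem root_base : (root p f hf).base = f.base := rfl

theorem root_app (U : Y.Opens) (s : Γ(Y, U)) : ((root p f hf).app U).hom s = rt p f hf U s := rfl

theorem root_frob : root p f hf ≫ FrobSch.frob Y p = f := by
  refine Scheme.Hom.ext (by rw [Scheme.Hom.comp_base, FrobSch.frob_base, Category.comp_id]; rfl) (fun U => ?_)
  have h1 : (root p f hf ≫ FrobSch.frob Y p).app U = (FrobSch.frob Y p).app U ≫ (root p f hf).app U :=
    Scheme.Hom.comp_app _ _ _
  rw [h1]
  change ((FrobSch.frob Y p).app U ≫ (root p f hf).app U) ≫ X.presheaf.map (𝟙 _) = f.app U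
  rw [X.presheaf.map_id, Category.comp_id]
  ext s
  change (rtHom p f hf U) (s ^ p) = (f.app U).hom s
  rw [map_pow]
  exact rt_spec p f hf U s

omit [FrobSch.IsCharP Y p] hp [FrobSch.IsCharP X p] [IsReduced X] in
theorem ext_of_app {Z : Scheme.{u}} {a b : X ⟶ Z} (hb : a.base = b.base)
    (h : ∀ (U : Z.Opens) (s : Γ(Z, U)) (x : X) (hxa : x ∈ a ⁻¹ᵁ U) (hxb : x ∈ b ⁻¹ᵁ U),
      (X.presheaf.germ _ x hxa).hom ((a.app U).hom s) = (X.presheaf.germ _ x hxb).hom ((b.app U).hom s)) : a = b := by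
  refine Scheme.Hom.ext hb (fun U => ?_)
  ext s
  apply TopCat.Presheaf.section_ext X.sheaf
  intro x hx
  have hxa : x ∈ a ⁻¹ᵁ U := by
    have : a ⁻¹ᵁ U = b ⁻¹ᵁ U := by
      ext y
      change a.base y ∈ U ↔ b.base y ∈ U
      rw [hb]
    rw [this]; exact hx
  have h1 := h U s x hxa hx
  rw [CommRingCat.comp_apply]
  refine Eq.trans ?_ h1
  exact TopCat.Presheaf.germ_res_apply X.presheaf _ x hx _

omit [FrobSch.IsCharP Y p] hp [FrobSch.IsCharP X p] [IsReduced X] in
theorem germ_app_congr {Z : Scheme.{u}} {a b : X ⟶ Z} (e : a = b) (U : Z.Opens) (s : Γ(Z, U)) (x : X)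
    (hxa : x ∈ a ⁻¹ᵁ U) (hxb : x ∈ b ⁻¹ᵁ U) :
      (X.presheaf.germ _ x hxa).hom ((a.app U).hom s) = (X.presheaf.germ _ x hxb).hom ((b.app U).hom s) := by
  subst e
  rfl

omit [FrobSch.IsCharP Y p] in
theorem stalk_pow_inj {x : X} {a b : X.presheaf.stalk x} (h : a ^ p = b ^ p) : a = b := by
  have h0 : (p : X.presheaf.stalk x) = 0 := by
    have h := congrArg (X.presheaf.germ ⊤ x trivial).hom (FrobSch.natCast_eq_zero_app X p ⊤)
    rwa [map_natCast, map_zero] at h
  have h1 := (FrobSch.powHom p (X.presheaf.stalk x) h0).map_sub a b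
  simp only [FrobSch.powHom_apply] at h1
  rw [h, sub_self] at h1
  exact sub_eq_zero.mp (pow_eq_zero_iff hp.out.ne_zero |>.mp h1)

omit [FrobSch.IsCharP Y p] in
/-- The Frobenius of a reduced scheme is an epimorphism. -/
theorem frob_epi (Z : Scheme.{u}) (a b : X ⟶ Z) (h : FrobSch.frob X p ≫ a = FrobSch.frob X p ≫ b) :
    a = b := by
  have hb : a.base = b.base := by
    have : (FrobSch.frob X p ≫ a).base = (FrobSch.frob X p ≫ b).base := by rw [h]
    rwa [Scheme.Hom.comp_base, Scheme.Hom.comp_base, FrobSch.frob_base, Category.id_comp, Category.id_comp] at this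
  refine ext_of_app hb (fun U s x hxa hxb => ?_)
  apply stalk_pow_inj p
  have h1 := germ_app_congr h U s x hxa hxb
  refine (map_pow _ _ _).symm.trans (Eq.trans ?_ (map_pow _ _ _))
  exact h1

end K522.FrobRoot
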