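import Groth.Agent.AbVar.K522.StalkPow
import Groth.Agent.AbVar.K522.FrobRoot
import Groth.Agent.Sga67.Rigidity
import Mathlib.AlgebraicGeometry.Morphisms.Proper
import Mathlib.AlgebraicGeometry.Geometrically.Integral
import Mathlib.FieldTheory.Finite.Basic

/-! Multiplication by `p` on a commutative group scheme over a perfect field of characteristic `p` factors through the
absolute Frobenius; the Verschiebung of an abelian variety over a finite field. -/

set_option autoImplicit false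
universe u

namespace K522.Ver

open CategoryTheory CategoryTheory.Limits AlgebraicGeometry MonoidalCategory CartesianMonoidalCategory MonObj GrpObj
open K522.FrobRoot

variable {X Y : Scheme.{u}} (p : ℕ) [hp : Fact p.Prime]

/-- Iterated absolute Frobenius. -/
noncomputable def Fr (X : Scheme.{u}) [FrobSch.IsCharP X p] : ℕ → (X ⟶ X)
  | 0 => 𝟙 X
  | n + 1 => Fr X n ≫ FrobSch.frob X p

theorem Fr_comp [FrobSch.IsCharP X p] [FrobSch.IsCharP Y p] (f : X ⟶ Y) (n : ℕ) : Fr p X n ≫ f = f ≫ Fr p Y n := by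
  induction n with
  | zero => simp [Fr]
  | succ n ih => rw [Fr, Fr, Category.assoc, FrobSch.frob_comp, ← Category.assoc, ih, Category.assoc]

theorem Fr_base [FrobSch.IsCharP X p] (n : ℕ) : (Fr p X n).base = 𝟙 _ := by
  induction n with
  | zero => rfl
  | succ n ih => rw [Fr, Scheme.Hom.comp_base, ih, FrobSch.frob_base, Category.id_comp]

theorem Fr_germ [FrobSch.IsCharP X p] (n : ℕ) (U : X.Opens) (s : Γ(X, U)) (x : X) (hx : x ∈ U)
    (hx' : x ∈ Fr p X n ⁻¹ᵁ U) :
    (X.presheaf.germ _ x hx').hom (((Fr p X n).app U).hom s) = ((X.presheaf.germ U x hx).hom s) ^ (p ^ n) := by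
  induction n with
  | zero =>
    rw [pow_zero, pow_one]
    rfl
  | succ n ih =>
    have hx'' : x ∈ Fr p X n ⁻¹ᵁ U := hx'
    have h1 : (X.presheaf.germ _ x hx').hom (((Fr p X (n + 1)).app U).hom s) =
      (X.presheaf.germ _ x hx'').hom (((Fr p X n).app U).hom (s ^ p)) := rfl
    rw [h1, map_pow, map_pow, ih hx'', pow_succ, pow_mul]

/-- A morphism which is the identity on points and the `p^n`-th power on sections is `Fr p X n`. -/
theorem eq_Fr [FrobSch.IsCharP X p] (n : ℕ) (π : X ⟶ X) (hb : π.base = 𝟙 _) (hle : ∀ U : X.Opens, U ≤ π ⁻¹ᵁ U)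
    (happ : ∀ (U : X.Opens) (s : Γ(X, U)), (π.appLE U U (hle U)).hom s = s ^ (p ^ n)) : π = Fr p X n := by
  refine ext_of_app (hb.trans (Fr_base p n).symm) (fun U s x hxa hxb => ?_)
  have hx : x ∈ U := by
    have : x ∈ (Fr p X n).base ⁻¹' U := hxb
    rw [Fr_base] at this
    exact this
  rw [Fr_germ p n U s x hx, ← map_pow, ← happ]
  rw [Scheme.Hom.appLE, CommRingCat.comp_apply]
  exact (TopCat.Presheaf.germ_res_apply X.presheaf _ x hx _).symm

theorem Fr_cancel [FrobSch.IsCharP X p] [IsReduced X] (n : ℕ) (a b : X ⟶ Y)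
    (h : Fr p X n ≫ a = Fr p X n ≫ b) : a = b := by
  induction n with
  | zero => simpa [Fr] using h
  | succ n ih =>
    apply ih
    rw [Fr, Category.assoc, Category.assoc] at h
    apply frob_epi p
    rw [← Category.assoc, ← Category.assoc, ← Fr_comp, Category.assoc, Category.assoc, h]

variable {k : Type u} [Field k] [CharP k p] [PerfectField k]

section

variable (X : Over (Spec (CommRingCat.of k))) [GrpObj X] [IsCommMonObj X]

theorem exists_fac_pow [FrobSch.IsCharP X.left p] [IsReduced X.left] :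
    ∃ w : X.left ⟶ X.left, w ≫ FrobSch.frob X.left p = ((𝟙 X : X ⟶ X) ^ p).left :=
  ⟨root p _ (StalkPow.stalkMap_pow k p X), root_frob p _ _⟩

theorem exists_fac_pow_pow [FrobSch.IsCharP X.left p] [IsReduced X.left] (n : ℕ) :
    ∃ w : X.left ⟶ X.left, w ≫ Fr p X.left n = ((𝟙 X : X ⟶ X) ^ (p ^ n)).left := by
  obtain ⟨w, hw⟩ := exists_fac_pow p X
  induction n with
  | zero => exact ⟨𝟙 _, by simp [Fr]⟩
  | succ n ih =>
    obtain ⟨v, hv⟩ := ih
    refine ⟨v ≫ w, ?_⟩
    have h1 : ((𝟙 X : X ⟶ X) ^ (p ^ (n + 1))) = ((𝟙 X : X ⟶ X) ^ (p ^ n)) ≫ ((𝟙 X : X ⟶ X) ^ p) := by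
      rw [comp_pow, Category.comp_id, pow_succ, pow_mul]
    rw [h1, Over.comp_left, ← hv, ← hw, Fr, Category.assoc, Category.assoc]
    rw [← Category.assoc w, ← Fr_comp, Category.assoc]

end

omit [PerfectField k] in
theorem Fr_spec (n : ℕ) (hq : ∀ a : k, a ^ (p ^ n) = a) : Fr p (Spec (CommRingCat.of k)) n = 𝟙 _ := by
  apply AlgebraicGeometry.ext_of_isAffine
  ext s
  have h1 : ∀ m : ℕ, ((Fr p (Spec (CommRingCat.of k)) m).appTop).hom s = s ^ (p ^ m) := by
    intro m
    induction m with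
    | zero => rw [pow_zero, pow_one]; rfl
    | succ m ih =>
      have h2 : ((Fr p (Spec (CommRingCat.of k)) (m + 1)).appTop).hom s =
        ((Fr p (Spec (CommRingCat.of k)) m).appTop).hom (s ^ p) := rfl
      rw [h2, map_pow, ih, pow_succ, pow_mul]
  rw [h1]
  apply (Scheme.ΓSpecIso (CommRingCat.of k)).commRingCatIsoToRingEquiv.injective
  rw [map_pow]
  exact hq _

/-- The Verschiebung: over a finite field with `q` elements `[q]` factors through the `q`-Frobenius on both sides. -/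
theorem exists_ver (k : Type u) [Field k] [Finite k] (X : Over (Spec (CommRingCat.of k)))
    [GrpObj X] [IsCommMonObj X] [IsProper X.hom] [GeometricallyIntegral X.hom]
    (πX : X ⟶ X) [IsMonHom πX] (hπb : πX.left.base = 𝟙 _)
    (hπle : ∀ U : X.left.Opens, U ≤ πX.left ⁻¹ᵁ U)
    (hπapp : ∀ (U : X.left.Opens) (s : Γ(X.left, U)), (πX.left.appLE U U (hπle U)).hom s = s ^ Nat.card k) :
    ∃ (v : X ⟶ X) (_ : IsMonHom v), πX ≫ v = (𝟙 X) ^ Nat.card k ∧ v ≫ πX = (𝟙 X) ^ Nat.card k := by
  haveI : Fintype k := Fintype.ofFinite k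
  obtain ⟨p, hp1⟩ := CharP.exists k
  obtain ⟨n, hp, hn⟩ := FiniteField.card k p
  haveI : Fact p.Prime := ⟨hp⟩
  have hcard : Nat.card k = p ^ (n : ℕ) := by rw [Nat.card_eq_fintype_card, hn]
  haveI : FrobSch.IsCharP X.left p := FrobSch.IsCharP.of_hom X.hom p
  haveI : IsIntegral X.left := GeometricallyIntegral.isIntegral_of_subsingleton X.hom
  have hπ : πX.left = Fr p X.left n := eq_Fr p n _ hπb hπle (fun U s => by rw [hπapp, hcard])
  obtain ⟨v, hv⟩ := exists_fac_pow_pow p X n
  have hk : Fr p (Spec (CommRingCat.of k)) n = 𝟙 _ := Fr_spec p n (fun a => by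
    rw [← hcard, Nat.card_eq_fintype_card]; exact FiniteField.pow_card a)
  have hvk : v ≫ X.hom = X.hom := by
    have h1 : v ≫ X.hom ≫ Fr p (Spec (CommRingCat.of k)) n = v ≫ Fr p X.left n ≫ X.hom := by
      rw [Fr_comp]
    rw [hk, Category.comp_id, ← Category.assoc v, hv] at h1
    rw [h1, Over.w]
  let v' : X ⟶ X := Over.homMk v hvk
  have h1 : v' ≫ πX = (𝟙 X) ^ Nat.card k := by
    ext1
    rw [Over.comp_left, hπ, hcard]
    exact hv
  have h2 : πX ≫ v' = (𝟙 X) ^ Nat.card k := by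
    ext1
    rw [Over.comp_left, hπ, hcard, ← hv]
    exact Fr_comp p v n
  have h3 : η[X] ≫ v' = η[X] := by
    have h4 : η[X] ≫ πX = η[X] := IsMonHom.one_hom πX
    rw [← h4, Category.assoc, h2, h4, comp_pow, Category.comp_id, MonObj.one_eq_one, one_pow]
  haveI : IsMonHom v' :=
    { one_hom := h3
      mul_hom := by
        have := Groth.Agent.Sga67.Rigidity.mul_comp_of_pointed X X v' h3
        rw [this, Hom.mul_def]
        congr 1 }
  exact ⟨v', inferInstance, h2, h1⟩

end K522.Ver
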