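import Mathlib.LinearAlgebra.Matrix.Charpoly.Eigs
import Mathlib.LinearAlgebra.Charpoly.ToMatrix
import Mathlib.FieldTheory.IsAlgClosed.AlgebraicClosure
import Mathlib.FieldTheory.IsAlgClosed.Spectrum
import Mathlib.Analysis.Complex.Polynomial.Basic
import Mathlib.FieldTheory.Minpoly.Field

/-!
# Roots of characteristic polynomials in two characteristic zero fields

* `isRoot_of_isRoot_charpoly`: if the characteristic polynomial of `T` (over a domain of characteristic zero) is the
  image of `P : ℤ[X]` and `m(T) = 0`, `m : ℤ[X]`, then every complex root of `P` is a root of `m`.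
-/

set_option autoImplicit false

namespace K522.CharRoots

open Polynomial Matrix

theorem eval_eq_zero {K n : Type*} [Field K] [Fintype n] [DecidableEq n] (A : Matrix n n K) (F : K[X])
    (hF : aeval A F = 0) (β : K) (hβ : A.charpoly.IsRoot β) : F.eval β = 0 := by
  by_contra h
  have h1 : β ∈ spectrum K A := Matrix.mem_spectrum_of_isRoot_charpoly hβ
  have h2 : F.eval β ∈ spectrum K (aeval A F) := spectrum.subset_polynomial_aeval A F ⟨β, h1, rfl⟩
  rw [hF, spectrum.mem_iff, sub_zero] at h2
  exact h2 ((IsUnit.mk0 _ h).map (algebraMap K (Matrix n n K)))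

/-- Mapping a polynomial identity `F(T) = 0` to a matrix over an extension. -/
theorem matrix_aeval_eq_zero {R M K : Type*} [CommRing R] [AddCommGroup M] [Module R M] [Module.Free R M]
    [Module.Finite R M] [Field K] (i : R →+* K) (T : Module.End R M) (F : R[X]) (hF : aeval T F = 0)
    {ι : Type*} [Fintype ι] [DecidableEq ι] (b : Module.Basis ι R M) :
    aeval ((LinearMap.toMatrix b b T).map i) (F.map i) = 0 := by
  have h1 : LinearMap.toMatrixAlgEquiv b (aeval T F) = aeval (LinearMap.toMatrixAlgEquiv b T) F :=
    (Polynomial.aeval_algHom_apply (LinearMap.toMatrixAlgEquiv b).toAlgHom T _).symm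
  rw [hF, map_zero] at h1
  have h3 : (algebraMap K (Matrix ι ι K)).comp i =
      (i.mapMatrix (m := ι)).comp (algebraMap R (Matrix _ _ R)) := by
    ext a x y
    simp only [RingHom.comp_apply, Matrix.algebraMap_matrix_apply, RingHom.mapMatrix_apply, Matrix.map_apply]
    split_ifs <;> simp
  have h4 := Polynomial.map_aeval_eq_aeval_map h3 F (LinearMap.toMatrixAlgEquiv b T)
  rw [← h1, map_zero] at h4
  exact h4.symm

theorem isRoot_of_isRoot_charpoly {R M : Type*} [CommRing R] [IsDomain R] [CharZero R] [AddCommGroup M] [Module R M]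
    [Module.Free R M] [Module.Finite R M] (T : Module.End R M) (P m : ℤ[X])
    (hP : T.charpoly = P.map (Int.castRingHom R)) (hm : aeval T (m.map (Int.castRingHom R)) = 0) (α : ℂ)
    (hα : (P.map (Int.castRingHom ℂ)).eval α = 0) : (m.map (Int.castRingHom ℂ)).eval α = 0 := by
  classical
  have hPm : P.Monic := by
    have h1 : (P.map (Int.castRingHom R)).Monic := hP ▸ LinearMap.charpoly_monic T
    exact Polynomial.monic_of_injective (RingHom.injective_int (Int.castRingHom R)) h1
  let b := Module.Free.chooseBasis R M
  let K := AlgebraicClosure (FractionRing R)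
  let i : R →+* K := (algebraMap (FractionRing R) K).comp (algebraMap R (FractionRing R))
  haveI : CharZero K := charZero_of_injective_ringHom (f := i)
    ((algebraMap (FractionRing R) K).injective.comp (IsFractionRing.injective R (FractionRing R)))
  let A := (LinearMap.toMatrix b b T).map i
  have hA : A.charpoly = P.map (Int.castRingHom K) := by
    have h1 : A.charpoly = (LinearMap.toMatrix b b T).charpoly.map i := Matrix.charpoly_map _ i
    rw [h1, LinearMap.charpoly_toMatrix, hP, Polynomial.map_map]
    congr 1
    exact RingHom.ext_int _ _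
  have hAm : aeval A (m.map (Int.castRingHom K)) = 0 := by
    have h1 := matrix_aeval_eq_zero i T _ hm b
    rw [Polynomial.map_map] at h1
    rw [← h1]
    congr 2
    exact RingHom.ext_int _ _
  have hcast : ∀ (L : Type) [Field L] [Algebra ℚ L] (F : ℤ[X]) (x : L),
      aeval x (F.map (Int.castRingHom ℚ)) = (F.map (Int.castRingHom L)).eval x := fun L _ _ F x => by
    rw [aeval_def, eval₂_map, eval_map]
    congr 1
    exact RingHom.ext_int _ _
  have hcastK : ∀ (F : ℤ[X]) (x : K),
      aeval x (F.map (Int.castRingHom ℚ)) = (F.map (Int.castRingHom K)).eval x := fun F x => by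
    rw [aeval_def, eval₂_map, eval_map]
    congr 1
    exact RingHom.ext_int _ _
  have hPα : aeval α (P.map (Int.castRingHom ℚ)) = 0 := by rw [hcast]; exact hα
  have hint : IsIntegral ℚ α := ⟨P.map (Int.castRingHom ℚ), hPm.map _, hPα⟩
  have hirr := minpoly.irreducible hint
  obtain ⟨β, hβ⟩ := IsAlgClosed.exists_aeval_eq_zero K (minpoly ℚ α) hirr.degree_pos.ne'
  have hmin : minpoly ℚ α = minpoly ℚ β := minpoly.eq_of_irreducible_of_monic hirr hβ (minpoly.monic hint)
  have hPβ : A.charpoly.IsRoot β := by
    rw [hA, Polynomial.IsRoot.def, ← hcastK]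
    obtain ⟨c, hc⟩ := minpoly.dvd ℚ α hPα
    rw [hc, map_mul, hβ, zero_mul]
  have hmβ : aeval β (m.map (Int.castRingHom ℚ)) = 0 := by
    rw [hcastK]
    exact eval_eq_zero A _ hAm β hPβ
  obtain ⟨c, hc⟩ := minpoly.dvd ℚ β hmβ
  rw [← hcast, hc, map_mul, ← hmin, minpoly.aeval, zero_mul]

end K522.CharRoots
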