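import Groth.Agent.AbVar.K522.Bridge
import Groth.Prelude.Def_EndTate

/-!
# Cayley–Hamilton for endomorphisms of abelian varieties

If `P : ℤ[X]` maps to the characteristic polynomial of `T_l(f)` then `P(f) = 0`; relation between polynomials in `f` and in
`T_l(f)`.
-/

set_option autoImplicit false
universe u

open CategoryTheory CategoryTheory.Limits MonoidalCategory CartesianMonoidalCategory AlgebraicGeometry MonObj GrpObj

namespace K522.CharZero

open AbDual Polynomial

variable {k Ω : Type u} [Field k] [Field Ω] [Algebra k Ω] {X : Over (Spec (CommRingCat.of k))} [GrpObj X]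
  [IsCommMonObj X] {l : ℕ} [Fact l.Prime]

theorem eval₂_ringHom {A B : Type*} [Ring A] [Ring B] (t : A →+* B) (F : ℤ[X]) (a : A) :
    t (F.eval₂ (Int.castRingHom A) a) = F.eval₂ (Int.castRingHom B) (t a) := by
  rw [Polynomial.hom_eval₂]
  congr 1
  exact RingHom.ext_int _ _

theorem aeval_map_int {R B : Type*} [CommRing R] [Ring B] [Algebra R B] (F : ℤ[X]) (b : B) :
    aeval b (F.map (Int.castRingHom R)) = F.eval₂ (Int.castRingHom B) b := by
  rw [aeval_def, eval₂_map]
  congr 1
  exact RingHom.ext_int _ _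

/-- Evaluation of an integral polynomial on the Tate module. -/
theorem tateRep_eval₂ (F : ℤ[X]) (π : EndAV.End X) :
    EndAV.End.tateRep l (SGA7.pt (K := k) Ω) (F.eval₂ (Int.castRingHom (EndAV.End X)) π) =
      aeval (tateMapₗ (l := l) (T := SGA7.pt (K := k) Ω) π.toHom) (F.map (Int.castRingHom ℤ_[l])) := by
  rw [eval₂_ringHom, aeval_map_int]
  rfl

variable [IsProper X.hom] [GeometricallyIntegral X.hom] [IsAlgClosed Ω]

theorem tateRep_injective (hl : (l : k) ≠ 0) :
    Function.Injective (EndAV.End.tateRep (A := X) l (SGA7.pt (K := k) Ω)) :=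
  Bridge.injective_tateMap (X := X) (Y := X) Ω hl

/-- An integral polynomial kills an endomorphism iff it kills its action on the Tate module. -/
theorem eval₂_eq_zero_iff (hl : (l : k) ≠ 0) (F : ℤ[X]) (π : EndAV.End X) :
    F.eval₂ (Int.castRingHom (EndAV.End X)) π = 0 ↔
      aeval (tateMapₗ (l := l) (T := SGA7.pt (K := k) Ω) π.toHom) (F.map (Int.castRingHom ℤ_[l])) = 0 := by
  rw [← tateRep_eval₂]
  constructor
  · intro h
    rw [h, map_zero]
  · intro h
    exact tateRep_injective hl (h.trans (map_zero _).symm)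

/-- **Cayley–Hamilton.** -/
theorem eval₂_charpoly (hl : (l : k) ≠ 0) (π : EndAV.End X) [Module.Free ℤ_[l] (TateMod X l (SGA7.pt (K := k) Ω))]
    [Module.Finite ℤ_[l] (TateMod X l (SGA7.pt (K := k) Ω))] (P : ℤ[X])
    (hP : (tateMapₗ (l := l) (T := SGA7.pt (K := k) Ω) π.toHom).charpoly = P.map (Int.castRingHom ℤ_[l])) :
    P.eval₂ (Int.castRingHom (EndAV.End X)) π = 0 := by
  rw [eval₂_eq_zero_iff (l := l) (Ω := Ω) hl, ← hP]
  exact LinearMap.aeval_self_charpoly _

end K522.CharZero
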