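import Groth.Agent.AbVar.K522.Isom
import Mathlib.LinearAlgebra.BilinearForm.TensorProduct
import Mathlib.RingTheory.TensorProduct.Basic
import Mathlib.RingTheory.Polynomial.GaussLemma
import Mathlib.FieldTheory.IsAlgClosed.AlgebraicClosure
import Mathlib.RingTheory.Adjoin.Basic
import Mathlib.RingTheory.Polynomial.RationalRoot
import Mathlib.Analysis.Complex.Polynomial.Basic
import Mathlib.LinearAlgebra.Matrix.Charpoly.Minpoly

/-!
# The Riemann hypothesis from a positive form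

`E` a ring with a symmetric positive definite biadditive form `b : E → E → ℤ`, `a : E` with
`b (a * x) (a * y) = q * b x y`, `a` a root of a monic integral polynomial.
* `exists_squarefree`: there is a monic `m : ℤ[X]`, squarefree over `ℚ`, with `m(a) = 0`, all of whose complex roots have
  absolute value `√q`.
* `isRoot_of_isRoot_charpoly`: if `m(T) = 0` then every complex root of the characteristic polynomial of `T` is a root
  of `m`.
-/

set_option autoImplicit false

namespace K522.RHAlg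

open Module Matrix Polynomial TensorProduct

theorem exists_tmul {M : Type*} [AddCommGroup M] (x : ℚ ⊗[ℤ] M) :
    ∃ (n : ℕ) (e : M), n ≠ 0 ∧ x = ((n : ℚ)⁻¹) ⊗ₜ e := by
  induction x using TensorProduct.induction_on with
  | zero => exact ⟨1, 0, one_ne_zero, by simp⟩
  | tmul r e =>
    refine ⟨r.den, r.num • e, r.den_nz, ?_⟩
    rw [TensorProduct.tmul_smul, TensorProduct.smul_tmul', zsmul_eq_mul]
    congr 1
    exact (Rat.num_div_den r).symm.trans (div_eq_mul_inv _ _)
  | add x y hx hy =>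
    obtain ⟨n, e, hn, rfl⟩ := hx
    obtain ⟨m, f, hm, rfl⟩ := hy
    refine ⟨n * m, (m : ℤ) • e + (n : ℤ) • f, mul_ne_zero hn hm, ?_⟩
    rw [TensorProduct.tmul_add, TensorProduct.tmul_smul, TensorProduct.tmul_smul, TensorProduct.smul_tmul',
      TensorProduct.smul_tmul', zsmul_eq_mul, zsmul_eq_mul]
    have hn' : (n : ℚ) ≠ 0 := by exact_mod_cast hn
    have hm' : (m : ℚ) ≠ 0 := by exact_mod_cast hm
    congr 2
    · push_cast; field_simp
    · push_cast; field_simp

theorem minpoly_finite {S : Type*} [Ring S] [Algebra ℚ S] [FiniteDimensional ℚ S] (B : LinearMap.BilinForm ℚ S)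
    (hs : ∀ v w, B v w = B w v) (hp : ∀ v, v ≠ 0 → 0 < B v v) (x : S) (q : ℚ) (hq0 : q ≠ 0)
    (hq : ∀ v w, B (x * v) (x * w) = q * B v w) :
    Squarefree (minpoly ℚ x) ∧ ∀ α : ℂ, ((minpoly ℚ x).map (algebraMap ℚ ℂ)).eval α = 0 → ‖α‖ ^ 2 = q := by
  let T : Module.End ℚ S := Algebra.lmul ℚ S x
  have hT : ∀ v w, B (T v) (T w) = q * B v w := fun v w => hq v w
  have hmin : minpoly ℚ T = minpoly ℚ x := minpoly.algHom_eq (Algebra.lmul ℚ S) Algebra.lmul_injective x
  have hss := Isom.isSemisimple B T q hs hp hT hq0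
  refine ⟨hmin ▸ hss.minpoly_squarefree, fun α hα => ?_⟩
  refine Isom.norm_sq_of_isRoot_charpoly B T q hs hp hT α ?_
  rw [← hmin] at hα
  exact Polynomial.eval_eq_zero_of_dvd_of_eval_eq_zero
    (Polynomial.map_dvd _ (LinearMap.minpoly_dvd_charpoly T)) hα

theorem minpoly_alg {R : Type*} [Ring R] [Algebra ℚ R] (B : LinearMap.BilinForm ℚ R)
    (hs : ∀ v w, B v w = B w v) (hp : ∀ v, v ≠ 0 → 0 < B v v) (x : R) (hx : IsIntegral ℚ x) (q : ℚ) (hq0 : q ≠ 0)
    (hq : ∀ v w, B (x * v) (x * w) = q * B v w) :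
    Squarefree (minpoly ℚ x) ∧ ∀ α : ℂ, ((minpoly ℚ x).map (algebraMap ℚ ℂ)).eval α = 0 → ‖α‖ ^ 2 = q := by
  haveI : FiniteDimensional ℚ (Algebra.adjoin ℚ {x}) := Module.Finite.iff_fg.mpr hx.fg_adjoin_singleton
  let x' : Algebra.adjoin ℚ {x} := ⟨x, Algebra.subset_adjoin rfl⟩
  have h := minpoly_finite (B.compl₁₂ (Algebra.adjoin ℚ {x}).val.toLinearMap (Algebra.adjoin ℚ {x}).val.toLinearMap)
    (fun v w => hs _ _) (fun v hv => hp _ (fun h => hv (Subtype.ext h))) x' q hq0 (fun v w => hq _ _)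
  have h1 : minpoly ℚ x' = minpoly ℚ x :=
    (minpoly.algHom_eq (Algebra.adjoin ℚ {x}).val Subtype.val_injective x').symm
  rwa [h1] at h

section form

variable {E : Type*} [Ring E] (b : E → E → ℤ) (hadd : ∀ x y z, b (x + y) z = b x z + b y z)
  (hsymm : ∀ x y, b x y = b y x)

include hadd hsymm in
theorem exists_form : ∃ B : LinearMap.BilinForm ℚ (ℚ ⊗[ℤ] E), ∀ (r s : ℚ) (x y : E),
    B (r ⊗ₜ x) (s ⊗ₜ y) = r * s * b x y := by
  have hadd' : ∀ x y z, b x (y + z) = b x y + b x z := fun x y z => by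
    rw [hsymm, hadd, hsymm y, hsymm z]
  let B1 : E → (E →ₗ[ℤ] ℤ) := fun x => (AddMonoidHom.mk' (b x) (hadd' x)).toIntLinearMap
  let B : LinearMap.BilinForm ℤ E := (AddMonoidHom.mk' B1 (fun x y => LinearMap.ext fun z => hadd x y z)).toIntLinearMap
  refine ⟨B.baseChange ℚ, fun r s x y => ?_⟩
  rw [LinearMap.BilinForm.baseChange_tmul, zsmul_eq_mul, mul_comm]
  rfl

variable (hpos : ∀ x, x ≠ 0 → 0 < b x x)

include hadd hsymm hpos in
/-- The main algebraic statement. -/
theorem exists_squarefree (a : E) (q : ℕ) (hq : ∀ x y, b (a * x) (a * y) = q * b x y) (hq0 : q ≠ 0) (P : ℤ[X])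
    (hP : P.Monic) (hPa : P.eval₂ (Int.castRingHom E) a = 0) :
    ∃ m : ℤ[X], m.Monic ∧ Squarefree (m.map (Int.castRingHom ℚ)) ∧ m.eval₂ (Int.castRingHom E) a = 0 ∧
      (∀ F : ℤ[X], F.eval₂ (Int.castRingHom E) a = 0 → m ∣ F) ∧
      ∀ α : ℂ, (m.map (Int.castRingHom ℂ)).eval α = 0 → ‖α‖ ^ 2 = q := by
  obtain ⟨B, hB⟩ := exists_form b hadd hsymm
  have hBs : ∀ v w, B v w = B w v := fun v w => by
    obtain ⟨n, e, -, rfl⟩ := exists_tmul v
    obtain ⟨m, f, -, rfl⟩ := exists_tmul w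
    rw [hB, hB, hsymm]
    ring
  have hBp : ∀ v, v ≠ 0 → 0 < B v v := fun v hv => by
    obtain ⟨n, e, hn, rfl⟩ := exists_tmul v
    have he : e ≠ 0 := by
      rintro rfl
      exact hv (TensorProduct.tmul_zero _ _)
    rw [hB]
    have h1 : (0 : ℚ) < b e e := by exact_mod_cast hpos e he
    have h2 : (0 : ℚ) < n := by exact_mod_cast Nat.pos_of_ne_zero hn
    positivity
  let j : E →+* ℚ ⊗[ℤ] E := (Algebra.TensorProduct.includeRight : E →ₐ[ℤ] ℚ ⊗[ℤ] E).toRingHom
  have hj : ∀ x, j x = (1 : ℚ) ⊗ₜ x := fun x => rfl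
  have hjinj : Function.Injective j := by
    rw [injective_iff_map_eq_zero]
    intro x hx
    by_contra h
    have h1 := hB 1 1 x x
    rw [← hj, hx, map_zero, one_mul, one_mul] at h1
    have h2 : b x x = 0 := by exact_mod_cast h1.symm
    exact (hpos x h).ne' h2
  have hBa : ∀ v w, B (j a * v) (j a * w) = q * B v w := fun v w => by
    obtain ⟨n, e, -, rfl⟩ := exists_tmul v
    obtain ⟨m, f, -, rfl⟩ := exists_tmul w
    rw [hj, Algebra.TensorProduct.tmul_mul_tmul, Algebra.TensorProduct.tmul_mul_tmul, one_mul, one_mul, hB, hB, hq]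
    push_cast
    ring
  have hev : ∀ F : ℤ[X], aeval (j a) (F.map (Int.castRingHom ℚ)) = j (F.eval₂ (Int.castRingHom E) a) := fun F => by
    rw [Polynomial.aeval_def, Polynomial.eval₂_map, Polynomial.hom_eval₂]
    congr 1
    exact RingHom.ext_int _ _
  have hPj : aeval (j a) (P.map (Int.castRingHom ℚ)) = 0 := by rw [hev, hPa, map_zero]
  have hint : IsIntegral ℚ (j a) := ⟨P.map (Int.castRingHom ℚ), hP.map _, hPj⟩
  obtain ⟨hsq, hroots⟩ := minpoly_alg B hBs hBp (j a) hint (q : ℚ) (by exact_mod_cast hq0) hBa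
  obtain ⟨m, hm⟩ := IsIntegrallyClosed.eq_map_mul_C_of_dvd (R := ℤ) (K := ℚ) hP
    (g := minpoly ℚ (j a)) (minpoly.dvd ℚ _ hPj)
  rw [(minpoly.monic hint).leadingCoeff, C_1, mul_one] at hm
  have hm' : m.map (Int.castRingHom ℚ) = minpoly ℚ (j a) := hm
  have hmm : m.Monic := by
    refine Polynomial.monic_of_injective (RingHom.injective_int (Int.castRingHom ℚ)) ?_
    rw [hm']; exact minpoly.monic hint
  refine ⟨m, hmm, hm' ▸ hsq, ?_, fun F hF => ?_, fun α hα => ?_⟩
  · apply hjinj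
    rw [← hev, hm', minpoly.aeval, map_zero]
  · have h1 : m.map (Int.castRingHom ℚ) ∣ F.map (Int.castRingHom ℚ) := by
      rw [hm']
      exact minpoly.dvd ℚ _ (by rw [hev, hF, map_zero])
    exact (Polynomial.map_dvd_map _ (RingHom.injective_int (Int.castRingHom ℚ)) hmm).mp h1
  · refine (hroots α ?_).trans (by norm_cast)
    have h1 : m.map (Int.castRingHom ℂ) = (minpoly ℚ (j a)).map (algebraMap ℚ ℂ) := by
      rw [← hm', Polynomial.map_map]
      congr 1
    rwa [← h1]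

end form

end K522.RHAlg
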