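import Groth.Agent.AbVar.K516.FrobSS
import Groth.Agent.AbVar.K522.RHAlg
import Groth.Agent.AbVar.K522.CharRoots
import Groth.Agent.AbVar.K522.CharZero

/-!
# The Riemann hypothesis for abelian varieties (`S16838`)

* `exists_min`: the minimal polynomial of the Frobenius endomorphism: monic, integral, squarefree over `ℚ`, complex roots of
  absolute value `√q`.
* `norm_sq_of_root`: roots of the characteristic polynomial of `T_l(π)`.
-/

set_option autoImplicit false
universe u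

open CategoryTheory CategoryTheory.Limits MonoidalCategory CartesianMonoidalCategory AlgebraicGeometry MonObj GrpObj

namespace K522.RH

open AbDual K520.Frob Polynomial

variable {k : Type u} [Field k] {X : Over (Spec (CommRingCat.of k))} [GrpObj X] [IsCommMonObj X] [IsProper X.hom]
  [GeometricallyIntegral X.hom]

/-- The minimal polynomial of Frobenius. -/
theorem exists_min (q : ℕ) (hq : q ≠ 0) (π : EndAV.End X) (hπ : IsFrob q π.toHom.left) (P : ℤ[X]) (hP : P.Monic)
    (hPπ : P.eval₂ (Int.castRingHom (EndAV.End X)) π = 0) :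
    ∃ m : ℤ[X], m.Monic ∧ Squarefree (m.map (Int.castRingHom ℚ)) ∧ m.eval₂ (Int.castRingHom (EndAV.End X)) π = 0 ∧
      (∀ F : ℤ[X], F.eval₂ (Int.castRingHom (EndAV.End X)) π = 0 → m ∣ F) ∧
      ∀ α : ℂ, (m.map (Int.castRingHom ℂ)).eval α = 0 → ‖α‖ ^ 2 = q := by
  obtain ⟨β, h1, h2, h3⟩ := K516.FrobSS.exists_homForm X X
  exact RHAlg.exists_squarefree (E := EndAV.End X) (fun a b => β a b)
    (fun x y z => by rw [map_add]; rfl) h1 h2 π q
    (fun x y => h3 q π (fun ℓ => K516.FrobPull.pull_eq hπ ℓ) x y) hq P hP hPπ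

variable {Ω : Type u} [Field Ω] [Algebra k Ω] [IsAlgClosed Ω] {l : ℕ} [Fact l.Prime]

/-- Roots of the characteristic polynomial of Frobenius. -/
theorem norm_sq_of_root (hl : (l : k) ≠ 0) (q : ℕ) (hq : q ≠ 0) (π : EndAV.End X) (hπ : IsFrob q π.toHom.left)
    [Module.Free ℤ_[l] (TateMod X l (SGA7.pt (K := k) Ω))] [Module.Finite ℤ_[l] (TateMod X l (SGA7.pt (K := k) Ω))]
    (P : ℤ[X])
    (hP : (tateMapₗ (l := l) (T := SGA7.pt (K := k) Ω) π.toHom).charpoly = P.map (Int.castRingHom ℤ_[l])) (α : ℂ)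
    (hα : (P.map (Int.castRingHom ℂ)).eval α = 0) : ‖α‖ ^ 2 = q := by
  have hPm : P.Monic := by
    have h1 : (P.map (Int.castRingHom ℤ_[l])).Monic := hP ▸ LinearMap.charpoly_monic _
    exact Polynomial.monic_of_injective (RingHom.injective_int _) h1
  obtain ⟨m, -, -, hm3, -, hm5⟩ := exists_min q hq π hπ P hPm (CharZero.eval₂_charpoly (l := l) (Ω := Ω) hl π P hP)
  refine hm5 α ?_
  exact CharRoots.isRoot_of_isRoot_charpoly _ P m hP
    ((CharZero.eval₂_eq_zero_iff (l := l) (Ω := Ω) hl m π).mp hm3) α hα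

/-- `‖α‖ = √q`. -/
theorem norm_of_mem_roots (hl : (l : k) ≠ 0) (q : ℕ) (hq : q ≠ 0) (π : EndAV.End X) (hπ : IsFrob q π.toHom.left)
    [Module.Free ℤ_[l] (TateMod X l (SGA7.pt (K := k) Ω))] [Module.Finite ℤ_[l] (TateMod X l (SGA7.pt (K := k) Ω))]
    (P : ℤ[X])
    (hP : (tateMapₗ (l := l) (T := SGA7.pt (K := k) Ω) π.toHom).charpoly = P.map (Int.castRingHom ℤ_[l])) (α : ℂ)
    (hα : α ∈ (P.map (Int.castRingHom ℂ)).roots) : ‖α‖ = Real.sqrt q := by
  have h1 := norm_sq_of_root (Ω := Ω) hl q hq π hπ P hP α (Polynomial.isRoot_of_mem_roots hα)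
  rw [← h1, Real.sqrt_sq (norm_nonneg α)]

end K522.RH
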