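import Mathlib.RingTheory.SimpleModule.Basic
import Mathlib.RingTheory.SimpleModule.WedderburnArtin
import Mathlib.LinearAlgebra.FiniteDimensional.Basic
import Mathlib.LinearAlgebra.Projection
import Mathlib.LinearAlgebra.Pi

/-!
# The double centralizer theorem and Tate's argument

`E` a semisimple subalgebra of `End_K(V)`, `V` finite-dimensional.
* `mem_of_commute`: an endomorphism commuting with everything that commutes with `E` lies in `E`.
* `exists_idempotent`: `range u = range e` with `e ∈ E` idempotent, for `u ∈ E`.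
* `exists_compl`, `mem_of_commute_of_graph`: the formal part of Tate's theorem: if every stable subspace of `V` (of
  `V × V`) is the range of an element of `E` (of `M₂(E)`), then stable subspaces have stable complements and the commutant
  of the operators is `E`.
-/

set_option autoImplicit false

namespace K522.DoubleCent

open Module

variable {K V : Type*} [Field K] [AddCommGroup V] [Module K V] (E : Subalgebra K (Module.End K V))

theorem smul_def (e : E) (v : V) : e • v = (e : Module.End K V) v := rfl

/-- The double centralizer theorem. -/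
theorem mem_of_commute [FiniteDimensional K V] [IsSemisimpleRing E] (φ : Module.End K V)
    (h : ∀ c : Module.End K V, (∀ e ∈ E, ∀ v, c (e v) = e (c v)) → ∀ v, c (φ v) = φ (c v)) : φ ∈ E := by
  let n := finrank K V
  let b := finBasis K V
  let x : Fin n → V := b
  let N : Submodule E (Fin n → V) := Submodule.span E {x}
  obtain ⟨q, hq⟩ := exists_isCompl N
  let p : (Fin n → V) →ₗ[E] (Fin n → V) := N.projection q hq
  have hp1 : ∀ y, p y ∈ N := fun y => Submodule.coe_projectionOnto_apply hq y ▸ (N.projectionOnto q hq y).2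
  have hp2 : p x = x := Submodule.projection_apply_of_mem_left hq (Submodule.mem_span_singleton_self x)
  -- the matrix coefficients of `p`
  let c : Fin n → Fin n → Module.End K V := fun i j =>
    { toFun := fun v => p (Pi.single j v) i
      map_add' := fun v w => by rw [Pi.single_add, map_add, Pi.add_apply]
      map_smul' := fun r v => by
        have h1 : (Pi.single j (r • v) : Fin n → V) = (algebraMap K E r) • (Pi.single j v : Fin n → V) := by
          rw [← Pi.single_smul]
          rfl
        rw [h1, map_smul]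
        rfl }
  have hc : ∀ i j, ∀ e ∈ E, ∀ v, c i j (e v) = e (c i j v) := fun i j e he v => by
    have h1 : (Pi.single j (e v) : Fin n → V) = (⟨e, he⟩ : E) • (Pi.single j v : Fin n → V) := by
      rw [← Pi.single_smul]
      rfl
    change p (Pi.single j (e v)) i = e (p (Pi.single j v) i)
    rw [h1, map_smul]
    rfl
  have hpc : ∀ (y : Fin n → V) i, p y i = ∑ j, c i j (y j) := fun y i => by
    have h1 : y = ∑ j, Pi.single j (y j) := (Finset.univ_sum_single y).symm
    conv_lhs => rw [h1]
    rw [map_sum, Finset.sum_apply]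
    rfl
  have hφ : ∀ y : Fin n → V, p (fun i => φ (y i)) = fun i => φ (p y i) := fun y => by
    funext i
    rw [hpc, hpc, map_sum]
    refine Finset.sum_congr rfl fun j _ => h (c i j) (hc i j) (y j)
  have h2 : (fun i => φ (x i)) ∈ N := by
    have h3 := hφ x
    rw [hp2] at h3
    rw [← h3]
    exact hp1 _
  obtain ⟨e, he⟩ := Submodule.mem_span_singleton.mp h2
  have h4 : (e : Module.End K V) = φ := b.ext fun i => congrFun he i
  rw [← h4]
  exact e.2

/-- The range of an element of a semisimple algebra of operators is the range of an idempotent of the algebra. -/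
theorem exists_idempotent [IsSemisimpleRing E] (u : Module.End K V) (hu : u ∈ E) :
    ∃ e ∈ E, e * e = e ∧ LinearMap.range e = LinearMap.range u := by
  obtain ⟨e, he, h⟩ := IsSemisimpleRing.ideal_eq_span_idempotent (R := Eᵐᵒᵖ) (Ideal.span {MulOpposite.op ⟨u, hu⟩})
  have h1 : MulOpposite.op ⟨u, hu⟩ ∈ Ideal.span {e} := h ▸ Ideal.mem_span_singleton_self _
  have h2 : e ∈ Ideal.span {(MulOpposite.op ⟨u, hu⟩ : Eᵐᵒᵖ)} := by
    rw [h]; exact Ideal.mem_span_singleton_self _
  obtain ⟨a, ha⟩ := Ideal.mem_span_singleton'.mp h1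
  obtain ⟨b, hb⟩ := Ideal.mem_span_singleton'.mp h2
  have ha' : (⟨u, hu⟩ : E) = e.unop * a.unop := by
    have := congrArg MulOpposite.unop ha
    rw [MulOpposite.unop_mul] at this
    exact this.symm
  have hb' : e.unop = (⟨u, hu⟩ : E) * b.unop := by
    have := congrArg MulOpposite.unop hb
    rw [MulOpposite.unop_mul] at this
    exact this.symm
  have hu1 : u = (e.unop : Module.End K V) * (a.unop : Module.End K V) := congrArg Subtype.val ha'
  have he1 : (e.unop : Module.End K V) = u * (b.unop : Module.End K V) := congrArg Subtype.val hb'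
  refine ⟨e.unop, e.unop.2, ?_, le_antisymm ?_ ?_⟩
  · have := congrArg MulOpposite.unop he.eq
    rw [MulOpposite.unop_mul] at this
    exact congrArg Subtype.val this
  · rintro _ ⟨v, rfl⟩
    rw [he1]
    exact ⟨_, rfl⟩
  · rintro _ ⟨v, rfl⟩
    rw [hu1]
    exact ⟨_, rfl⟩

/-- Stable subspaces which are ranges of elements of `E` have stable complements. -/
theorem exists_compl [IsSemisimpleRing E] {ι : Type*} (ρ : ι → Module.End K V)
    (hρ : ∀ i, ∀ e ∈ E, ∀ v, ρ i (e v) = e (ρ i v)) (W : Submodule K V)
    (hW : ∃ u ∈ E, LinearMap.range u = W) :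
    ∃ W' : Submodule K V, IsCompl W W' ∧ ∀ i, W'.map (ρ i) ≤ W' := by
  obtain ⟨u, hu, hW⟩ := hW
  obtain ⟨e, he, he2, heW⟩ := exists_idempotent E u hu
  rw [hW] at heW
  refine ⟨LinearMap.ker e, ?_, ?_⟩
  · rw [← heW]
    have hid : ∀ v, e (e v) = e v := fun v => LinearMap.congr_fun he2 v
    refine ⟨?_, ?_⟩
    · rw [Submodule.disjoint_def]
      rintro _ ⟨v, rfl⟩ hv
      rw [LinearMap.mem_ker, hid] at hv
      exact hv
    · rw [codisjoint_iff, eq_top_iff]
      intro v _
      have h1 : v = e v + (v - e v) := by abel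
      rw [h1]
      refine Submodule.add_mem_sup ⟨v, rfl⟩ ?_
      rw [LinearMap.mem_ker, map_sub, hid, sub_self]
  · rintro i _ ⟨v, hv, rfl⟩
    have hv' : e v = 0 := hv
    rw [LinearMap.mem_ker, ← hρ i e he, hv', map_zero]

/-- Tate's graph argument. -/
theorem mem_of_commute_of_graph [FiniteDimensional K V] [IsSemisimpleRing E] (φ : Module.End K V)
    (h : ∃ u : Module.End K (V × V), LinearMap.range u = φ.graph ∧
      ∀ c : Module.End K V, (∀ e ∈ E, ∀ v, c (e v) = e (c v)) → ∀ x, c.prodMap c (u x) = u (c.prodMap c x)) :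
    φ ∈ E := by
  obtain ⟨u, hu, hc⟩ := h
  refine mem_of_commute E φ fun c hcE v => ?_
  have h1 : (v, φ v) ∈ φ.graph := by rw [LinearMap.mem_graph_iff]
  rw [← hu] at h1
  obtain ⟨x, hx⟩ := h1
  have h2 : (c.prodMap c) (v, φ v) ∈ φ.graph := by
    rw [← hx, hc c hcE, ← hu]
    exact ⟨_, rfl⟩
  rw [LinearMap.mem_graph_iff] at h2
  exact h2

end K522.DoubleCent
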