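import Groth.Prelude.Def_EndTate
import Groth.Agent.AbVar.K522.SsBC
import Groth.Agent.AbVar.K522.DoubleCent
import Groth.Agent.AbVar.K522.RHAlg
import Mathlib.LinearAlgebra.TensorProduct.Tower

/-!
# The algebra generated by endomorphisms in the `l`-adic representation

* `isSemisimpleRing_adjoin`: `g : A →ₐ[ℚ] S`, `S` an `L`-algebra, `A` semisimple and finite-dimensional: the
  `L`-subalgebra generated by the image of `A` is semisimple.
* `vRep : End X →+* End (V_l X)`, `EE` the `ℚ_l`-subalgebra generated by the image, `mem_EE_iff`, `isSemisimpleRing_EE`.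
-/

set_option autoImplicit false
universe u

open TensorProduct

namespace K522.VRep

section generic

/-- The span of the image of a ring is a subalgebra. -/
theorem adjoin_toSubmodule {R0 L S : Type*} [Ring R0] [Field L] [Ring S] [Algebra L S] (ψ : R0 →+* S) :
    Subalgebra.toSubmodule (Algebra.adjoin L (Set.range ψ)) = Submodule.span L (Set.range ψ) := by
  rw [Algebra.adjoin_eq_span]
  congr 1
  have h1 : Submonoid.closure (Set.range ψ) = MonoidHom.mrange (ψ : R0 →* S) := by
    have : Set.range ψ = (MonoidHom.mrange (ψ : R0 →* S) : Set S) := rfl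
    rw [this, Submonoid.closure_eq]
  rw [h1]
  rfl

variable {A L S : Type*} [Ring A] [Algebra ℚ A] [Field L] [Algebra ℚ L] [Ring S] [Algebra L S] [Algebra ℚ S]
  [IsScalarTower ℚ L S]

theorem isSemisimpleRing_adjoin (g : A →ₐ[ℚ] S) [IsSemisimpleRing A] [Module.Finite ℚ A] :
    IsSemisimpleRing (Algebra.adjoin L (Set.range g)) := by
  let f : L ⊗[ℚ] A →ₐ[L] S := Algebra.TensorProduct.lift (Algebra.ofId L S) g fun x y => Algebra.commutes x _
  have hf : f.range = Algebra.adjoin L (Set.range g) := by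
    apply le_antisymm
    · rintro _ ⟨x, rfl⟩
      induction x using TensorProduct.induction_on with
      | zero => rw [AlgHom.toRingHom_eq_coe, map_zero]; exact zero_mem _
      | tmul a b =>
        change f (a ⊗ₜ b) ∈ _
        rw [Algebra.TensorProduct.lift_tmul]
        exact mul_mem (Subalgebra.algebraMap_mem _ a) (Algebra.subset_adjoin ⟨b, rfl⟩)
      | add x y hx hy => rw [map_add]; exact add_mem hx hy
    · refine Algebra.adjoin_le ?_
      rintro _ ⟨x, rfl⟩
      refine ⟨1 ⊗ₜ x, ?_⟩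
      change f (1 ⊗ₜ x) = _
      rw [Algebra.TensorProduct.lift_tmul, map_one, one_mul]
  rw [← hf]
  exact SsBC.of_surjective (K := ℚ) (L := L) (A := A) (f.rangeRestrict : _ →+* _) f.rangeRestrict_surjective

end generic

open CategoryTheory CategoryTheory.Limits AlgebraicGeometry MonoidalCategory CartesianMonoidalCategory MonObj GrpObj

noncomputable section

variable {B : Scheme.{u}} (l : ℕ) [Fact l.Prime] (T : Over B) (X : Over B) [GrpObj X] [IsCommMonObj X]

/-- the rational Tate module. -/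
abbrev Vl : Type u := ℚ_[l] ⊗[ℤ_[l]] AbDual.TateMod X l T

/-- The action of endomorphisms on the rational Tate module. -/
def vRep : EndAV.End X →+* Module.End ℚ_[l] (Vl l T X) :=
  (Module.End.baseChangeHom ℤ_[l] ℚ_[l] (AbDual.TateMod X l T)).toRingHom.comp (EndAV.End.tateRep l T)

theorem vRep_apply (f : EndAV.End X) :
    vRep l T X f = (AbDual.tateMapₗ (l := l) (T := T) f.toHom).baseChange ℚ_[l] := rfl

/-- The subalgebra generated by the endomorphisms. -/
def EE : Subalgebra ℚ_[l] (Module.End ℚ_[l] (Vl l T X)) := Algebra.adjoin ℚ_[l] (Set.range (vRep l T X))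

theorem range_vRep : Set.range (vRep l T X) = {ψ : Module.End ℚ_[l] (Vl l T X) |
    ∃ (f : X ⟶ X) (_ : IsMonHom f), ψ = (AbDual.tateMapₗ (l := l) (T := T) f).baseChange ℚ_[l]} := by
  ext ψ
  constructor
  · rintro ⟨f, rfl⟩
    exact ⟨f.toHom, inferInstance, rfl⟩
  · rintro ⟨f, hf, rfl⟩
    exact ⟨EndAV.End.of f, rfl⟩

theorem mem_EE_iff (φ : Module.End ℚ_[l] (Vl l T X)) :
    φ ∈ EE l T X ↔ φ ∈ Submodule.span ℚ_[l] {ψ : Module.End ℚ_[l] (Vl l T X) |
      ∃ (f : X ⟶ X) (_ : IsMonHom f), ψ = (AbDual.tateMapₗ (l := l) (T := T) f).baseChange ℚ_[l]} := by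
  rw [← range_vRep, ← adjoin_toSubmodule]
  rfl

theorem isSemisimpleRing_EE (h1 : IsSemisimpleRing (EndAV.End0 X)) (h2 : Module.Finite ℚ (EndAV.End0 X)) :
    IsSemisimpleRing (EE l T X) := by
  let ψ : EndAV.End X →ₐ[ℤ] Module.End ℚ_[l] (Vl l T X) :=
    { vRep l T X with
      commutes' := fun n => by
        change vRep l T X (algebraMap ℤ (EndAV.End X) n) = _
        rw [eq_intCast, eq_intCast, map_intCast] }
  let g : EndAV.End0 X →ₐ[ℚ] Module.End ℚ_[l] (Vl l T X) :=
    Algebra.TensorProduct.lift (Algebra.ofId ℚ _) ψ fun x y => Algebra.commutes x _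
  have hg : Algebra.adjoin ℚ_[l] (Set.range g) = EE l T X := by
    apply le_antisymm
    · refine Algebra.adjoin_le ?_
      rintro _ ⟨x, rfl⟩
      obtain ⟨n, e, hn, rfl⟩ := RHAlg.exists_tmul x
      have h3 : g ((n : ℚ)⁻¹ ⊗ₜ e) = algebraMap ℚ _ ((n : ℚ)⁻¹) * vRep l T X e := Algebra.TensorProduct.lift_tmul _ _ _ _ _
      rw [h3, IsScalarTower.algebraMap_apply ℚ ℚ_[l]]
      exact mul_mem (Subalgebra.algebraMap_mem _ _) (Algebra.subset_adjoin ⟨e, rfl⟩)
    · refine Algebra.adjoin_mono ?_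
      rintro _ ⟨x, rfl⟩
      refine ⟨(1 : ℚ) ⊗ₜ x, ?_⟩
      have h3 : g ((1 : ℚ) ⊗ₜ x) = algebraMap ℚ _ (1 : ℚ) * vRep l T X x := Algebra.TensorProduct.lift_tmul _ _ _ _ _
      rw [h3, map_one, _root_.one_mul]
  rw [← hg]
  exact isSemisimpleRing_adjoin g

end

end K522.VRep
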