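import Groth.Agent.AbVar.K522.BcMor
import Groth.Agent.AbVar.K523.RankTate
import Groth.Agent.S12398
import Groth.Agent.S15674

/-!
# Degree and determinant over any field (`S14947`, input of `S16840`)

* `exists_charpoly`: the characteristic polynomial of `T_l(f)` has integral coefficients, degree `2g`; its constant term is
  the degree of `f`.
* `finrank_eq_det`: `deg f = det T_l(f)`; `det_eq_zero`.
-/

set_option autoImplicit false
universe u

open CategoryTheory CategoryTheory.Limits MonoidalCategory CartesianMonoidalCategory AlgebraicGeometry MonObj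
open Groth.Agent.Sga7.H761.BaseChg Groth.Agent.Sga7.H761.TransSig
open AbDual K515.Bc K522.Bridge

noncomputable section

namespace K522.DegDet

open Polynomial

theorem exists_alg (K : Type u) [Field K] [IsAlgClosed K] (A : Over (Spec (CommRingCat.of K)))
    [GrpObj A] [IsCommMonObj A] [IsProper A.hom] [GeometricallyIntegral A.hom]
    (r : ℕ) (hr : topologicalKrullDim A.left = r) (α : A ⟶ A) [IsMonHom α] (l : ℕ) [Fact l.Prime]
    (hl : (l : K) ≠ 0)
    [Module.Free ℤ_[l] (TateMod A l (Over.mk (𝟙 (Spec (CommRingCat.of K)))))]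
    [Module.Finite ℤ_[l] (TateMod A l (Over.mk (𝟙 (Spec (CommRingCat.of K)))))] :
    ∃ P : ℤ[X], P.Monic ∧ P.natDegree = 2 * r ∧
      (tateMapₗ (l := l) (T := Over.mk (𝟙 (Spec (CommRingCat.of K)))) α).charpoly = P.map (Int.castRingHom ℤ_[l]) ∧
      (IsFinite α.left → ∀ a : A.left, (α.left.finrank a : ℤ) = P.eval 0) ∧ (¬ IsFinite α.left → P.eval 0 = 0) := by
  obtain ⟨P, h1, h2, h3⟩ := Groth.Agent.S15674.result K A r hr α
  have h4 := Groth.Agent.S12398.result K l hl A α P h3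
  have e : α * 𝟙 A ^ (-(0 : ℤ)) = α := by rw [neg_zero, zpow_zero, _root_.mul_one]
  have h5 := h3 0
  rw [e] at h5
  exact ⟨P, h1, h2, h4, h5.1, h5.2⟩

variable {k : Type u} [Field k] (Ω : Type u) [Field Ω] [Algebra k Ω] [IsAlgClosed Ω] {l : ℕ} [Fact l.Prime]
  {X : Over (Spec (CommRingCat.of k))} [GrpObj X] [IsCommMonObj X] [IsProper X.hom] [GeometricallyIntegral X.hom]

/-- Conjugation by the comparison isomorphism. -/
theorem conj_tateE (f : X ⟶ X) [IsMonHom f] :
    (tateE Ω l X).conj (tateMapₗ (l := l) (T := Over.mk (𝟙 (Spec (CommRingCat.of Ω)))) (bcHom Ω f)) =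
      tateMapₗ (l := l) (T := SGA7.pt (K := k) Ω) f := by
  refine LinearMap.ext fun z => ?_
  obtain ⟨w, rfl⟩ := (tateE Ω l X).surjective z
  change tateE Ω l X (tateMapₗ (bcHom Ω f) ((tateE Ω l X).symm (tateE Ω l X w))) = tateMapₗ f (tateE Ω l X w)
  rw [LinearEquiv.symm_apply_apply]
  exact tateE_comp Ω l f w

/-- **The characteristic polynomial of `T_l(f)`.** -/
theorem exists_charpoly (hl : (l : k) ≠ 0) (g : ℕ) (hg : topologicalKrullDim X.left = g) (f : X ⟶ X) [IsMonHom f]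
    [Module.Free ℤ_[l] (TateMod X l (SGA7.pt (K := k) Ω))] [Module.Finite ℤ_[l] (TateMod X l (SGA7.pt (K := k) Ω))] :
    ∃ P : ℤ[X], P.Monic ∧ P.natDegree = 2 * g ∧
      (tateMapₗ (l := l) (T := SGA7.pt (K := k) Ω) f).charpoly = P.map (Int.castRingHom ℤ_[l]) ∧
      (IsFinite f.left → ∀ a : X.left, (f.left.finrank a : ℤ) = P.eval 0) ∧ (¬ IsFinite f.left → P.eval 0 = 0) := by
  haveI : Module.Free ℤ_[l] (TateMod (bc Ω X) l (Over.mk (𝟙 (Spec (CommRingCat.of Ω))))) :=
    Module.Free.of_equiv (tateE Ω l X).symm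
  haveI : Module.Finite ℤ_[l] (TateMod (bc Ω X) l (Over.mk (𝟙 (Spec (CommRingCat.of Ω))))) :=
    Module.Finite.equiv (tateE Ω l X).symm
  obtain ⟨P, h1, h2, h3, h4, h5⟩ := exists_alg Ω (bc Ω X) g ((dim_bc Ω X).trans hg) (bcHom Ω f) l (cast_ne_zero Ω hl)
  refine ⟨P, h1, h2, ?_, fun hf a => ?_, fun hf => ?_⟩
  · rw [← h3, ← conj_tateE, LinearEquiv.charpoly_conj]
  · obtain ⟨b, rfl⟩ := (BcMor.surjective_pr Ω X).surj a
    rw [← BcMor.finrank_eq Ω g hg hg f b]
    exact h4 ((BcMor.isFinite_iff Ω g hg hg f).mpr hf) b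
  · exact h5 fun h => hf ((BcMor.isFinite_iff Ω g hg hg f).mp h)

/-- The determinant is the constant term. -/
theorem det_eq_of_charpoly {R M : Type*} [CommRing R] [IsDomain R] [CharZero R] [AddCommGroup M] [Module R M]
    [Module.Free R M] [Module.Finite R M] (T : Module.End R M) (P : ℤ[X]) (g : ℕ) (hd : P.natDegree = 2 * g)
    (hP : T.charpoly = P.map (Int.castRingHom R)) : LinearMap.det T = ((P.eval 0 : ℤ) : R) := by
  have h1 : Module.finrank R M = 2 * g := by
    rw [← LinearMap.charpoly_natDegree T, hP, Polynomial.natDegree_map_eq_of_injective (RingHom.injective_int _), hd]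
  rw [LinearMap.det_eq_sign_charpoly_coeff, h1, hP, Polynomial.coeff_map, pow_mul, neg_one_sq, one_pow, _root_.one_mul,
    Polynomial.coeff_zero_eq_eval_zero]
  rfl

/-- **`deg f = det T_l(f)`.** -/
theorem finrank_eq_det (hl : (l : k) ≠ 0) (f : X ⟶ X) [IsMonHom f]
    [Module.Free ℤ_[l] (TateMod X l (SGA7.pt (K := k) Ω))] [Module.Finite ℤ_[l] (TateMod X l (SGA7.pt (K := k) Ω))] :
    (IsFinite f.left → ∀ a : X.left,
        ((f.left.finrank a : ℕ) : ℤ_[l]) = LinearMap.det (tateMapₗ (l := l) (T := SGA7.pt (K := k) Ω) f)) ∧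
      (¬ IsFinite f.left → LinearMap.det (tateMapₗ (l := l) (T := SGA7.pt (K := k) Ω) f) = 0) := by
  obtain ⟨g, hg⟩ := K516.HomFin.exists_dim X
  obtain ⟨P, h1, h2, h3, h4, h5⟩ := exists_charpoly Ω hl g hg f
  rw [det_eq_of_charpoly _ P g h2 h3]
  refine ⟨fun hf a => ?_, fun hf => ?_⟩
  · rw [← h4 hf a, Int.cast_natCast]
  · rw [h5 hf, Int.cast_zero]

end K522.DegDet
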