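import Mathlib.Algebra.MonoidAlgebra.Basic
import Mathlib.LinearAlgebra.LinearIndependent.Basic
import Mathlib.Analysis.Complex.Polynomial.Basic

/-!
# Point counts determine the characteristic polynomial

* `eq_of_prod_one_sub_pow_eq`: two multisets `R`, `R'` of complex numbers of absolute value `s > 1` with
  `∏_{α ∈ R} (1 - α ^ n) = ∏_{α ∈ R'} (1 - α ^ n)` for all `n ≥ 1` are equal.
* `poly_eq`: the version for monic integral polynomials.
-/

set_option autoImplicit false

namespace K522.ExpSum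

open Polynomial MonoidAlgebra

/-- evaluation of `∑ c_γ [γ]` at the exponent `n`. -/
noncomputable def ev (n : ℕ) : MonoidAlgebra ℂ ℂ →ₐ[ℂ] ℂ := MonoidAlgebra.lift ℂ ℂ ℂ (powMonoidHom n)

theorem ev_single (n : ℕ) (γ c : ℂ) : ev n (single γ c) = c * γ ^ n := by
  rw [ev, MonoidAlgebra.lift_single]
  rfl

theorem ev_apply (n : ℕ) (x : MonoidAlgebra ℂ ℂ) : ev n x = x.coeff.sum fun γ c => c * γ ^ n := by
  rw [ev, MonoidAlgebra.lift_apply]
  rfl

theorem linearIndependent_pow : LinearIndependent ℂ (fun (γ : ℂ) (n : ℕ) => γ ^ n) := by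
  have h := linearIndependent_monoidHom (Multiplicative ℕ) ℂ
  have h2 := h.comp (fun γ : ℂ => powersHom ℂ γ) (powersHom ℂ).injective
  exact h2

theorem coeff_eq_zero (x : MonoidAlgebra ℂ ℂ) (h : ∀ n, 0 < n → ev n x = 0) (γ : ℂ) (hγ : γ ≠ 0) :
    x.coeff γ = 0 := by
  by_contra hne
  have h1 := linearIndependent_iff'.mp linearIndependent_pow x.coeff.support (fun γ => x.coeff γ * γ) ?_ γ
    (Finsupp.mem_support_iff.mpr hne)
  · exact (mul_ne_zero hne hγ) h1
  · funext n
    have h2 := h (n + 1) (Nat.succ_pos n)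
    rw [ev_apply] at h2
    rw [Finset.sum_apply, Pi.zero_apply, ← h2]
    refine Finset.sum_congr rfl fun δ _ => ?_
    simp only [Pi.smul_apply, smul_eq_mul]
    ring

/-- `∏ (1 - [α])`. -/
noncomputable def D (R : Multiset ℂ) : MonoidAlgebra ℂ ℂ := (R.map (fun α => 1 - single α 1)).prod

theorem ev_D (n : ℕ) (R : Multiset ℂ) : ev n (D R) = (R.map (fun α => 1 - α ^ n)).prod := by
  rw [D, map_multiset_prod, Multiset.map_map]
  congr 1
  refine Multiset.map_congr rfl fun α _ => ?_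
  rw [Function.comp_apply, map_sub, map_one, ev_single, one_mul]

theorem coeff_D (s : ℝ) (hs : 1 < s) (R : Multiset ℂ) (hR : ∀ α ∈ R, ‖α‖ = s) (γ : ℂ) (hγ : ‖γ‖ < s ^ 2) :
    (D R).coeff γ = (if γ = 1 then 1 else 0) - (R.count γ : ℂ) := by
  induction R using Multiset.induction_on generalizing γ with
  | empty =>
    rw [D, Multiset.map_zero, Multiset.prod_zero, MonoidAlgebra.one_def, MonoidAlgebra.coeff_single,
      Finsupp.single_apply, Multiset.count_zero, Nat.cast_zero, sub_zero]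
    simp only [eq_comm]
  | cons a R ih =>
    have ha : ‖a‖ = s := hR a (Multiset.mem_cons_self _ _)
    have ha0 : a ≠ 0 := by
      rintro rfl
      rw [norm_zero] at ha
      linarith
    have hR' : ∀ α ∈ R, ‖α‖ = s := fun α hα => hR α (Multiset.mem_cons_of_mem hα)
    have hD : D (a ::ₘ R) = D R - single a 1 * D R := by
      rw [D, Multiset.map_cons, Multiset.prod_cons, sub_mul, one_mul]
      rfl
    have h1 : (single a (1 : ℂ) * D R).coeff γ = (D R).coeff (a⁻¹ * γ) := by
      rw [MonoidAlgebra.coeff_single_mul_eq_mul_coeff (a⁻¹ * γ) (fun m' _ => ?_), one_mul]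
      constructor
      · rintro rfl
        rw [inv_mul_cancel_left₀ ha0]
      · rintro rfl
        rw [mul_inv_cancel_left₀ ha0]
    have h2 : ‖a⁻¹ * γ‖ < s := by
      rw [norm_mul, norm_inv, ha, inv_mul_lt_iff₀ (by linarith)]
      nlinarith
    have h3 : ‖a⁻¹ * γ‖ < s ^ 2 := h2.trans (by nlinarith)
    have h4 : R.count (a⁻¹ * γ) = 0 := by
      rw [Multiset.count_eq_zero]
      intro h
      exact h2.ne (hR' _ h)
    rw [hD]
    change (D R).coeff γ - (single a (1 : ℂ) * D R).coeff γ = _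
    rw [h1, ih hR' γ hγ, ih hR' _ h3, h4, Multiset.count_cons]
    have h5 : a⁻¹ * γ = 1 ↔ γ = a := by
      constructor
      · intro h
        have := congrArg (a * ·) h
        simpa [mul_inv_cancel_left₀ ha0] using this
      · rintro rfl
        exact inv_mul_cancel₀ ha0
    simp only [h5]
    push_cast
    split_ifs <;> ring

theorem eq_of_prod_one_sub_pow_eq (s : ℝ) (hs : 1 < s) (R R' : Multiset ℂ) (hR : ∀ α ∈ R, ‖α‖ = s)
    (hR' : ∀ α ∈ R', ‖α‖ = s)
    (h : ∀ n, 0 < n → (R.map (fun α => 1 - α ^ n)).prod = (R'.map (fun α => 1 - α ^ n)).prod) : R = R' := by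
  ext γ
  by_cases hγ : ‖γ‖ = s
  · have hγ2 : ‖γ‖ < s ^ 2 := by rw [hγ]; nlinarith
    have hγ0 : γ ≠ 0 := by
      rintro rfl
      rw [norm_zero] at hγ
      linarith
    have h1 := coeff_eq_zero (D R - D R') (fun n hn => by rw [map_sub, ev_D, ev_D, h n hn, sub_self]) γ hγ0
    have h2 : (D R).coeff γ - (D R').coeff γ = 0 := h1
    rw [coeff_D s hs R hR γ hγ2, coeff_D s hs R' hR' γ hγ2] at h2
    have h3 : (R.count γ : ℂ) = R'.count γ := by linear_combination -h2
    exact_mod_cast h3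
  · rw [Multiset.count_eq_zero.mpr (fun h => hγ (hR γ h)), Multiset.count_eq_zero.mpr (fun h => hγ (hR' γ h))]

/-- The version for polynomials. -/
theorem poly_eq (P Q : ℤ[X]) (hP : P.Monic) (hQ : Q.Monic) (s : ℝ) (hs : 1 < s)
    (hPr : ∀ α ∈ (P.map (Int.castRingHom ℂ)).roots, ‖α‖ = s) (hQr : ∀ α ∈ (Q.map (Int.castRingHom ℂ)).roots, ‖α‖ = s)
    (h : ∀ n, 0 < n → ((P.map (Int.castRingHom ℂ)).roots.map (fun α => 1 - α ^ n)).prod =
      ((Q.map (Int.castRingHom ℂ)).roots.map (fun α => 1 - α ^ n)).prod) : P = Q := by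
  have h1 := eq_of_prod_one_sub_pow_eq s hs _ _ hPr hQr h
  have hsP : (P.map (Int.castRingHom ℂ)).Splits := IsAlgClosed.splits _
  have hsQ : (Q.map (Int.castRingHom ℂ)).Splits := IsAlgClosed.splits _
  refine Polynomial.map_injective _ (RingHom.injective_int (Int.castRingHom ℂ)) ?_
  rw [hsP.eq_prod_roots_of_monic (hP.map _), hsQ.eq_prod_roots_of_monic (hQ.map _), h1]

end K522.ExpSum
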