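import Groth.Agent.AbVar.K522.LinInter
import Groth.Agent.AbVar.K522.DoubleCent
import Groth.Agent.AbVar.K522.CharRoots
import Mathlib.FieldTheory.IsAlgClosed.AlgebraicClosure
import Mathlib.FieldTheory.Perfect
import Mathlib.Algebra.Central.End

/-!
# Commutants of a semisimple endomorphism

`K` perfect, `V` finite-dimensional, `π` a semisimple endomorphism of `V`.
* `sum_sq_eq_iff`: `∑ m² d = ∑ m d` over the irreducible factors iff the polynomial is squarefree.
* `comm_iff`: the commutant of `π` is commutative iff the characteristic polynomial is squarefree.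
* `natDegree_le_minpoly`: if the characteristic polynomial is squarefree its degree is at most that of the minimal one.
-/

set_option autoImplicit false

namespace K522.ComRank

open Polynomial UniqueFactorizationMonoid

variable {K : Type*} [Field K]

section sum

variable [DecidableEq K]

theorem natDegree_eq_sum (f : K[X]) (hf : f.Monic) :
    f.natDegree = ∑ P ∈ (normalizedFactors f).toFinset, (normalizedFactors f).count P * P.natDegree := by
  have h1 : (normalizedFactors f).prod = f := by
    rw [prod_normalizedFactors_eq hf.ne_zero, hf.normalize_eq_self]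
  have h2 : f.natDegree = ((normalizedFactors f).map Polynomial.natDegree).sum := by
    conv_lhs => rw [← h1]
    rw [Polynomial.natDegree_multiset_prod]
    intro h
    exact (prime_of_normalized_factor 0 h).ne_zero rfl
  rw [h2, Finset.sum_multiset_map_count]
  exact Finset.sum_congr rfl fun P _ => by rw [smul_eq_mul]

theorem term_le (f P : K[X]) (hP : P ∈ (normalizedFactors f).toFinset) :
    (normalizedFactors f).count P * P.natDegree ≤
      (normalizedFactors f).count P * (normalizedFactors f).count P * P.natDegree := by
  refine Nat.mul_le_mul_right _ ?_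
  have h3 : 0 < (normalizedFactors f).count P := Multiset.count_pos.mpr (Multiset.mem_toFinset.mp hP)
  exact Nat.le_mul_of_pos_left _ h3

theorem natDegree_le_sum (f : K[X]) (hf : f.Monic) :
    f.natDegree ≤ ∑ P ∈ (normalizedFactors f).toFinset,
      (normalizedFactors f).count P * (normalizedFactors f).count P * P.natDegree := by
  rw [natDegree_eq_sum f hf]
  exact Finset.sum_le_sum fun P hP => term_le f P hP

theorem sum_sq_eq_iff (f : K[X]) (hf : f.Monic) :
    (∑ P ∈ (normalizedFactors f).toFinset,
      (normalizedFactors f).count P * (normalizedFactors f).count P * P.natDegree) = f.natDegree ↔ Squarefree f := by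
  rw [natDegree_eq_sum f hf, eq_comm, Finset.sum_eq_sum_iff_of_le (fun P hP => term_le f P hP),
    squarefree_iff_nodup_normalizedFactors hf.ne_zero, Multiset.nodup_iff_count_le_one]
  constructor
  · intro h P
    by_cases hP : P ∈ (normalizedFactors f).toFinset
    · have h1 := h P hP
      have h2 : 0 < P.natDegree := by
        have := irreducible_of_normalized_factor P (Multiset.mem_toFinset.mp hP)
        exact this.natDegree_pos
      have h3 : 0 < (normalizedFactors f).count P := Multiset.count_pos.mpr (Multiset.mem_toFinset.mp hP)
      have h4 := Nat.eq_of_mul_eq_mul_right h2 h1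
      have h5 : (normalizedFactors f).count P * 1 = (normalizedFactors f).count P * (normalizedFactors f).count P := by
        rw [mul_one]; exact h4
      exact (Nat.eq_of_mul_eq_mul_left h3 h5).ge
    · rw [Multiset.mem_toFinset, ← Multiset.count_eq_zero] at hP
      rw [hP]
      exact Nat.zero_le _
  · intro h P hP
    have h3 : 0 < (normalizedFactors f).count P := Multiset.count_pos.mpr (Multiset.mem_toFinset.mp hP)
    have h4 : (normalizedFactors f).count P = 1 := le_antisymm (h P) h3
    rw [h4]

end sum

variable {V : Type*} [AddCommGroup V] [Module K V] [FiniteDimensional K V]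

/-- Roots of the characteristic polynomial in an extension are roots of the minimal polynomial. -/
theorem eval_minpoly (π : Module.End K V) (L : Type*) [Field L] [Algebra K L] (β : L)
    (hβ : (π.charpoly.map (algebraMap K L)).eval β = 0) : ((minpoly K π).map (algebraMap K L)).eval β = 0 := by
  classical
  let b := Module.finBasis K V
  have h1 := CharRoots.matrix_aeval_eq_zero (algebraMap K L) π (minpoly K π) (minpoly.aeval K π) b
  refine CharRoots.eval_eq_zero _ _ h1 β ?_
  rw [Matrix.charpoly_map, LinearMap.charpoly_toMatrix]
  exact hβ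

theorem natDegree_le_minpoly [PerfectField K] (π : Module.End K V) (hs : Squarefree π.charpoly) :
    π.charpoly.natDegree ≤ (minpoly K π).natDegree := by
  classical
  let L := AlgebraicClosure K
  have hsep : (π.charpoly.map (algebraMap K L)).Separable := (PerfectField.separable_iff_squarefree.mpr hs).map
  have hnd : (π.charpoly.map (algebraMap K L)).roots.Nodup := nodup_roots hsep
  have hm0 : (minpoly K π).map (algebraMap K L) ≠ 0 :=
    ((minpoly.monic (Algebra.IsIntegral.isIntegral π)).map _).ne_zero
  have hc0 : π.charpoly.map (algebraMap K L) ≠ 0 := ((LinearMap.charpoly_monic π).map _).ne_zero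
  have h1 : (π.charpoly.map (algebraMap K L)).roots ≤ ((minpoly K π).map (algebraMap K L)).roots := by
    rw [Multiset.le_iff_subset hnd]
    intro β hβ
    rw [mem_roots hm0]
    rw [mem_roots hc0] at hβ
    exact eval_minpoly π L β hβ
  have h2 : Multiset.card (π.charpoly.map (algebraMap K L)).roots = π.charpoly.natDegree := by
    rw [← (IsAlgClosed.splits (π.charpoly.map (algebraMap K L))).natDegree_eq_card_roots, natDegree_map]
  rw [← h2]
  refine (Multiset.card_le_card h1).trans ((card_roots' _).trans ?_)
  rw [natDegree_map]

/-- The commutant of `π`. -/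
def Com (π : Module.End K V) : Submodule K (Module.End K V) :=
  LinearMap.ker (LinearMap.lcomp K V π - LinearMap.llcomp K V V V π : (V →ₗ[K] V) →ₗ[K] (V →ₗ[K] V))

theorem mem_Com (π φ : Module.End K V) : φ ∈ Com π ↔ φ * π = π * φ := by
  rw [Com, LinearMap.mem_ker]
  exact sub_eq_zero

theorem isSemisimpleRing_adjoin (π : Module.End K V) (hπ : π.IsSemisimple) :
    IsSemisimpleRing (Algebra.adjoin K {π}) := by
  haveI : IsReduced (Algebra.adjoin K {π}) := by
    refine ⟨fun x hx => ?_⟩
    have h1 : Module.End.IsSemisimple (x : Module.End K V) := hπ.of_mem_adjoin_singleton x.2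
    have h2 : IsNilpotent (x : Module.End K V) := hx.map (Algebra.adjoin K {π}).val
    exact Subtype.ext (Module.End.eq_zero_of_isNilpotent_isSemisimple h2 h1)
  letI : CommRing (Algebra.adjoin K {π}) := Algebra.adjoinCommRingOfComm K (by
    rintro a ha b hb
    rw [Set.mem_singleton_iff.mp ha, Set.mem_singleton_iff.mp hb])
  haveI : IsArtinianRing (Algebra.adjoin K {π}) := IsArtinianRing.of_finite K _
  exact IsArtinianRing.isSemisimpleRing_of_isReduced (Algebra.adjoin K {π})

/-- If the commutant is commutative it consists of polynomials in `π`. -/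
theorem mem_adjoin_of_comm (π : Module.End K V) (hπ : π.IsSemisimple)
    (hc : ∀ a ∈ Com π, ∀ b ∈ Com π, a * b = b * a) (φ : Module.End K V) (hφ : φ ∈ Com π) :
    φ ∈ Algebra.adjoin K {π} := by
  haveI := isSemisimpleRing_adjoin π hπ
  refine DoubleCent.mem_of_commute (Algebra.adjoin K {π}) φ fun c h v => ?_
  have h1 : c ∈ Com π := (mem_Com π c).mpr (LinearMap.ext fun v => h π (Algebra.subset_adjoin rfl) v)
  exact LinearMap.congr_fun (hc c h1 φ hφ) v

/-- Polynomials in `π` form a space of dimension at most `dim V`. -/
theorem finrank_adjoin_le (π : Module.End K V) :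
    Module.finrank K (Subalgebra.toSubmodule (Algebra.adjoin K {π})) ≤ π.charpoly.natDegree := by
  let f : degreeLT K π.charpoly.natDegree →ₗ[K] Module.End K V :=
    (aeval π).toLinearMap ∘ₗ (degreeLT K π.charpoly.natDegree).subtype
  have h1 : Subalgebra.toSubmodule (Algebra.adjoin K {π}) ≤ LinearMap.range f := by
    intro x hx
    rw [Subalgebra.mem_toSubmodule, Algebra.adjoin_singleton_eq_range_aeval] at hx
    obtain ⟨p, rfl⟩ := hx
    have hm := LinearMap.charpoly_monic π
    refine ⟨⟨p %ₘ π.charpoly, ?_⟩, ?_⟩
    · rw [mem_degreeLT, ← degree_eq_natDegree hm.ne_zero]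
      exact degree_modByMonic_lt p hm
    · change aeval π (p %ₘ π.charpoly) = aeval π p
      conv_rhs => rw [← modByMonic_add_div p π.charpoly]
      rw [map_add, map_mul, LinearMap.aeval_self_charpoly, zero_mul, add_zero]
  haveI : Module.Finite K (degreeLT K π.charpoly.natDegree) :=
    Module.Finite.equiv (degreeLTEquiv K π.charpoly.natDegree).symm
  refine (Submodule.finrank_mono h1).trans ((LinearMap.finrank_range_le f).trans ?_)
  rw [LinearEquiv.finrank_eq (degreeLTEquiv K π.charpoly.natDegree), Module.finrank_fin_fun]

theorem adjoin_le_Com (π : Module.End K V) : Subalgebra.toSubmodule (Algebra.adjoin K {π}) ≤ Com π := by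
  intro x hx
  rw [Subalgebra.mem_toSubmodule, Algebra.adjoin_singleton_eq_range_aeval] at hx
  obtain ⟨p, rfl⟩ := hx
  rw [mem_Com]
  change aeval π p * π = π * aeval π p
  have h := (Commute.all p (X : K[X])).map (aeval π : K[X] →ₐ[K] Module.End K V)
  rw [aeval_X] at h
  exact h

/-- Powers of `π` give a large space. -/
theorem natDegree_minpoly_le (π : Module.End K V) :
    (minpoly K π).natDegree ≤ Module.finrank K (Subalgebra.toSubmodule (Algebra.adjoin K {π})) := by
  have h := linearIndependent_pow (K := K) π
  have h2 : LinearIndependent K (fun i : Fin (minpoly K π).natDegree =>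
      (⟨π ^ (i : ℕ), pow_mem (Algebra.self_mem_adjoin_singleton K π) _⟩ :
        Subalgebra.toSubmodule (Algebra.adjoin K {π}))) :=
    LinearIndependent.of_comp (Subalgebra.toSubmodule (Algebra.adjoin K {π})).subtype h
  have h3 := h2.fintype_card_le_finrank
  rwa [Fintype.card_fin] at h3

open scoped Classical in
/-- The dimension of the commutant. -/
theorem finrank_Com (π : Module.End K V) (hπ : π.IsSemisimple) : Module.finrank K (Com π) =
    ∑ P ∈ (normalizedFactors π.charpoly).toFinset,
      (normalizedFactors π.charpoly).count P * (normalizedFactors π.charpoly).count P * P.natDegree :=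
  LinInter.finrank_intertwiners π π hπ hπ

/-- The commutant of `π` is commutative iff the characteristic polynomial is squarefree. -/
theorem comm_iff [PerfectField K] (π : Module.End K V) (hπ : π.IsSemisimple) :
    (∀ a ∈ Com π, ∀ b ∈ Com π, a * b = b * a) ↔ Squarefree π.charpoly := by
  classical
  have hf := finrank_Com π hπ
  constructor
  · intro h
    have h1 : Com π ≤ Subalgebra.toSubmodule (Algebra.adjoin K {π}) := fun φ hφ => mem_adjoin_of_comm π hπ h φ hφ
    have h2 := (Submodule.finrank_mono h1).trans (finrank_adjoin_le π)
    rw [hf] at h2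
    exact (sum_sq_eq_iff _ (LinearMap.charpoly_monic π)).mp
      (le_antisymm h2 (natDegree_le_sum _ (LinearMap.charpoly_monic π)))
  · intro h
    have h1 := (sum_sq_eq_iff _ (LinearMap.charpoly_monic π)).mpr h
    have h2 := (natDegree_le_minpoly π h).trans (natDegree_minpoly_le π)
    have h3 : Subalgebra.toSubmodule (Algebra.adjoin K {π}) = Com π :=
      Submodule.eq_of_le_of_finrank_le (adjoin_le_Com π) (by rw [hf, h1]; exact h2)
    intro a ha b hb
    rw [← h3, Subalgebra.mem_toSubmodule, Algebra.adjoin_singleton_eq_range_aeval] at ha hb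
    obtain ⟨p, rfl⟩ := ha
    obtain ⟨q, rfl⟩ := hb
    exact (Commute.all p q).map (aeval π : K[X] →ₐ[K] Module.End K V)

/-- If the commutant is everything then `π` is a scalar. -/
theorem exists_scalar (π : Module.End K V) (h : Module.finrank K V ^ 2 ≤ Module.finrank K (Com π)) :
    ∃ c : K, π = algebraMap K (Module.End K V) c := by
  have h1 : Com π = ⊤ := by
    apply Submodule.eq_top_of_finrank_eq
    refine le_antisymm (Submodule.finrank_le _) ?_
    rw [Module.finrank_linearMap, ← sq]
    exact h
  have h2 : π ∈ Subalgebra.center K (Module.End K V) := by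
    rw [Subalgebra.mem_center_iff]
    intro φ
    have : φ ∈ Com π := by rw [h1]; trivial
    exact (mem_Com π φ).mp this
  rw [Algebra.IsCentral.center_eq_bot, Algebra.mem_bot] at h2
  obtain ⟨c, hc⟩ := h2
  exact ⟨c, hc.symm⟩

end K522.ComRank
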