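import Groth.Agent.AbVar.K522.RankThm
import Groth.Agent.AbVar.K522.RH
import Groth.Agent.AbVar.K522.ComRank
import Groth.Agent.AbVar.K523.RankTate

/-!
# Abelian varieties over finite fields: consequences of Tate's theorem

Everything from `TateThm Ω l X Y` (the statement of `S14935`).
-/

set_option autoImplicit false
universe u

open TensorProduct

namespace K522.FFThm

open CategoryTheory CategoryTheory.Limits AlgebraicGeometry MonoidalCategory CartesianMonoidalCategory MonObj GrpObj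
open K520.Frob AbDual TateAbs VRep HomRank RankThm

variable {k Ω : Type u} [Field k] [Field Ω] [Algebra k Ω] {l : ℕ} [Fact l.Prime]
  {X Y : Over (Spec (CommRingCat.of k))} [GrpObj X] [IsCommMonObj X] [IsProper X.hom] [GeometricallyIntegral X.hom]
  [GrpObj Y] [IsCommMonObj Y] [IsProper Y.hom] [GeometricallyIntegral Y.hom]

theorem free_finite (X Y : Over (Spec (CommRingCat.of k))) [GrpObj X] [IsCommMonObj X] [IsProper X.hom]
    [GeometricallyIntegral X.hom] [GrpObj Y] [IsCommMonObj Y] [IsProper Y.hom] [GeometricallyIntegral Y.hom] :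
    Module.Free ℤ (EndAV.Hom X Y) ∧ Module.Finite ℤ (EndAV.Hom X Y) :=
  ⟨Bridge.free_hom X Y, Bridge.finite_hom X Y⟩

theorem indep [IsAlgClosed Ω] (hl : (l : k) ≠ 0) : IndepThm Ω l X Y := fun _ e he => Bridge.linearIndependent Ω hl e he

/-- Frobenius acts semisimply (any field, any `T`). -/
theorem isSemisimple (q : ℕ) (hq : q ≠ 0) (π : X ⟶ X) [IsMonHom π] (hπ : IsFrob q π.left)
    (T : Over (Spec (CommRingCat.of k))) :
    Module.End.IsSemisimple ((tateMapₗ (l := l) (T := T) π).baseChange ℚ_[l]) := by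
  haveI : Module.Finite ℤ (EndAV.End X) := Bridge.finite_hom X X
  exact K516.FrobSS.isSemisimple_frob X q hq π hπ l T

open UniqueFactorizationMonoid in
open scoped Classical in
/-- The rank of `Hom(X, Y)` over a finite field. -/
theorem finrank_hom [Finite k] [IsAlgClosure k Ω] (hl : (l : k) ≠ 0)
    [Module.Free ℤ_[l] (TateMod X l (SGA7.pt Ω))] [Module.Finite ℤ_[l] (TateMod X l (SGA7.pt Ω))]
    [Module.Finite ℤ_[l] (TateMod Y l (SGA7.pt Ω))]
    (πX : X ⟶ X) [IsMonHom πX] (hπX : IsFrob (Nat.card k) πX.left)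
    (πY : Y ⟶ Y) [IsMonHom πY] (hπY : IsFrob (Nat.card k) πY.left) (hT : TateThm Ω l X Y) :
    Module.finrank ℤ (EndAV.Hom X Y) =
      ∑ P ∈ (normalizedFactors ((tateMapₗ (l := l) (T := SGA7.pt Ω) πX).baseChange ℚ_[l]).charpoly).toFinset,
        (normalizedFactors ((tateMapₗ (l := l) (T := SGA7.pt Ω) πX).baseChange ℚ_[l]).charpoly).count P *
          (normalizedFactors ((tateMapₗ (l := l) (T := SGA7.pt Ω) πY).baseChange ℚ_[l]).charpoly).count P *
            P.natDegree := by
  haveI : IsAlgClosed Ω := IsAlgClosure.isAlgClosed k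
  exact finrank_hom_eq' hl πX hπX πY hπY hT (indep hl) (free_finite X Y)
    (isSemisimple _ Nat.card_pos.ne' πX hπX _) (isSemisimple _ Nat.card_pos.ne' πY hπY _)

/-- `Hom(X, Y)` has rank the dimension of the space of maps commuting with Frobenius. -/
theorem finrank_hom_ker [Finite k] [IsAlgClosure k Ω] (hl : (l : k) ≠ 0)
    [Module.Free ℤ_[l] (TateMod X l (SGA7.pt Ω))] [Module.Finite ℤ_[l] (TateMod X l (SGA7.pt Ω))]
    (πX : X ⟶ X) [IsMonHom πX] (hπX : IsFrob (Nat.card k) πX.left)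
    (πY : Y ⟶ Y) [IsMonHom πY] (hπY : IsFrob (Nat.card k) πY.left) (hT : TateThm Ω l X Y) :
    Module.finrank ℤ (EndAV.Hom X Y) =
      Module.finrank ℚ_[l] (LinearMap.ker (LinearMap.lcomp ℚ_[l] (Vl l (SGA7.pt Ω) Y)
        (vmap (l := l) (T := SGA7.pt Ω) πX) -
        LinearMap.llcomp ℚ_[l] (Vl l (SGA7.pt Ω) X) (Vl l (SGA7.pt Ω) Y) (Vl l (SGA7.pt Ω) Y)
          (vmap (l := l) (T := SGA7.pt Ω) πY))) := by
  haveI : IsAlgClosed Ω := IsAlgClosure.isAlgClosed k
  haveI : Algebra.IsAlgebraic k Ω := IsAlgClosure.isAlgebraic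
  exact finrank_hom_eq_ker (finite_tors_pow hl) (finite_tors_pow hl) πX hπX πY hπY hT (indep hl) (free_finite X Y)

/-- The Tate module is finite and free. -/
theorem finite_tate (Ω : Type u) [Field Ω] [Algebra k Ω] (hl : (l : k) ≠ 0) (X : Over (Spec (CommRingCat.of k)))
    [GrpObj X] [IsCommMonObj X] [IsProper X.hom] [GeometricallyIntegral X.hom] :
    Module.Finite ℤ_[l] (TateMod X l (SGA7.pt (K := k) Ω)) :=
  K520.TateFin.finite_tateMod Ω X l hl

theorem free_tate (Ω : Type u) [Field Ω] [Algebra k Ω] (hl : (l : k) ≠ 0) (X : Over (Spec (CommRingCat.of k)))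
    [GrpObj X] [IsCommMonObj X] [IsProper X.hom] [GeometricallyIntegral X.hom] :
    Module.Free ℤ_[l] (TateMod X l (SGA7.pt (K := k) Ω)) := by
  haveI := finite_tate (l := l) Ω hl X
  haveI := isTorsionFree_tateMod (l := l) X (SGA7.pt (K := k) Ω)
  infer_instance

/-- `S14937`: the rank of `End(X)` is at least `2g`. -/
theorem two_mul_le [Finite k] [IsAlgClosure k Ω] (hl : (l : k) ≠ 0) (g : ℕ) (hg : topologicalKrullDim X.left = g)
    (hT : TateThm Ω l X X) : 2 * g ≤ Module.finrank ℤ (EndAV.Hom X X) := by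
  classical
  haveI : IsAlgClosed Ω := IsAlgClosure.isAlgClosed k
  haveI := finite_tate (l := l) Ω hl X
  haveI := free_tate (l := l) Ω hl X
  rw [finrank_hom hl (fr k X) (isFrob_fr k X) (fr k X) (isFrob_fr k X) hT]
  refine le_trans (le_of_eq ?_) (RankThm.natDegree_le_sum _ (LinearMap.charpoly_monic _))
  rw [LinearMap.charpoly_natDegree, Module.finrank_baseChange, K523.RankTate.finrank_tate Ω X l hl g hg]

end K522.FFThm
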