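import Groth.Agent.AbVar.K522.DegDet
import Groth.Agent.AbVar.K522.Points
import Groth.Agent.AbVar.K522.RH
import Groth.Agent.AbVar.K522.ExpSum
import Groth.Agent.AbVar.K522.FFThm
import Mathlib.FieldTheory.Finite.Extension

/-!
# Point counts determine the characteristic polynomial of Frobenius
-/

set_option autoImplicit false
universe u

open CategoryTheory CategoryTheory.Limits MonoidalCategory CartesianMonoidalCategory AlgebraicGeometry MonObj

namespace K522.PtCount

open Polynomial AbDual K520.Frob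

/-- A finite field has an extension of every degree. -/
theorem exists_ext (k : Type u) [Field k] [Finite k] (n : ℕ) (hn : 0 < n) :
    ∃ (k' : Type u) (_ : Field k') (_ : Algebra k k') (_ : Finite k'), Module.finrank k k' = n := by
  obtain ⟨p, hp⟩ := CharP.exists k
  haveI := hp
  haveI : Fact p.Prime := ⟨CharP.char_is_prime k p⟩
  haveI : NeZero n := ⟨hn.ne'⟩
  let E := FiniteField.Extension k p n
  refine ⟨ULift.{u} E, inferInstance, inferInstance, inferInstance, ?_⟩
  rw [LinearEquiv.finrank_eq (ULift.moduleEquiv : ULift.{u} E ≃ₗ[k] E)]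
  exact FiniteField.finrank_extension k p n

variable {k : Type u} [Field k] [Finite k] (Ω : Type u) [Field Ω] [Algebra k Ω] [IsAlgClosed Ω] {l : ℕ} [Fact l.Prime]
  {X Y : Over (Spec (CommRingCat.of k))} [GrpObj X] [IsCommMonObj X] [IsProper X.hom] [GeometricallyIntegral X.hom]
  [GrpObj Y] [IsCommMonObj Y] [IsProper Y.hom] [GeometricallyIntegral Y.hom]

theorem card_points (hl : (l : k) ≠ 0) (πX : X ⟶ X) [IsMonHom πX] (hπ : IsFrob (Nat.card k) πX.left)
    [Module.Free ℤ_[l] (TateMod X l (SGA7.pt (K := k) Ω))] [Module.Finite ℤ_[l] (TateMod X l (SGA7.pt (K := k) Ω))]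
    (P : ℤ[X]) (hP : (tateMapₗ (l := l) (T := SGA7.pt (K := k) Ω) πX).charpoly = P.map (Int.castRingHom ℤ_[l]))
    (k' : Type u) [Field k'] [Algebra k k'] [Finite k'] :
    (Nat.card (Over.mk (Spec.map (CommRingCat.ofHom (algebraMap k k'))) ⟶ X) : ℂ) =
      (((P.map (Int.castRingHom ℂ)).roots.map (fun α => 1 - α ^ Module.finrank k k')).prod) :=
  Points.card_points_eq_prod k Ω l X πX hπ (fun f => (DegDet.finrank_eq_det Ω hl f.toHom).1) P hP k'

/-- Equal characteristic polynomials iff equal point counts. -/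
theorem charpoly_eq_iff (hl : (l : k) ≠ 0) (πX : X ⟶ X) [IsMonHom πX] (hπX : IsFrob (Nat.card k) πX.left)
    (πY : Y ⟶ Y) [IsMonHom πY] (hπY : IsFrob (Nat.card k) πY.left)
    [Module.Free ℤ_[l] (TateMod X l (SGA7.pt (K := k) Ω))] [Module.Finite ℤ_[l] (TateMod X l (SGA7.pt (K := k) Ω))]
    [Module.Free ℤ_[l] (TateMod Y l (SGA7.pt (K := k) Ω))] [Module.Finite ℤ_[l] (TateMod Y l (SGA7.pt (K := k) Ω))] :
    (tateMapₗ (l := l) (T := SGA7.pt (K := k) Ω) πX).charpoly = (tateMapₗ (l := l) (T := SGA7.pt (K := k) Ω) πY).charpoly ↔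
      ∀ (k' : Type u) [Field k'] [Algebra k k'] [Finite k'],
        Nat.card (Over.mk (Spec.map (CommRingCat.ofHom (algebraMap k k'))) ⟶ X) =
          Nat.card (Over.mk (Spec.map (CommRingCat.ofHom (algebraMap k k'))) ⟶ Y) := by
  obtain ⟨g, hg⟩ := K516.HomFin.exists_dim X
  obtain ⟨h, hh⟩ := K516.HomFin.exists_dim Y
  obtain ⟨P, hP1, hP2, hP3, -, -⟩ := DegDet.exists_charpoly Ω hl g hg πX
  obtain ⟨Q, hQ1, hQ2, hQ3, -, -⟩ := DegDet.exists_charpoly Ω hl h hh πY
  constructor
  · intro hc k' _ _ _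
    have e1 := card_points Ω hl πX hπX P hP3 k'
    have e2 := card_points Ω hl πY hπY P (hc.symm.trans hP3) k'
    exact_mod_cast e1.trans e2.symm
  · intro hc
    have hPQ : P = Q := by
      have hcard : 1 < Nat.card k := Finite.one_lt_card
      refine ExpSum.poly_eq P Q hP1 hQ1 (Real.sqrt (Nat.card k)) ?_
        (fun α hα => RH.norm_of_mem_roots (Ω := Ω) hl (Nat.card k) Nat.card_pos.ne' (EndAV.End.of πX) hπX P hP3 α hα)
        (fun α hα => RH.norm_of_mem_roots (Ω := Ω) hl (Nat.card k) Nat.card_pos.ne' (EndAV.End.of πY) hπY Q hQ3 α hα)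
        fun n hn => ?_
      · rw [Real.lt_sqrt zero_le_one, one_pow]
        exact_mod_cast hcard
      · obtain ⟨k', _, _, _, hk'⟩ := exists_ext k n hn
        have e1 := card_points Ω hl πX hπX P hP3 k'
        have e2 := card_points Ω hl πY hπY Q hQ3 k'
        rw [hk'] at e1 e2
        rw [← e1, ← e2, hc k']
    rw [hP3, hQ3, hPQ]

end K522.PtCount
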