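import Groth.Agent.AbVar.K520.Frob
import Groth.Prelude.Def_SGA7a
import Mathlib.AlgebraicGeometry.Morphisms.Flat
import Mathlib.AlgebraicGeometry.ResidueField
import Mathlib.FieldTheory.IsAlgClosed.Basic

/-!
# Points over a finite field as fixed points of Frobenius

* `card_points_eq`: for a finite extension `k'` of the finite field `k`, the `k'`-points of a `k`-scheme are the fixed
  points of the `card k'`-Frobenius on the `Ω`-points.
-/

set_option autoImplicit false
universe u

namespace K522.FixPts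

open CategoryTheory CategoryTheory.Limits AlgebraicGeometry K520.Frob

theorem preimage_apply {Q : ℕ} (R : CommRingCat.{u}) (ρ : Spec R ⟶ Spec R) (h : IsFrob Q ρ) (a : R) :
    (Spec.preimage ρ).hom a = a ^ Q := by
  obtain ⟨r, rfl⟩ := Spec.map_surjective ρ
  rw [Spec.preimage_map]
  have h1 := h.app ⊤ ((Scheme.ΓSpecIso R).inv.hom a)
  have h2 : (Spec.map r).appLE ⊤ ⊤ (h.le ⊤) = (Spec.map r).appTop := Scheme.Hom.appLE_eq_app _
  rw [h2] at h1
  have h3 := ConcreteCategory.congr_hom (Scheme.ΓSpecIso_inv_naturality r) a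
  have h4 : (Scheme.ΓSpecIso R).inv.hom (r.hom a) = ((Scheme.ΓSpecIso R).inv.hom a) ^ Q := h3.trans h1
  rw [← map_pow] at h4
  exact (Scheme.ΓSpecIso R).symm.commRingCatIsoToRingEquiv.injective h4

/-- The `Q`-Frobenius of `Spec Ω`. -/
theorem exists_frob_spec (k' Ω : Type u) [Field k'] [Finite k'] [Field Ω] [Algebra k' Ω] :
    ∃ r : CommRingCat.of Ω ⟶ CommRingCat.of Ω, IsFrob (Nat.card k') (Spec.map r) ∧ ∀ a : Ω, r.hom a = a ^ Nat.card k' := by
  obtain ⟨π, hπ⟩ := exists_isFrob k' (Over.mk (Spec.map (CommRingCat.ofHom (algebraMap k' Ω))))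
  refine ⟨Spec.preimage π.left, ?_, preimage_apply _ _ hπ⟩
  rw [Spec.map_preimage]
  exact hπ

/-- elements fixed by the Frobenius come from the finite field. -/
theorem mem_range (k' Ω : Type u) [Field k'] [Finite k'] [Field Ω] (j : k' →+* Ω) (a : Ω)
    (h : a ^ Nat.card k' = a) : a ∈ j.range := by
  classical
  have := Fintype.ofFinite k'
  rw [Nat.card_eq_fintype_card] at h
  let P : Polynomial Ω := Polynomial.X ^ Fintype.card k' - Polynomial.X
  have hP : P ≠ 0 := FiniteField.X_pow_card_sub_X_ne_zero Ω Fintype.one_lt_card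
  have hdeg : P.natDegree = Fintype.card k' := FiniteField.X_pow_card_sub_X_natDegree_eq Ω Fintype.one_lt_card
  have h1 : (Finset.univ.image j) ⊆ P.roots.toFinset := by
    intro x hx
    obtain ⟨y, -, rfl⟩ := Finset.mem_image.mp hx
    rw [Multiset.mem_toFinset, Polynomial.mem_roots hP]
    simp only [P, Polynomial.IsRoot.def, Polynomial.eval_sub, Polynomial.eval_pow, Polynomial.eval_X]
    rw [← map_pow, FiniteField.pow_card, sub_self]
  have h2 : P.roots.toFinset.card ≤ (Finset.univ.image j).card := by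
    rw [Finset.card_image_of_injective _ j.injective, Finset.card_univ, ← hdeg]
    exact (Multiset.toFinset_card_le _).trans (Polynomial.card_roots' _)
  have h3 := Finset.eq_of_subset_of_card_le h1 h2
  have h4 : a ∈ P.roots.toFinset := by
    rw [Multiset.mem_toFinset, Polynomial.mem_roots hP]
    simp only [P, Polynomial.IsRoot.def, Polynomial.eval_sub, Polynomial.eval_pow, Polynomial.eval_X]
    rw [h, sub_self]
  rw [← h3] at h4
  obtain ⟨y, -, hy⟩ := Finset.mem_image.mp h4
  exact ⟨y, hy⟩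

theorem exists_descend (k' Ω : Type u) [Field k'] [Finite k'] [Field Ω] (j : k' →+* Ω) {X : Scheme.{u}}
    (r : CommRingCat.of Ω ⟶ CommRingCat.of Ω) (hr : ∀ a : Ω, r.hom a = a ^ Nat.card k')
    (x : Spec (CommRingCat.of Ω) ⟶ X) (hx : Spec.map r ≫ x = x) :
    ∃ y : Spec (CommRingCat.of k') ⟶ X, Spec.map (CommRingCat.ofHom j) ≫ y = x := by
  obtain ⟨⟨z, ψ⟩, rfl⟩ := (Scheme.SpecToEquivOfField Ω X).symm.surjective x
  have e : (Scheme.SpecToEquivOfField Ω X).symm ⟨z, ψ⟩ = Spec.map ψ ≫ X.fromSpecResidueField z := rfl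
  rw [e] at hx ⊢
  rw [← Category.assoc, cancel_mono, ← Spec.map_comp, Spec.map_inj] at hx
  have h1 : ∀ a, ψ.hom a ∈ j.range := fun a => by
    refine mem_range k' Ω j _ ?_
    rw [← hr]
    exact congrArg (fun φ => φ.hom a) hx
  let e1 : k' ≃+* j.range := RingEquiv.ofBijective j.rangeRestrict
    ⟨fun a b h => j.injective (congrArg Subtype.val h), j.rangeRestrict_surjective⟩
  let ψ' : X.residueField z →+* k' := (e1.symm : j.range →+* k').comp (ψ.hom.codRestrict j.range h1)
  have h2 : j.comp ψ' = ψ.hom := by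
    ext a
    have h3 : e1 (e1.symm (ψ.hom.codRestrict j.range h1 a)) = ψ.hom.codRestrict j.range h1 a := e1.apply_symm_apply _
    exact congrArg Subtype.val h3
  refine ⟨Spec.map (CommRingCat.ofHom ψ') ≫ X.fromSpecResidueField z, ?_⟩
  rw [← Category.assoc, ← Spec.map_comp]
  congr 2
  ext a
  exact RingHom.congr_fun h2 a

theorem epi_spec {k' Ω : Type u} [Field k'] [Field Ω] (j : k' →+* Ω) : Epi (Spec.map (CommRingCat.ofHom j)) := by
  have h1 : Surjective (Spec.map (CommRingCat.ofHom j)) := ⟨fun y =>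
    ⟨IsLocalRing.closedPoint Ω, Subsingleton.elim (α := PrimeSpectrum k') _ _⟩⟩
  have h2 : Flat (Spec.map (CommRingCat.ofHom j)) := inferInstance
  exact Flat.epi_of_flat_of_surjective _

/-- The `k'`-points are the fixed points of the `card k'`-Frobenius on the geometric points. -/
theorem card_points_eq (k Ω : Type u) [Field k] [Field Ω] [Algebra k Ω] [IsAlgClosed Ω]
    (X : Over (Spec (CommRingCat.of k))) (k' : Type u) [Field k'] [Algebra k k'] [Finite k'] [Algebra.IsAlgebraic k k']
    (φ : X ⟶ X) (hφ : IsFrob (Nat.card k') φ.left) :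
    Nat.card (Over.mk (Spec.map (CommRingCat.ofHom (algebraMap k k'))) ⟶ X) =
      Nat.card {x : SGA7.pt (K := k) Ω ⟶ X // x ≫ φ = x} := by
  let j : k' →ₐ[k] Ω := IsAlgClosed.lift
  letI : Algebra k' Ω := j.toRingHom.toAlgebra
  obtain ⟨r, hr1, hr2⟩ := exists_frob_spec k' Ω
  obtain ⟨ρ, hρ⟩ := exists_isFrob k' (Over.mk (𝟙 (Spec (CommRingCat.of k'))))
  have hρ1 : ρ.left = 𝟙 _ := by
    have := Over.w ρ
    exact (Category.comp_id _).symm.trans this
  rw [hρ1] at hρ
  haveI := epi_spec j.toRingHom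
  have hcomp : CommRingCat.ofHom (algebraMap k k') ≫ CommRingCat.ofHom j.toRingHom =
      CommRingCat.ofHom (algebraMap k Ω) := by
    ext a
    exact j.commutes a
  have hJ : Spec.map (CommRingCat.ofHom j.toRingHom) ≫ Spec.map (CommRingCat.ofHom (algebraMap k k')) =
      Spec.map (CommRingCat.ofHom (algebraMap k Ω)) := by
    rw [← Spec.map_comp, hcomp]
  let J : SGA7.pt (K := k) Ω ⟶ Over.mk (Spec.map (CommRingCat.ofHom (algebraMap k k'))) :=
    Over.homMk (Spec.map (CommRingCat.ofHom j.toRingHom)) hJ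
  refine Nat.card_eq_of_bijective (fun y => ⟨J ≫ y, ?_⟩) ⟨fun y z h => ?_, fun x => ?_⟩
  · ext1
    change (Spec.map (CommRingCat.ofHom j.toRingHom) ≫ y.left) ≫ φ.left =
      Spec.map (CommRingCat.ofHom j.toRingHom) ≫ y.left
    rw [Category.assoc, ← hρ.comm hφ y.left, Category.id_comp]
  · have h1 : J ≫ y = J ≫ z := congrArg Subtype.val h
    have h2 : Spec.map (CommRingCat.ofHom j.toRingHom) ≫ y.left =
      Spec.map (CommRingCat.ofHom j.toRingHom) ≫ z.left := congrArg CommaMorphism.left h1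
    ext1
    rwa [cancel_epi] at h2
  · obtain ⟨x, hx⟩ := x
    have hx' : x.left ≫ φ.left = x.left := congrArg CommaMorphism.left hx
    rw [← hr1.comm hφ x.left] at hx'
    obtain ⟨y, hy⟩ := exists_descend k' Ω j.toRingHom r hr2 x.left hx'
    have hy' : y ≫ X.hom = Spec.map (CommRingCat.ofHom (algebraMap k k')) := by
      rw [← cancel_epi (Spec.map (CommRingCat.ofHom j.toRingHom)), ← Category.assoc, hy, hJ]
      exact Over.w x
    refine ⟨Over.homMk y hy', ?_⟩
    apply Subtype.ext
    ext1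
    exact hy

end K522.FixPts
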