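import Groth.Prelude.Def_EndTate
import Groth.Agent.AbVar.K519.Tate
import Mathlib.CategoryTheory.Monoidal.Cartesian.Mon
import Mathlib.LinearAlgebra.Prod
import Mathlib.LinearAlgebra.FreeModule.Finite.Basic

/-!
# The Tate module of a product

* `inl`, `inr`: the injections `X ⟶ X ⊗ Y`, `Y ⟶ X ⊗ Y` as homomorphisms and the relations;
* `prodEquiv : T_l (X ⊗ Y) ≃ T_l X × T_l Y`, given by `(T_l fst, T_l snd)`, with inverse `T_l inl + T_l inr`.
-/

set_option autoImplicit false
universe u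

namespace K522.ProdT

open CategoryTheory CategoryTheory.Limits AlgebraicGeometry MonoidalCategory CartesianMonoidalCategory MonObj GrpObj
open AbDual

variable {S : Scheme.{u}} {X Y : Over S} [GrpObj X] [IsCommMonObj X] [GrpObj Y] [IsCommMonObj Y]

instance isMonHom_one : IsMonHom (1 : X ⟶ Y) := inferInstanceAs (IsMonHom (0 : EndAV.Hom X Y).toHom)

noncomputable section

/-- the first injection. -/
def inl (X Y : Over S) [GrpObj X] [IsCommMonObj X] [GrpObj Y] [IsCommMonObj Y] : X ⟶ X ⊗ Y := lift (𝟙 X) 1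

/-- the second injection. -/
def inr (X Y : Over S) [GrpObj X] [IsCommMonObj X] [GrpObj Y] [IsCommMonObj Y] : Y ⟶ X ⊗ Y := lift 1 (𝟙 Y)

@[reassoc (attr := simp)] theorem inl_fst : inl X Y ≫ fst X Y = 𝟙 X := lift_fst _ _
@[reassoc (attr := simp)] theorem inl_snd : inl X Y ≫ snd X Y = 1 := lift_snd _ _
@[reassoc (attr := simp)] theorem inr_fst : inr X Y ≫ fst X Y = 1 := lift_fst _ _
@[reassoc (attr := simp)] theorem inr_snd : inr X Y ≫ snd X Y = 𝟙 Y := lift_snd _ _

instance : IsMonHom (inl X Y) := inferInstanceAs (IsMonHom (lift (𝟙 X) (1 : X ⟶ Y)))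

instance : IsMonHom (inr X Y) := inferInstanceAs (IsMonHom (lift (1 : Y ⟶ X) (𝟙 Y)))

/-- every morphism into the product is the product of its two components. -/
theorem eq_mul {T : Over S} (a : T ⟶ X ⊗ Y) : a = (a ≫ fst X Y ≫ inl X Y) * (a ≫ snd X Y ≫ inr X Y) := by
  refine CartesianMonoidalCategory.hom_ext _ _ ?_ ?_
  · rw [MonObj.mul_comp, Category.assoc, Category.assoc, Category.assoc, Category.assoc, inl_fst, inr_fst,
      Category.comp_id, MonObj.comp_one, MonObj.comp_one, _root_.mul_one]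
  · rw [MonObj.mul_comp, Category.assoc, Category.assoc, Category.assoc, Category.assoc, inl_snd, inr_snd,
      Category.comp_id, MonObj.comp_one, MonObj.comp_one, _root_.one_mul]

variable {l : ℕ} [Fact l.Prime] {T : Over S}

theorem tate_one : tateMapₗ (l := l) (T := T) (1 : X ⟶ Y) = 0 := by
  refine LinearMap.ext fun x => TateMod.ext fun n => ?_
  rw [K519.Tate.tateMapₗ_apply, MonObj.comp_one]
  rfl

/-- `T_l (X ⊗ Y) ≃ T_l X × T_l Y`. -/
def prodEquiv : TateMod (X ⊗ Y) l T ≃ₗ[ℤ_[l]] TateMod X l T × TateMod Y l T :=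
  LinearEquiv.ofLinearMap ((tateMapₗ (fst X Y)).prod (tateMapₗ (snd X Y)))
    ((tateMapₗ (inl X Y)).coprod (tateMapₗ (inr X Y)))
    (by
      refine LinearMap.ext fun x => ?_
      obtain ⟨x, y⟩ := x
      have h1 : ∀ x : TateMod X l T, tateMapₗ (fst X Y) (tateMapₗ (inl X Y) x) = x := fun x => by
        rw [← LinearMap.comp_apply, ← K519.Tate.tateMapₗ_comp]
        have : tateMapₗ (l := l) (T := T) (inl X Y ≫ fst X Y) = tateMapₗ (𝟙 X) := by congr 1; exact inl_fst
        rw [this, K519.Tate.tateMapₗ_id]; rfl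
      have h2 : ∀ x : TateMod Y l T, tateMapₗ (fst X Y) (tateMapₗ (inr X Y) x) = 0 := fun x => by
        rw [← LinearMap.comp_apply, ← K519.Tate.tateMapₗ_comp]
        have : tateMapₗ (l := l) (T := T) (inr X Y ≫ fst X Y) = tateMapₗ (1 : Y ⟶ X) := by congr 1; exact inr_fst
        rw [this, tate_one]; rfl
      have h3 : ∀ x : TateMod X l T, tateMapₗ (snd X Y) (tateMapₗ (inl X Y) x) = 0 := fun x => by
        rw [← LinearMap.comp_apply, ← K519.Tate.tateMapₗ_comp]
        have : tateMapₗ (l := l) (T := T) (inl X Y ≫ snd X Y) = tateMapₗ (1 : X ⟶ Y) := by congr 1; exact inl_snd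
        rw [this, tate_one]; rfl
      have h4 : ∀ x : TateMod Y l T, tateMapₗ (snd X Y) (tateMapₗ (inr X Y) x) = x := fun x => by
        rw [← LinearMap.comp_apply, ← K519.Tate.tateMapₗ_comp]
        have : tateMapₗ (l := l) (T := T) (inr X Y ≫ snd X Y) = tateMapₗ (𝟙 Y) := by congr 1; exact inr_snd
        rw [this, K519.Tate.tateMapₗ_id]; rfl
      rw [LinearMap.comp_apply, LinearMap.coprod_apply, map_add]
      change (tateMapₗ (fst X Y) (tateMapₗ (inl X Y) x), tateMapₗ (snd X Y) (tateMapₗ (inl X Y) x)) +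
        (tateMapₗ (fst X Y) (tateMapₗ (inr X Y) y), tateMapₗ (snd X Y) (tateMapₗ (inr X Y) y)) = (x, y)
      rw [h1, h2, h3, h4, Prod.mk_add_mk, add_zero, zero_add])
    (by
      refine LinearMap.ext fun x => TateMod.ext fun n => ?_
      have h := eq_mul ((x : ℕ → Additive (T ⟶ X ⊗ Y)) n).toMul
      rw [← Category.assoc, ← Category.assoc] at h
      exact (congrArg Additive.ofMul h).symm)

theorem prodEquiv_apply (z : TateMod (X ⊗ Y) l T) :
    prodEquiv z = (tateMapₗ (fst X Y) z, tateMapₗ (snd X Y) z) := rfl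

theorem prodEquiv_symm_apply (x : TateMod X l T) (y : TateMod Y l T) :
    prodEquiv.symm (x, y) = tateMapₗ (inl X Y) x + tateMapₗ (inr X Y) y := rfl

theorem free [Module.Free ℤ_[l] (TateMod X l T)] [Module.Free ℤ_[l] (TateMod Y l T)] :
    Module.Free ℤ_[l] (TateMod (X ⊗ Y) l T) := Module.Free.of_equiv prodEquiv.symm

theorem finite [Module.Finite ℤ_[l] (TateMod X l T)] [Module.Finite ℤ_[l] (TateMod Y l T)] :
    Module.Finite ℤ_[l] (TateMod (X ⊗ Y) l T) := Module.Finite.equiv prodEquiv.symm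

end

end K522.ProdT
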