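import Groth.Prelude.Def_SGA7a
import Groth.Agent.AbVar.K522.VRep
import Groth.Agent.AbVar.K522.ProdT

/-!
# The formal half of Tate's theorem (`S16848` from `S16851`)

* `mem_of_blocks`: the graph argument in block form.
* `RangeProp X ρ`: every Galois stable subspace of `V_l X` is the range of an element of `EE` (the `ℚ_l`-algebra generated by
  endomorphisms).
* `exists_compl`, `mem_EE`: `RangeProp` for `X` (for `X ⊗ X`) and semisimplicity of `EE` imply that `V_l X` is a semisimple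
  Galois representation (that the commutant of Galois is `EE`).
* `mem_span_hom`: the version for homomorphisms `X ⟶ Y`, from the version for endomorphisms of `X ⊗ Y`.
-/

set_option autoImplicit false
universe u

open TensorProduct

namespace K522.TateAbs

section blocks

variable {K V V2 : Type*} [Field K] [AddCommGroup V] [Module K V] [AddCommGroup V2] [Module K V2]
  [FiniteDimensional K V] (E : Subalgebra K (Module.End K V)) [IsSemisimpleRing E]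

/-- Tate's graph argument. -/
theorem mem_of_blocks (p1 p2 : V2 →ₗ[K] V) (i1 i2 : V →ₗ[K] V2) (h11 : ∀ v, p1 (i1 v) = v)
    (h12 : ∀ v, p1 (i2 v) = 0) (h21 : ∀ v, p2 (i1 v) = 0) (h22 : ∀ v, p2 (i2 v) = v)
    (hid : ∀ w, i1 (p1 w) + i2 (p2 w) = w) (φ : Module.End K V) (u : Module.End K V2)
    (hu : ∀ p ∈ ({p1, p2} : Set (V2 →ₗ[K] V)), ∀ i ∈ ({i1, i2} : Set (V →ₗ[K] V2)), p ∘ₗ u ∘ₗ i ∈ E)
    (hr : LinearMap.range u = LinearMap.ker (p2 - φ ∘ₗ p1)) : φ ∈ E := by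
  have hmem : ∀ w, w ∈ LinearMap.range u ↔ p2 w = φ (p1 w) := fun w => by
    rw [hr, LinearMap.mem_ker, LinearMap.sub_apply, LinearMap.comp_apply, sub_eq_zero]
  refine DoubleCent.mem_of_commute_of_graph E φ ⟨?_, ?_, ?_⟩
  · exact (p1.prod p2) ∘ₗ u ∘ₗ (i1.coprod i2)
  · ext ⟨a, b⟩
    rw [LinearMap.mem_graph_iff]
    constructor
    · rintro ⟨x, hx⟩
      have h1 : p1 (u (i1 x.1 + i2 x.2)) = a := congrArg Prod.fst hx
      have h2 : p2 (u (i1 x.1 + i2 x.2)) = b := congrArg Prod.snd hx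
      rw [← h1, ← h2]
      exact (hmem _).mp ⟨_, rfl⟩
    · intro hab
      change b = φ a at hab
      obtain ⟨y, hy⟩ := (hmem (i1 a + i2 b)).mpr (by rw [map_add, map_add, h21, h22, h11, h12, zero_add, add_zero, hab])
      refine ⟨(p1 y, p2 y), ?_⟩
      change (p1 (u (i1 (p1 y) + i2 (p2 y))), p2 (u (i1 (p1 y) + i2 (p2 y)))) = (a, b)
      rw [hid, hy, map_add, map_add, h21, h22, h11, h12, zero_add, add_zero]
  · intro c hc x
    have hb : ∀ p ∈ ({p1, p2} : Set (V2 →ₗ[K] V)), ∀ i ∈ ({i1, i2} : Set (V →ₗ[K] V2)), ∀ v,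
        c (p (u (i v))) = p (u (i (c v))) := fun p hp i hi v => hc _ (hu p hp i hi) v
    have hp1 : p1 ∈ ({p1, p2} : Set (V2 →ₗ[K] V)) := Or.inl rfl
    have hp2 : p2 ∈ ({p1, p2} : Set (V2 →ₗ[K] V)) := Or.inr rfl
    have hi1 : i1 ∈ ({i1, i2} : Set (V →ₗ[K] V2)) := Or.inl rfl
    have hi2 : i2 ∈ ({i1, i2} : Set (V →ₗ[K] V2)) := Or.inr rfl
    change (c (p1 (u (i1 x.1 + i2 x.2))), c (p2 (u (i1 x.1 + i2 x.2)))) =
      (p1 (u (i1 (c x.1) + i2 (c x.2))), p2 (u (i1 (c x.1) + i2 (c x.2))))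
    simp only [map_add]
    rw [hb _ hp1 _ hi1, hb _ hp1 _ hi2, hb _ hp2 _ hi1, hb _ hp2 _ hi2]

end blocks

open CategoryTheory CategoryTheory.Limits AlgebraicGeometry MonoidalCategory CartesianMonoidalCategory MonObj GrpObj
open AbDual K522.VRep

noncomputable section

section base

variable {B : Scheme.{u}} {l : ℕ} [Fact l.Prime] {T : Over B} {X Y Z : Over B} [GrpObj X] [IsCommMonObj X] [GrpObj Y]
  [IsCommMonObj Y] [GrpObj Z] [IsCommMonObj Z]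

/-- `V_l(f)`. -/
def vmap (f : X ⟶ Y) [IsMonHom f] : Vl l T X →ₗ[ℚ_[l]] Vl l T Y := (tateMapₗ (l := l) (T := T) f).baseChange ℚ_[l]

theorem vmap_comp (f : X ⟶ Y) [IsMonHom f] (g : Y ⟶ Z) [IsMonHom g] :
    vmap (l := l) (T := T) (f ≫ g) = (vmap g).comp (vmap f) := by
  rw [vmap, K519.Tate.tateMapₗ_comp, LinearMap.baseChange_comp]
  rfl

theorem vmap_id : vmap (l := l) (T := T) (𝟙 X) = LinearMap.id := by
  rw [vmap, K519.Tate.tateMapₗ_id, LinearMap.baseChange_id]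

theorem vmap_one : vmap (l := l) (T := T) (1 : X ⟶ Y) = 0 := by
  rw [vmap, ProdT.tate_one, LinearMap.baseChange_zero]

theorem vmap_congr {f g : X ⟶ Y} [IsMonHom f] [IsMonHom g] (h : f = g) : vmap (l := l) (T := T) f = vmap g := by
  subst h
  rfl

theorem p1i1 (v : Vl l T X) : vmap (fst X Y) (vmap (ProdT.inl X Y) v) = v := by
  rw [← LinearMap.comp_apply, ← vmap_comp, vmap_congr (g := 𝟙 X) ProdT.inl_fst, vmap_id, LinearMap.id_apply]

theorem p2i2 (v : Vl l T Y) : vmap (snd X Y) (vmap (ProdT.inr X Y) v) = v := by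
  rw [← LinearMap.comp_apply, ← vmap_comp, vmap_congr (g := 𝟙 Y) ProdT.inr_snd, vmap_id, LinearMap.id_apply]

theorem p2i1 (v : Vl l T X) : vmap (snd X Y) (vmap (ProdT.inl X Y) v) = 0 := by
  rw [← LinearMap.comp_apply, ← vmap_comp, vmap_congr (g := (1 : X ⟶ Y)) ProdT.inl_snd, vmap_one, LinearMap.zero_apply]

theorem p1i2 (v : Vl l T Y) : vmap (fst X Y) (vmap (ProdT.inr X Y) v) = 0 := by
  rw [← LinearMap.comp_apply, ← vmap_comp, vmap_congr (g := (1 : Y ⟶ X)) ProdT.inr_fst, vmap_one, LinearMap.zero_apply]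

theorem hid (w : Vl l T (X ⊗ Y)) :
    vmap (ProdT.inl X Y) (vmap (fst X Y) w) + vmap (ProdT.inr X Y) (vmap (snd X Y) w) = w := by
  have h1 : (tateMapₗ (l := l) (T := T) (ProdT.inl X Y)).comp (tateMapₗ (fst X Y)) +
      (tateMapₗ (ProdT.inr X Y)).comp (tateMapₗ (snd X Y)) = LinearMap.id :=
    LinearMap.ext fun x => ProdT.prodEquiv.symm_apply_apply x
  have h2 := congrArg (LinearMap.baseChange ℚ_[l]) h1
  rw [LinearMap.baseChange_add, LinearMap.baseChange_comp, LinearMap.baseChange_comp, LinearMap.baseChange_id] at h2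
  exact LinearMap.congr_fun h2 w

end base

variable {k Ω : Type u} [Field k] [Field Ω] [Algebra k Ω] {l : ℕ} [Fact l.Prime]
  {X Y : Over (Spec (CommRingCat.of k))} [GrpObj X] [IsCommMonObj X] [GrpObj Y] [IsCommMonObj Y]

/-- `ρ` is the Galois action on the Tate module. -/
def IsGal (ρ : (Ω ≃ₐ[k] Ω) → Module.End ℤ_[l] (TateMod X l (SGA7.pt Ω))) : Prop :=
  ∀ (τ : Ω ≃ₐ[k] Ω) (z : TateMod X l (SGA7.pt Ω)) (m : ℕ),
      (TateMod.component X l (SGA7.pt Ω) m (ρ τ z)).toMul =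
        SGA7.galAct τ (TateMod.component X l (SGA7.pt Ω) m z).toMul

theorem IsGal.comm {ρX : (Ω ≃ₐ[k] Ω) → Module.End ℤ_[l] (TateMod X l (SGA7.pt Ω))} (hX : IsGal ρX)
    {ρY : (Ω ≃ₐ[k] Ω) → Module.End ℤ_[l] (TateMod Y l (SGA7.pt Ω))} (hY : IsGal ρY) (f : X ⟶ Y) [IsMonHom f]
    (τ : Ω ≃ₐ[k] Ω) : (tateMapₗ f).comp (ρX τ) = (ρY τ).comp (tateMapₗ f) := by
  refine LinearMap.ext fun z => TateMod.ext fun m => ?_
  apply Additive.toMul.injective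
  have h1 := hX τ z m
  have h2 := hY τ (tateMapₗ f z) m
  change (TateMod.component X l (SGA7.pt Ω) m (ρX τ z)).toMul ≫ f = _
  rw [h1]
  exact (Category.assoc _ _ _).trans h2.symm

theorem IsGal.vcomm {ρX : (Ω ≃ₐ[k] Ω) → Module.End ℤ_[l] (TateMod X l (SGA7.pt Ω))} (hX : IsGal ρX)
    {ρY : (Ω ≃ₐ[k] Ω) → Module.End ℤ_[l] (TateMod Y l (SGA7.pt Ω))} (hY : IsGal ρY) (f : X ⟶ Y) [IsMonHom f]
    (τ : Ω ≃ₐ[k] Ω) (v : Vl l (SGA7.pt Ω) X) :
    vmap f ((ρX τ).baseChange ℚ_[l] v) = (ρY τ).baseChange ℚ_[l] (vmap f v) := by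
  have h := congrArg (LinearMap.baseChange ℚ_[l]) (hX.comm hY f τ)
  rw [LinearMap.baseChange_comp, LinearMap.baseChange_comp] at h
  exact LinearMap.congr_fun h v

/-- The Galois action on the product. -/
def prodRho (ρX : (Ω ≃ₐ[k] Ω) → Module.End ℤ_[l] (TateMod X l (SGA7.pt Ω)))
    (ρY : (Ω ≃ₐ[k] Ω) → Module.End ℤ_[l] (TateMod Y l (SGA7.pt Ω))) (τ : Ω ≃ₐ[k] Ω) :
    Module.End ℤ_[l] (TateMod (X ⊗ Y) l (SGA7.pt Ω)) :=
  ProdT.prodEquiv.symm.toLinearMap ∘ₗ ((ρX τ).prodMap (ρY τ)) ∘ₗ ProdT.prodEquiv.toLinearMap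

theorem isGal_prodRho {ρX : (Ω ≃ₐ[k] Ω) → Module.End ℤ_[l] (TateMod X l (SGA7.pt Ω))} (hX : IsGal ρX)
    {ρY : (Ω ≃ₐ[k] Ω) → Module.End ℤ_[l] (TateMod Y l (SGA7.pt Ω))} (hY : IsGal ρY) : IsGal (prodRho ρX ρY) := by
  intro τ z m
  have h0 : ProdT.prodEquiv (prodRho ρX ρY τ z) = (ρX τ (tateMapₗ (fst X Y) z), ρY τ (tateMapₗ (snd X Y) z)) :=
    ProdT.prodEquiv.apply_symm_apply _
  have h1 : tateMapₗ (fst X Y) (prodRho ρX ρY τ z) = ρX τ (tateMapₗ (fst X Y) z) := congrArg Prod.fst h0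
  have h2 : tateMapₗ (snd X Y) (prodRho ρX ρY τ z) = ρY τ (tateMapₗ (snd X Y) z) := congrArg Prod.snd h0
  refine CartesianMonoidalCategory.hom_ext _ _ ?_ ?_
  · have h3 := hX τ (tateMapₗ (fst X Y) z) m
    rw [← h1] at h3
    exact h3.trans (Category.assoc _ _ _).symm
  · have h3 := hY τ (tateMapₗ (snd X Y) z) m
    rw [← h2] at h3
    exact h3.trans (Category.assoc _ _ _).symm

/-- Every Galois stable subspace is the range of an element of the algebra generated by endomorphisms. -/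
def RangeProp (ρ : (Ω ≃ₐ[k] Ω) → Module.End ℤ_[l] (TateMod X l (SGA7.pt Ω))) : Prop :=
  ∀ W : Submodule ℚ_[l] (Vl l (SGA7.pt Ω) X), (∀ τ : Ω ≃ₐ[k] Ω, W.map ((ρ τ).baseChange ℚ_[l]) ≤ W) →
    ∃ u ∈ EE l (SGA7.pt Ω) X, LinearMap.range u = W

theorem commute_EE {ρ : (Ω ≃ₐ[k] Ω) → Module.End ℤ_[l] (TateMod X l (SGA7.pt Ω))} (hX : IsGal ρ) (τ : Ω ≃ₐ[k] Ω)
    (e : Module.End ℚ_[l] (Vl l (SGA7.pt Ω) X)) (he : e ∈ EE l (SGA7.pt Ω) X) (v : Vl l (SGA7.pt Ω) X) :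
    (ρ τ).baseChange ℚ_[l] (e v) = e ((ρ τ).baseChange ℚ_[l] v) := by
  have h1 : EE l (SGA7.pt Ω) X ≤ Subalgebra.centralizer ℚ_[l] {(ρ τ).baseChange ℚ_[l]} := by
    refine Algebra.adjoin_le ?_
    rintro _ ⟨f, rfl⟩
    rw [SetLike.mem_coe, Subalgebra.mem_centralizer_iff]
    rintro _ rfl
    exact LinearMap.ext fun v => (hX.vcomm hX f.toHom τ v).symm
  have h2 := h1 he
  rw [Subalgebra.mem_centralizer_iff] at h2
  exact LinearMap.congr_fun (h2 _ rfl) v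

/-- `V_l X` is a semisimple Galois representation. -/
theorem exists_compl {ρ : (Ω ≃ₐ[k] Ω) → Module.End ℤ_[l] (TateMod X l (SGA7.pt Ω))} (hX : IsGal ρ)
    (hss : IsSemisimpleRing (EE l (SGA7.pt Ω) X)) (hR : RangeProp ρ) (W : Submodule ℚ_[l] (Vl l (SGA7.pt Ω) X))
    (hW : ∀ τ : Ω ≃ₐ[k] Ω, W.map ((ρ τ).baseChange ℚ_[l]) ≤ W) :
    ∃ W' : Submodule ℚ_[l] (Vl l (SGA7.pt Ω) X), IsCompl W W' ∧
      ∀ τ : Ω ≃ₐ[k] Ω, W'.map ((ρ τ).baseChange ℚ_[l]) ≤ W' :=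
  DoubleCent.exists_compl (EE l (SGA7.pt Ω) X) (fun τ => (ρ τ).baseChange ℚ_[l])
    (fun τ e he v => commute_EE hX τ e he v) W (hR W hW)

/-- The commutant of Galois is generated by the endomorphisms. -/
theorem mem_EE [Module.Finite ℤ_[l] (TateMod X l (SGA7.pt Ω))]
    {ρ : (Ω ≃ₐ[k] Ω) → Module.End ℤ_[l] (TateMod X l (SGA7.pt Ω))} (hX : IsGal ρ)
    (hss : IsSemisimpleRing (EE l (SGA7.pt Ω) X)) (hR : RangeProp (prodRho ρ ρ))
    (φ : Module.End ℚ_[l] (Vl l (SGA7.pt Ω) X))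
    (hφ : ∀ τ : Ω ≃ₐ[k] Ω, φ ∘ₗ (ρ τ).baseChange ℚ_[l] = (ρ τ).baseChange ℚ_[l] ∘ₗ φ) :
    φ ∈ EE l (SGA7.pt Ω) X := by
  have hP := isGal_prodRho hX hX
  let W : Submodule ℚ_[l] (Vl l (SGA7.pt Ω) (X ⊗ X)) := LinearMap.ker (vmap (snd X X) - φ ∘ₗ vmap (fst X X))
  obtain ⟨u, hu, hr⟩ := hR W (by
    rintro τ _ ⟨w, hw, rfl⟩
    have hw' : vmap (snd X X) w = φ (vmap (fst X X) w) := sub_eq_zero.mp hw
    refine sub_eq_zero.mpr ?_
    change vmap (snd X X) ((prodRho ρ ρ τ).baseChange ℚ_[l] w) =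
      φ (vmap (fst X X) ((prodRho ρ ρ τ).baseChange ℚ_[l] w))
    rw [hP.vcomm hX, hP.vcomm hX, hw']
    exact (LinearMap.congr_fun (hφ τ) _).symm)
  refine mem_of_blocks (EE l (SGA7.pt Ω) X) (vmap (fst X X)) (vmap (snd X X)) (vmap (ProdT.inl X X))
    (vmap (ProdT.inr X X)) p1i1 p1i2 p2i1 p2i2 hid φ u (fun p hp i hi => ?_) hr
  have hpi : ∃ (P : X ⊗ X ⟶ X) (_ : IsMonHom P), p = vmap P := by
    rcases hp with rfl | rfl
    · exact ⟨fst X X, inferInstance, rfl⟩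
    · exact ⟨snd X X, inferInstance, rfl⟩
  have hii : ∃ (I : X ⟶ X ⊗ X) (_ : IsMonHom I), i = vmap I := by
    rcases hi with rfl | rfl
    · exact ⟨ProdT.inl X X, inferInstance, rfl⟩
    · exact ⟨ProdT.inr X X, inferInstance, rfl⟩
  obtain ⟨P, _, rfl⟩ := hpi
  obtain ⟨I, _, rfl⟩ := hii
  rw [mem_EE_iff] at hu
  clear hr
  induction hu using Submodule.span_induction with
  | mem x hx =>
    obtain ⟨f, _, rfl⟩ := hx
    have h1 : vmap P ∘ₗ (tateMapₗ (l := l) (T := SGA7.pt Ω) f).baseChange ℚ_[l] ∘ₗ vmap I =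
        vmap (l := l) (T := SGA7.pt Ω) (I ≫ f ≫ P) := by
      rw [vmap_comp, vmap_comp]
      rfl
    rw [h1]
    exact Algebra.subset_adjoin ⟨EndAV.End.of (I ≫ f ≫ P), rfl⟩
  | zero =>
    have : vmap P ∘ₗ (0 : Module.End ℚ_[l] (Vl l (SGA7.pt Ω) (X ⊗ X))) ∘ₗ vmap I = 0 := by
      rw [LinearMap.zero_comp, LinearMap.comp_zero]
    rw [this]
    exact zero_mem _
  | add x y _ _ hx hy =>
    rw [LinearMap.add_comp, LinearMap.comp_add]
    exact add_mem hx hy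
  | smul a x _ hx =>
    rw [LinearMap.smul_comp, LinearMap.comp_smul]
    exact Subalgebra.smul_mem _ hx a

/-- The version for homomorphisms from the version for endomorphisms of the product. -/
theorem mem_span_hom {ρX : (Ω ≃ₐ[k] Ω) → Module.End ℤ_[l] (TateMod X l (SGA7.pt Ω))} (hX : IsGal ρX)
    {ρY : (Ω ≃ₐ[k] Ω) → Module.End ℤ_[l] (TateMod Y l (SGA7.pt Ω))} (hY : IsGal ρY)
    (h : ∀ φ : Module.End ℚ_[l] (Vl l (SGA7.pt Ω) (X ⊗ Y)),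
      (∀ τ : Ω ≃ₐ[k] Ω, φ ∘ₗ (prodRho ρX ρY τ).baseChange ℚ_[l] = (prodRho ρX ρY τ).baseChange ℚ_[l] ∘ₗ φ) →
      φ ∈ EE l (SGA7.pt Ω) (X ⊗ Y))
    (u : Vl l (SGA7.pt Ω) X →ₗ[ℚ_[l]] Vl l (SGA7.pt Ω) Y)
    (hu : ∀ (τ : Ω ≃ₐ[k] Ω) (v : Vl l (SGA7.pt Ω) X), u ((ρX τ).baseChange ℚ_[l] v) = (ρY τ).baseChange ℚ_[l] (u v)) :
    u ∈ Submodule.span ℚ_[l] {ψ : Vl l (SGA7.pt Ω) X →ₗ[ℚ_[l]] Vl l (SGA7.pt Ω) Y |
      ∃ (f : X ⟶ Y) (_ : IsMonHom f), ψ = (tateMapₗ (l := l) (T := SGA7.pt Ω) f).baseChange ℚ_[l]} := by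
  have hP := isGal_prodRho hX hY
  let φ : Module.End ℚ_[l] (Vl l (SGA7.pt Ω) (X ⊗ Y)) := vmap (ProdT.inr X Y) ∘ₗ u ∘ₗ vmap (fst X Y)
  have hφ := h φ (fun τ => LinearMap.ext fun w => by
    change vmap (ProdT.inr X Y) (u (vmap (fst X Y) ((prodRho ρX ρY τ).baseChange ℚ_[l] w))) =
      (prodRho ρX ρY τ).baseChange ℚ_[l] (vmap (ProdT.inr X Y) (u (vmap (fst X Y) w)))
    rw [hP.vcomm hX, hu, hY.vcomm hP])
  have h1 : u = vmap (snd X Y) ∘ₗ φ ∘ₗ vmap (ProdT.inl X Y) := LinearMap.ext fun v => by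
    change u v = vmap (snd X Y) (vmap (ProdT.inr X Y) (u (vmap (fst X Y) (vmap (ProdT.inl X Y) v))))
    rw [p1i1, p2i2]
  rw [h1]
  clear h1
  clear_value φ
  rw [mem_EE_iff] at hφ
  induction hφ using Submodule.span_induction with
  | mem x hx =>
    obtain ⟨f, _, rfl⟩ := hx
    refine Submodule.subset_span ⟨ProdT.inl X Y ≫ f ≫ snd X Y, inferInstance, ?_⟩
    have h1 : vmap (snd X Y) ∘ₗ (tateMapₗ (l := l) (T := SGA7.pt Ω) f).baseChange ℚ_[l] ∘ₗ vmap (ProdT.inl X Y) =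
        vmap (l := l) (T := SGA7.pt Ω) (ProdT.inl X Y ≫ f ≫ snd X Y) := by
      rw [vmap_comp, vmap_comp]
      rfl
    exact h1
  | zero =>
    have : vmap (snd X Y) ∘ₗ (0 : Module.End ℚ_[l] (Vl l (SGA7.pt Ω) (X ⊗ Y))) ∘ₗ vmap (ProdT.inl X Y) = 0 := by
      rw [LinearMap.zero_comp, LinearMap.comp_zero]
    rw [this]
    exact zero_mem _
  | add x y _ _ hx hy =>
    rw [LinearMap.add_comp, LinearMap.comp_add]
    exact add_mem hx hy
  | smul a x _ hx =>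
    rw [LinearMap.smul_comp, LinearMap.comp_smul]
    exact Submodule.smul_mem _ a hx

end

end K522.TateAbs
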