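import Mathlib.LinearAlgebra.Semisimple
import Mathlib.LinearAlgebra.Charpoly.Basic
import Mathlib.LinearAlgebra.Charpoly.ToMatrix
import Mathlib.LinearAlgebra.Matrix.Charpoly.Minpoly
import Mathlib.RingTheory.UniqueFactorizationDomain.NormalizedFactors
import Mathlib.Algebra.Polynomial.FieldDivision
import Mathlib.LinearAlgebra.Dimension.Finrank
import Mathlib.RingTheory.SimpleModule.Basic
import Mathlib.RingTheory.AdjoinRoot

/-! Dimension of the space of intertwiners of two semisimple endomorphisms. -/

set_option autoImplicit false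
universe u v w

namespace K522.LinInter

open Polynomial UniqueFactorizationMonoid
open scoped Classical

variable {K : Type u} [Field K]

/-- Multiplication by `X` on a `K[X]`-module. -/
noncomputable abbrev mX (M : Type v) [AddCommGroup M] [Module K M] [Module K[X] M] [IsScalarTower K K[X] M] :
    Module.End K M := Algebra.lsmul K K M (X : K[X])

section

variable {M : Type v} [AddCommGroup M] [Module K M] [Module K[X] M] [IsScalarTower K K[X] M]
variable {N : Type w} [AddCommGroup N] [Module K N] [Module K[X] N] [IsScalarTower K K[X] N]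

theorem finite_submodule [FiniteDimensional K M] (S : Submodule K[X] M) : FiniteDimensional K S :=
  FiniteDimensional.of_injective (S.subtype.restrictScalars K) S.injective_subtype

theorem charpoly_eq_of_equiv [FiniteDimensional K M] [FiniteDimensional K N] (e : M ≃ₗ[K[X]] N) :
    (mX (K := K) M).charpoly = (mX (K := K) N).charpoly := by
  rw [← LinearEquiv.charpoly_conj (e.restrictScalars K) (mX (K := K) M)]
  congr 1
  ext x
  simp [LinearEquiv.conj_apply]

theorem charpoly_prod [FiniteDimensional K M] [FiniteDimensional K N] :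
    (mX (K := K) (M × N)).charpoly = (mX (K := K) M).charpoly * (mX (K := K) N).charpoly := by
  rw [← LinearMap.charpoly_prodMap]
  congr 1

theorem aeval_mX (p : K[X]) (m : M) : aeval (mX (K := K) M) p m = p • m := by
  have : aeval (mX (K := K) M) = (Algebra.lsmul K K M : K[X] →ₐ[K] Module.End K M) := by
    apply Polynomial.algHom_ext
    simp [mX]
  rw [this]
  rfl

theorem simple_equiv [FiniteDimensional K M] [IsSimpleModule K[X] M] :
    Irreducible (mX (K := K) M).charpoly ∧
      Nonempty (M ≃ₗ[K[X]] (K[X] ⧸ Ideal.span {(mX (K := K) M).charpoly})) := by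
  obtain ⟨I, hI, ⟨e⟩⟩ := isSimpleModule_iff_quot_maximal.mp (inferInstance : IsSimpleModule K[X] M)
  obtain ⟨q₀, hq₀⟩ := (IsPrincipalIdealRing.principal I)
  have hq₀' : I = Ideal.span {q₀} := hq₀
  have hq₀0 : q₀ ≠ 0 := by
    rintro rfl
    have : I = ⊥ := by simpa using hq₀'
    subst this
    exact Polynomial.not_isField K (Ring.isField_iff_maximal_bot.mpr hI)
  set q := normalize q₀ with hqdef
  have hq' : I = Ideal.span {q} := by
    rw [hq₀']
    exact (Ideal.span_singleton_eq_span_singleton.mpr (normalize_associated q₀).symm)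
  have hq0 : q ≠ 0 := by simpa [hqdef] using hq₀0
  have hqm : q.Monic := Polynomial.monic_normalize hq₀0
  have hqi : Irreducible q := by
    rw [hq'] at hI
    exact (Ideal.irreducible_iff_isMaximal_span_singleton hq0).mpr hI
  have hfin : Module.finrank K M = q.natDegree := by
    rw [LinearEquiv.finrank_eq (e.restrictScalars K), hq', finrank_quotient_span_eq_natDegree]
  have hnt : Nontrivial M := IsSimpleModule.nontrivial K[X] M
  have haev : aeval (mX (K := K) M) q = 0 := by
    ext m
    rw [aeval_mX]
    apply e.injective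
    rw [map_smul, LinearMap.zero_apply, map_zero]
    obtain ⟨r, hr⟩ := Ideal.Quotient.mk_surjective (e m)
    rw [← hr]
    change Ideal.Quotient.mk I (q * r) = 0
    rw [Ideal.Quotient.eq_zero_iff_mem, hq']
    exact Ideal.mul_mem_right _ _ (Ideal.mem_span_singleton_self q)
  have hint : IsIntegral K (mX (K := K) M) := ⟨q, hqm, haev⟩
  have hmin : minpoly K (mX (K := K) M) = q :=
    (minpoly.eq_of_irreducible_of_monic hqi haev hqm).symm
  have hch : (mX (K := K) M).charpoly = q := by
    apply Polynomial.eq_of_monic_of_dvd_of_natDegree_le hqm (LinearMap.charpoly_monic _)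
    · rw [← hmin]
      exact LinearMap.minpoly_dvd_charpoly _
    · rw [LinearMap.charpoly_natDegree, hfin]
  rw [hch]
  exact ⟨hqi, ⟨hq' ▸ e⟩⟩

/-- Homomorphisms between simple modules. -/
theorem finrank_hom_simple [FiniteDimensional K M] [FiniteDimensional K N] [IsSimpleModule K[X] M]
    [IsSimpleModule K[X] N] :
    Module.finrank K (M →ₗ[K[X]] N) =
      if (mX (K := K) M).charpoly = (mX (K := K) N).charpoly then (mX (K := K) M).charpoly.natDegree else 0 := by
  split_ifs with h
  · obtain ⟨hi, ⟨e⟩⟩ := simple_equiv (K := K) (M := M)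
    obtain ⟨-, ⟨f⟩⟩ := simple_equiv (K := K) (M := N)
    rw [← h] at f
    set q := (mX (K := K) M).charpoly
    let ev : (M →ₗ[K[X]] N) →ₗ[K] N :=
      { toFun := fun g => g (e.symm 1)
        map_add' := fun a b => rfl
        map_smul' := fun a b => rfl }
    have hev : Function.Bijective ev := by
      constructor
      · intro a b hab
        have hab' : a (e.symm 1) = b (e.symm 1) := hab
        ext m
        obtain ⟨r, hr⟩ := Ideal.Quotient.mk_surjective (e m)
        have : m = r • e.symm 1 := by
          apply e.injective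
          rw [map_smul, LinearEquiv.apply_symm_apply, ← hr]
          change Ideal.Quotient.mk _ r = Ideal.Quotient.mk _ (r * 1)
          rw [mul_one]
        rw [this, map_smul, map_smul, hab']
      · intro n
        obtain ⟨r, hr⟩ := Ideal.Quotient.mk_surjective (f n)
        refine ⟨(r • (f.symm.toLinearMap ∘ₗ e.toLinearMap)), ?_⟩
        change r • (f.symm (e (e.symm 1))) = n
        apply f.injective
        rw [LinearEquiv.apply_symm_apply, map_smul, LinearEquiv.apply_symm_apply, ← hr]
        change Ideal.Quotient.mk _ (r * 1) = Ideal.Quotient.mk _ r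
        rw [mul_one]
    rw [LinearEquiv.finrank_eq (LinearEquiv.ofBijective ev hev), LinearEquiv.finrank_eq (f.restrictScalars K),
      finrank_quotient_span_eq_natDegree]
  · have : Subsingleton (M →ₗ[K[X]] N) := by
      refine ⟨fun a b => ?_⟩
      have key : ∀ c : M →ₗ[K[X]] N, c = 0 := by
        intro c
        rcases c.bijective_or_eq_zero with hc | hc
        · exact absurd (charpoly_eq_of_equiv (LinearEquiv.ofBijective c hc)) h
        · exact hc
      rw [key a, key b]
    exact Module.finrank_zero_of_subsingleton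

end

theorem exists_decomp {M : Type v} [AddCommGroup M] [Module K M] [Module K[X] M] [IsScalarTower K K[X] M]
    [FiniteDimensional K M] [IsSemisimpleModule K[X] M] [Nontrivial M] :
    ∃ (S N : Submodule K[X] M), IsSimpleModule K[X] S ∧ Nonempty (M ≃ₗ[K[X]] (S × N)) ∧
      Module.finrank K N < Module.finrank K M := by
  obtain ⟨S, hS⟩ := IsSemisimpleModule.exists_simple_submodule K[X] M
  obtain ⟨N, hN⟩ := exists_isCompl S
  refine ⟨S, N, hS, ⟨(Submodule.prodEquivOfIsCompl S N hN).symm⟩, ?_⟩
  haveI := finite_submodule (K := K) S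
  haveI := finite_submodule (K := K) N
  have h1 := LinearEquiv.finrank_eq ((Submodule.prodEquivOfIsCompl S N hN).restrictScalars K)
  rw [Module.finrank_prod] at h1
  have : Nontrivial S := IsSimpleModule.nontrivial K[X] S
  have h2 : 0 < Module.finrank K S := Module.finrank_pos
  omega

theorem charpoly_ne_zero' {M : Type v} [AddCommGroup M] [Module K M] [FiniteDimensional K M] (f : Module.End K M) :
    f.charpoly ≠ 0 := (LinearMap.charpoly_monic f).ne_zero

theorem nf_simple {M : Type v} [AddCommGroup M] [Module K M] [Module K[X] M] [IsScalarTower K K[X] M]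
    [FiniteDimensional K M] [IsSimpleModule K[X] M] :
    normalizedFactors (mX (K := K) M).charpoly = {(mX (K := K) M).charpoly} := by
  rw [normalizedFactors_irreducible (simple_equiv (K := K) (M := M)).1,
    (LinearMap.charpoly_monic _).normalize_eq_self]

theorem finite_hom {M : Type v} {N : Type w} [AddCommGroup M] [Module K M] [Module K[X] M] [IsScalarTower K K[X] M]
    [AddCommGroup N] [Module K N] [Module K[X] N] [IsScalarTower K K[X] N] [FiniteDimensional K M] [FiniteDimensional K N] :
    FiniteDimensional K (M →ₗ[K[X]] N) := by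
  let r : (M →ₗ[K[X]] N) →ₗ[K] (M →ₗ[K] N) :=
    { toFun := fun f => f.restrictScalars K
      map_add' := fun _ _ => rfl
      map_smul' := fun _ _ => rfl }
  exact FiniteDimensional.of_injective r (fun a b h => by
    ext m
    exact LinearMap.congr_fun h m)

theorem finrank_hom_prod_right {M : Type v} {N N₁ N₂ : Type w} [AddCommGroup M] [Module K M] [Module K[X] M]
    [IsScalarTower K K[X] M] [FiniteDimensional K M]
    [AddCommGroup N] [Module K N] [Module K[X] N] [IsScalarTower K K[X] N]
    [AddCommGroup N₁] [Module K N₁] [Module K[X] N₁] [IsScalarTower K K[X] N₁] [FiniteDimensional K N₁]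
    [AddCommGroup N₂] [Module K N₂] [Module K[X] N₂] [IsScalarTower K K[X] N₂] [FiniteDimensional K N₂]
    (e : N ≃ₗ[K[X]] (N₁ × N₂)) :
    Module.finrank K (M →ₗ[K[X]] N) = Module.finrank K (M →ₗ[K[X]] N₁) + Module.finrank K (M →ₗ[K[X]] N₂) := by
  have h : ∀ (a : K) (x : N), e (a • x) = a • e x := fun a x => (e.restrictScalars K).map_smul a x
  let E : (M →ₗ[K[X]] N) ≃ₗ[K] ((M →ₗ[K[X]] N₁) × (M →ₗ[K[X]] N₂)) :=
    { toFun := fun f => (LinearMap.fst _ _ _ ∘ₗ e.toLinearMap ∘ₗ f, LinearMap.snd _ _ _ ∘ₗ e.toLinearMap ∘ₗ f)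
      invFun := fun g => e.symm.toLinearMap ∘ₗ (g.1.prod g.2)
      map_add' := fun a b => by ext <;> simp
      map_smul' := fun a b => by ext <;> simp [h]
      left_inv := fun f => by
        ext m
        apply e.injective
        simp
      right_inv := fun g => by
        ext m <;> simp }
  haveI := finite_hom (K := K) (M := M) (N := N₁)
  haveI := finite_hom (K := K) (M := M) (N := N₂)
  rw [LinearEquiv.finrank_eq E, Module.finrank_prod]

theorem finrank_hom_prod_left {M M₁ M₂ : Type v} {N : Type w} [AddCommGroup M] [Module K M] [Module K[X] M]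
    [IsScalarTower K K[X] M]
    [AddCommGroup N] [Module K N] [Module K[X] N] [IsScalarTower K K[X] N] [FiniteDimensional K N]
    [AddCommGroup M₁] [Module K M₁] [Module K[X] M₁] [IsScalarTower K K[X] M₁] [FiniteDimensional K M₁]
    [AddCommGroup M₂] [Module K M₂] [Module K[X] M₂] [IsScalarTower K K[X] M₂] [FiniteDimensional K M₂]
    (e : M ≃ₗ[K[X]] (M₁ × M₂)) :
    Module.finrank K (M →ₗ[K[X]] N) = Module.finrank K (M₁ →ₗ[K[X]] N) + Module.finrank K (M₂ →ₗ[K[X]] N) := by
  let E : (M →ₗ[K[X]] N) ≃ₗ[K] ((M₁ →ₗ[K[X]] N) × (M₂ →ₗ[K[X]] N)) :=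
    { toFun := fun f => (f ∘ₗ e.symm.toLinearMap ∘ₗ LinearMap.inl _ _ _, f ∘ₗ e.symm.toLinearMap ∘ₗ LinearMap.inr _ _ _)
      invFun := fun g => (g.1.coprod g.2) ∘ₗ e.toLinearMap
      map_add' := fun a b => by ext <;> simp
      map_smul' := fun a b => by ext <;> simp
      left_inv := fun f => by
        ext m
        simp only [LinearMap.coe_comp, LinearEquiv.coe_coe, Function.comp_apply, LinearMap.coprod_apply,
          LinearMap.coe_inl, LinearMap.coe_inr]
        rw [← map_add, ← map_add, Prod.mk_add_mk, add_zero, zero_add, Prod.mk.eta, LinearEquiv.symm_apply_apply]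
      right_inv := fun g => by
        ext m <;> simp }
  haveI := finite_hom (K := K) (M := M₁) (N := N)
  haveI := finite_hom (K := K) (M := M₂) (N := N)
  rw [LinearEquiv.finrank_eq E, Module.finrank_prod]

theorem finrank_hom_simple_left {M : Type v} [AddCommGroup M] [Module K M] [Module K[X] M] [IsScalarTower K K[X] M]
    [FiniteDimensional K M] [IsSimpleModule K[X] M] (n : ℕ) :
    ∀ (N : Type w) [AddCommGroup N] [Module K N] [Module K[X] N] [IsScalarTower K K[X] N] [FiniteDimensional K N]
      [IsSemisimpleModule K[X] N], Module.finrank K N = n →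
      Module.finrank K (M →ₗ[K[X]] N) =
        (normalizedFactors (mX (K := K) N).charpoly).count (mX (K := K) M).charpoly * (mX (K := K) M).charpoly.natDegree := by
  induction n using Nat.strong_induction_on with
  | _ n ih =>
  intro N _ _ _ _ _ _ hn
  rcases subsingleton_or_nontrivial N with hN | hN
  · haveI : Subsingleton (M →ₗ[K[X]] N) := ⟨fun a b => by ext m; exact Subsingleton.elim _ _⟩
    have : (mX (K := K) N).charpoly = 1 := by
      have h0 : (mX (K := K) N).charpoly.natDegree = 0 := by
        rw [LinearMap.charpoly_natDegree, Module.finrank_zero_of_subsingleton]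
      exact (Polynomial.Monic.natDegree_eq_zero (LinearMap.charpoly_monic _)).mp h0
    rw [Module.finrank_zero_of_subsingleton, this, normalizedFactors_one]
    simp
  · obtain ⟨S, N', hS, ⟨e⟩, hlt⟩ := exists_decomp (K := K) (M := N)
    haveI := finite_submodule (K := K) S
    haveI := finite_submodule (K := K) N'
    haveI : IsSemisimpleModule K[X] N' := inferInstance
    have h1 : Module.finrank K (M →ₗ[K[X]] N) =
        Module.finrank K (M →ₗ[K[X]] S) + Module.finrank K (M →ₗ[K[X]] N') := finrank_hom_prod_right e
    rw [h1, ih _ (by omega) N' rfl, finrank_hom_simple, charpoly_eq_of_equiv (K := K) e, charpoly_prod,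
      normalizedFactors_mul (charpoly_ne_zero' _) (charpoly_ne_zero' _), nf_simple (K := K) (M := S), Multiset.count_add,
      Multiset.count_singleton, add_mul]
    congr 1
    split_ifs <;> simp

theorem finrank_hom (n : ℕ) {N : Type w} [AddCommGroup N] [Module K N] [Module K[X] N] [IsScalarTower K K[X] N]
    [FiniteDimensional K N] [IsSemisimpleModule K[X] N] :
    ∀ (M : Type v) [AddCommGroup M] [Module K M] [Module K[X] M] [IsScalarTower K K[X] M] [FiniteDimensional K M]
      [IsSemisimpleModule K[X] M], Module.finrank K M = n →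
      Module.finrank K (M →ₗ[K[X]] N) =
        ((normalizedFactors (mX (K := K) M).charpoly).map (fun P =>
          (normalizedFactors (mX (K := K) N).charpoly).count P * P.natDegree)).sum := by
  induction n using Nat.strong_induction_on with
  | _ n ih =>
  intro M _ _ _ _ _ _ hn
  rcases subsingleton_or_nontrivial M with hN | hN
  · haveI : Subsingleton (M →ₗ[K[X]] N) := ⟨fun a b => by
      ext m; rw [Subsingleton.elim m 0, map_zero, map_zero]⟩
    have : (mX (K := K) M).charpoly = 1 := by
      have h0 : (mX (K := K) M).charpoly.natDegree = 0 := by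
        rw [LinearMap.charpoly_natDegree, Module.finrank_zero_of_subsingleton]
      exact (Polynomial.Monic.natDegree_eq_zero (LinearMap.charpoly_monic _)).mp h0
    rw [Module.finrank_zero_of_subsingleton, this, normalizedFactors_one]
    simp
  · obtain ⟨S, N', hS, ⟨e⟩, hlt⟩ := exists_decomp (K := K) (M := M)
    haveI := finite_submodule (K := K) S
    haveI := finite_submodule (K := K) N'
    have h1 : Module.finrank K (M →ₗ[K[X]] N) =
        Module.finrank K (S →ₗ[K[X]] N) + Module.finrank K (N' →ₗ[K[X]] N) := finrank_hom_prod_left e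
    rw [h1, ih _ (by omega) N' rfl, finrank_hom_simple_left _ N rfl, charpoly_eq_of_equiv (K := K) e, charpoly_prod,
      normalizedFactors_mul (charpoly_ne_zero' _) (charpoly_ne_zero' _), nf_simple (K := K) (M := S), Multiset.map_add,
      Multiset.sum_add, Multiset.map_singleton, Multiset.sum_singleton]

open Module in
theorem finrank_intertwiners {V₁ : Type v} {V₂ : Type w} [AddCommGroup V₁] [Module K V₁] [FiniteDimensional K V₁]
    [AddCommGroup V₂] [Module K V₂] [FiniteDimensional K V₂]
    (π₁ : Module.End K V₁) (π₂ : Module.End K V₂) (h₁ : π₁.IsSemisimple) (h₂ : π₂.IsSemisimple) :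
    Module.finrank K (LinearMap.ker (LinearMap.lcomp K V₂ π₁ - LinearMap.llcomp K V₁ V₂ V₂ π₂ :
        (V₁ →ₗ[K] V₂) →ₗ[K] (V₁ →ₗ[K] V₂))) =
      ∑ P ∈ (normalizedFactors π₁.charpoly).toFinset,
        (normalizedFactors π₁.charpoly).count P * (normalizedFactors π₂.charpoly).count P * P.natDegree := by
  haveI : IsSemisimpleModule K[X] (AEval' π₁) := h₁
  haveI : IsSemisimpleModule K[X] (AEval' π₂) := h₂
  haveI : FiniteDimensional K (AEval' π₁) := Module.Finite.equiv (AEval'.of π₁)
  haveI : FiniteDimensional K (AEval' π₂) := Module.Finite.equiv (AEval'.of π₂)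
  have c₁ : (mX (K := K) (AEval' π₁)).charpoly = π₁.charpoly := by
    rw [← LinearEquiv.charpoly_conj (AEval'.of π₁) π₁]
    congr 1
    refine LinearMap.ext fun m => ?_
    obtain ⟨m, rfl⟩ := (AEval'.of π₁).surjective m
    change (X : K[X]) • (AEval'.of π₁ m) = AEval'.of π₁ (π₁ ((AEval'.of π₁).symm (AEval'.of π₁ m)))
    rw [AEval'.X_smul_of, LinearEquiv.symm_apply_apply]
  have c₂ : (mX (K := K) (AEval' π₂)).charpoly = π₂.charpoly := by
    rw [← LinearEquiv.charpoly_conj (AEval'.of π₂) π₂]
    congr 1
    refine LinearMap.ext fun m => ?_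
    obtain ⟨m, rfl⟩ := (AEval'.of π₂).surjective m
    change (X : K[X]) • (AEval'.of π₂ m) = AEval'.of π₂ (π₂ ((AEval'.of π₂).symm (AEval'.of π₂ m)))
    rw [AEval'.X_smul_of, LinearEquiv.symm_apply_apply]
  have key := finrank_hom (K := K) (N := AEval' π₂) _ (AEval' π₁) rfl
  rw [c₁, c₂] at key
  have hsum : ((normalizedFactors π₁.charpoly).map (fun P =>
          (normalizedFactors π₂.charpoly).count P * P.natDegree)).sum =
      ∑ P ∈ (normalizedFactors π₁.charpoly).toFinset,
        (normalizedFactors π₁.charpoly).count P * (normalizedFactors π₂.charpoly).count P * P.natDegree := by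
    rw [Finset.sum_multiset_map_count]
    simp [mul_assoc]
  rw [← hsum, ← key]
  let E : (LinearMap.ker (LinearMap.lcomp K V₂ π₁ - LinearMap.llcomp K V₁ V₂ V₂ π₂ :
        (V₁ →ₗ[K] V₂) →ₗ[K] (V₁ →ₗ[K] V₂))) ≃ₗ[K] (AEval' π₁ →ₗ[K[X]] AEval' π₂) :=
    { toFun := fun h => LinearMap.ofAEval π₁ ((AEval'.of π₂).toLinearMap ∘ₗ h.1) (fun m => by
        have := LinearMap.congr_fun (LinearMap.mem_ker.mp h.2) m
        have h2 : h.1 (π₁ m) = π₂ (h.1 m) := sub_eq_zero.mp this
        simp only [LinearMap.coe_comp, LinearEquiv.coe_coe, Function.comp_apply]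
        rw [AEval'.X_smul_of]
        exact congrArg _ h2)
      invFun := fun g => ⟨(AEval'.of π₂).symm.toLinearMap ∘ₗ (g.restrictScalars K) ∘ₗ (AEval'.of π₁).toLinearMap, by
        rw [LinearMap.mem_ker]
        ext m
        simp only [LinearMap.sub_apply, LinearMap.lcomp_apply, LinearMap.llcomp_apply, LinearMap.coe_comp,
          LinearEquiv.coe_coe, Function.comp_apply, LinearMap.coe_restrictScalars, LinearMap.zero_apply, sub_eq_zero]
        rw [← AEval'.X_smul_of, map_smul]
        exact AEval'.of_symm_X_smul (φ := π₂) _⟩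
      map_add' := fun a b => by
        ext m
        rfl
      map_smul' := fun a b => by
        ext m
        rfl
      left_inv := fun h => by
        ext m
        rfl
      right_inv := fun g => by
        ext m
        rfl }
  exact LinearEquiv.finrank_eq E

end K522.LinInter
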