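import Groth.Agent.AbVar.K522.Bridge
import Groth.Agent.AbVar.K516.HomFin

/-!
# Base change of homomorphisms: degree, finiteness, surjectivity
-/

set_option autoImplicit false
universe u

open CategoryTheory CategoryTheory.Limits MonoidalCategory CartesianMonoidalCategory AlgebraicGeometry MonObj
open Groth.Agent.Sga7.H761.BaseChg Groth.Agent.Sga7.H761.TransSig
open AbDual K515.Bc K522.Bridge

noncomputable section

namespace K522.BcMor

variable {k : Type u} [Field k] (Ω : Type u) [Field Ω] [Algebra k Ω]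
  {X Y : Over (Spec (CommRingCat.of k))}

theorem isPullback_bcHom (u : X ⟶ Y) : IsPullback (pr Ω X) (bcHom Ω u).left u.left (pr Ω Y) := by
  have h1 : IsPullback (pr Ω Y) (bc Ω Y).hom Y.hom (fKL k Ω) := isPullback_pr Ω Y
  have h2 : IsPullback (pr Ω X) (bc Ω X).hom X.hom (fKL k Ω) := isPullback_pr Ω X
  refine IsPullback.of_bot (v₂₁ := (bc Ω Y).hom) (v₂₂ := Y.hom) (h₃₁ := fKL k Ω) ?_ (bcHom_pr Ω u).symm h1
  have e1 : (bcHom Ω u).left ≫ (bc Ω Y).hom = (bc Ω X).hom := Over.w (bcHom Ω u)
  have e2 : u.left ≫ Y.hom = X.hom := Over.w u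
  rw [e1, e2]
  exact h2

theorem surjective_fKL : Surjective (fKL k Ω) :=
  ⟨fun y => ⟨IsLocalRing.closedPoint Ω, Subsingleton.elim (α := PrimeSpectrum k) _ _⟩⟩

theorem surjective_pr (X : Over (Spec (CommRingCat.of k))) : Surjective (pr Ω X) := by
  haveI := surjective_fKL (k := k) Ω
  infer_instance

theorem surjective_iff (u : X ⟶ Y) : Surjective (bcHom Ω u).left ↔ Surjective u.left := by
  haveI := surjective_pr Ω X
  haveI := surjective_pr Ω Y
  constructor
  · intro h
    have h1 : Surjective ((bcHom Ω u).left ≫ pr Ω Y) := inferInstance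
    rw [bcHom_pr] at h1
    exact Surjective.of_comp (pr Ω X) u.left
  · intro h
    exact MorphismProperty.of_isPullback (P := @Surjective) (isPullback_bcHom Ω u) h

section group

variable [GrpObj X] [IsCommMonObj X] [IsProper X.hom] [GeometricallyIntegral X.hom]
  [GrpObj Y] [IsCommMonObj Y] [IsProper Y.hom] [GeometricallyIntegral Y.hom]

theorem isFinite_iff (g : ℕ) (hX : topologicalKrullDim X.left = g) (hY : topologicalKrullDim Y.left = g)
    (u : X ⟶ Y) [IsMonHom u] : IsFinite (bcHom Ω u).left ↔ IsFinite u.left := by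
  rw [K516.HomFin.isFinite_iff_surjective g hX hY u,
    K516.HomFin.isFinite_iff_surjective g ((dim_bc Ω X).trans hX) ((dim_bc Ω Y).trans hY) (bcHom Ω u),
    surjective_iff]

theorem finrank_eq (g : ℕ) (hX : topologicalKrullDim X.left = g) (hY : topologicalKrullDim Y.left = g)
    (u : X ⟶ Y) [IsMonHom u] [IsFinite u.left] (b : (bc Ω Y).left) :
    (bcHom Ω u).left.finrank b = u.left.finrank (pr Ω Y b) := by
  haveI := K516.HomFin.flat_of_isFinite g hX hY u
  exact Scheme.Hom.finrank_of_isPullback _ _ _ _ (isPullback_bcHom Ω u) b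

end group

end K522.BcMor
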