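import Groth.Agent.Sga7.H758.FieldHom
import Groth.Agent.Desc.LQF
import Groth.Agent.Etcore.FinEtPts
import Mathlib.AlgebraicGeometry.Geometrically.Integral
import Groth.Prelude.Def_SGA7a

/-!
# Unramified endomorphisms of proper group schemes

* `finite_etale`: a formally unramified endomorphism of a proper geometrically integral group scheme over a field is
  finite, surjective and étale.
* `card_fibre`: the number of geometric points of a fibre is the degree.
-/

set_option autoImplicit false
universe u

namespace K522.EtEnd

open CategoryTheory CategoryTheory.Limits AlgebraicGeometry MonoidalCategory CartesianMonoidalCategory MonObj GrpObj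

theorem finite_etale (k : Type u) [Field k] (X : Over (Spec (CommRingCat.of k))) [GrpObj X] [IsProper X.hom]
    [GeometricallyIntegral X.hom] (f : X ⟶ X) [IsMonHom f] [FormallyUnramified f.left] :
    IsFinite f.left ∧ Surjective f.left ∧ Etale f.left := by
  have hI : IsIntegral X.left := GeometricallyIntegral.isIntegral_of_subsingleton X.hom
  have hN : IsLocallyNoetherian X.left :=
    LocallyOfFiniteType.isLocallyNoetherian (Y := Spec (CommRingCat.of k)) X.hom
  have h0 : IsProper (f.left ≫ X.hom) := by rw [Over.w]; infer_instance
  have h1 : IsProper f.left := IsProper.of_comp f.left X.hom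
  have h2 : LocallyQuasiFinite f.left := Groth.Agent.Desc.LQF.of_unramified f.left
  have h3 : IsFinite f.left := IsFinite.of_isProper_of_locallyQuasiFinite f.left
  have h4 : Surjective f.left := Groth.Agent.Sga7.H758.FieldHom.surjective_of_isFinite k X.hom f.left
  have h5 : Flat f.left := Groth.Agent.Sga7.H758.FieldHom.flat_of_surjective k f
  have h6 : LocallyOfFinitePresentation f.left := inferInstance
  exact ⟨h3, h4, Etale.of_formallyUnramified_of_flat _⟩

/-- The number of geometric points in a fibre of a finite étale morphism is the degree. -/
theorem card_fibre {k Ω : Type u} [Field k] [Field Ω] [Algebra k Ω] [IsSepClosed Ω]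
    {X Y : Over (Spec (CommRingCat.of k))} (f : X ⟶ Y) [IsFinite f.left] [Etale f.left]
    (e : SGA7.pt (K := k) Ω ⟶ Y) (z : Spec (CommRingCat.of Ω)) :
    Nat.card {x : SGA7.pt (K := k) Ω ⟶ X // x ≫ f = e} = f.left.finrank (e.left z) := by
  have hfin : IsFinite (pullback.snd f.left e.left) := inferInstance
  have het : Etale (pullback.snd f.left e.left) := inferInstance
  rw [← Scheme.Hom.finrank_pullback_snd f.left e.left,
    ← Groth.Agent.Etcore.FinEtPts.card_sections (k := Ω) (pullback.snd f.left e.left)]
  refine Nat.card_congr
    { toFun := fun x => ⟨pullback.lift x.1.left (𝟙 _) ?_, pullback.lift_snd _ _ _⟩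
      invFun := fun s => ⟨Over.homMk (s.1 ≫ pullback.fst f.left e.left) ?_, ?_⟩
      left_inv := fun x => ?_
      right_inv := fun s => ?_ }
  · rw [Category.id_comp]
    change (x.1 ≫ f).left = _
    rw [x.2]
  · have h6 : f.left ≫ Y.hom = X.hom := Over.w f
    have h7 : e.left ≫ Y.hom = (SGA7.pt (K := k) Ω).hom := Over.w e
    rw [Category.assoc, ← h6, pullback.condition_assoc, h7, reassoc_of% s.2]
  · apply Over.OverMorphism.ext
    change (s.1 ≫ pullback.fst f.left e.left) ≫ f.left = e.left
    rw [Category.assoc, pullback.condition, ← Category.assoc, s.2, Category.id_comp]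
  · apply Subtype.ext
    apply Over.OverMorphism.ext
    exact pullback.lift_fst _ _ _
  · apply Subtype.ext
    apply pullback.hom_ext
    · exact pullback.lift_fst _ _ _
    · exact (pullback.lift_snd _ _ _).trans s.2.symm

end K522.EtEnd
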