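import Groth.Agent.AbVar.K522.FFThm
import Groth.Agent.AbVar.K522.ComRank

/-!
# Commutativity of `End(X)` and dimension `2g`, `(2g)²` (`S16844`, `S16845`)
-/

set_option autoImplicit false
universe u

open TensorProduct

namespace K522.FFThm2

open CategoryTheory CategoryTheory.Limits AlgebraicGeometry MonoidalCategory CartesianMonoidalCategory MonObj GrpObj
open K520.Frob AbDual TateAbs VRep HomRank RankThm Polynomial

section algebra

/-- The characteristic polynomial of a scalar. -/
theorem charpoly_scalar {R M : Type*} [CommRing R] [AddCommGroup M] [Module R M] [Module.Free R M]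
    [Module.Finite R M] (c : R) [Nontrivial R] :
    (algebraMap R (Module.End R M) c).charpoly = (X - C c) ^ Module.finrank R M := by
  classical
  let b := Module.Free.chooseBasis R M
  rw [← LinearMap.charpoly_toMatrix _ b]
  have h1 : LinearMap.toMatrix b b (algebraMap R (Module.End R M) c) = Matrix.diagonal fun _ => c := by
    rw [Algebra.algebraMap_eq_smul_one, map_smul, LinearMap.toMatrix_one, Matrix.smul_one_eq_diagonal]
  rw [h1, Matrix.charpoly_diagonal, Finset.prod_const, Finset.card_univ, Module.finrank_eq_card_chooseBasisIndex]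

/-- A semisimple endomorphism with characteristic polynomial `(X - c)^n` is a scalar. -/
theorem eq_scalar {K V : Type*} [Field K] [AddCommGroup V] [Module K V] [FiniteDimensional K V] (π : Module.End K V)
    (hπ : π.IsSemisimple) (c : K) (n : ℕ) (h : π.charpoly = (X - C c) ^ n) : π = algebraMap K (Module.End K V) c := by
  have h1 : IsNilpotent (π - algebraMap K (Module.End K V) c) := by
    refine ⟨n, ?_⟩
    have h2 := LinearMap.aeval_self_charpoly π
    rw [h, map_pow, map_sub, aeval_X, aeval_C] at h2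
    exact h2
  have h3 : (π - algebraMap K (Module.End K V) c).IsSemisimple :=
    Module.End.isSemisimple_sub_algebraMap_iff.mpr hπ
  exact sub_eq_zero.mp (Module.End.eq_zero_of_isNilpotent_isSemisimple h1 h3)

/-- An integral polynomial which is `(X - c)^n` over a field of characteristic zero, `n > 0`, has `c` integral. -/
theorem exists_int_root {K : Type*} [Field K] [CharZero K] (P : ℤ[X]) (n : ℕ) (hn : 0 < n) (c : K)
    (h : P.map (Int.castRingHom K) = (X - C c) ^ n) : ∃ a : ℤ, P = (X - C a) ^ n := by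
  have hm : P.Monic := by
    apply Polynomial.monic_of_injective (RingHom.injective_int (Int.castRingHom K))
    rw [h]
    exact (monic_X_sub_C c).pow n
  have h1 : (P.map (Int.castRingHom K)).nextCoeff = -((n : K) * c) := by
    rw [h, (monic_X_sub_C c).nextCoeff_pow, nextCoeff_X_sub_C, nsmul_eq_mul, mul_neg]
  rw [nextCoeff_map (RingHom.injective_int (Int.castRingHom K))] at h1
  have hn' : (n : K) ≠ 0 := by exact_mod_cast hn.ne'
  let r : ℚ := -(P.nextCoeff : ℚ) / n
  have hr : c = algebraMap ℚ K r := by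
    have h2 : algebraMap ℚ K r = -((P.nextCoeff : K)) / n := by simp [r]
    rw [h2]
    have h3 : ((P.nextCoeff : ℤ) : K) = -((n : K) * c) := h1
    rw [h3]
    field_simp
  have h4 : P.map (Int.castRingHom ℚ) = (X - C r) ^ n := by
    apply Polynomial.map_injective _ (algebraMap ℚ K).injective
    rw [Polynomial.map_map, Polynomial.map_pow, Polynomial.map_sub, map_X, map_C, ← hr, ← h]
    congr 1
    exact RingHom.ext_int _ _
  have h5 : aeval r P = 0 := by
    rw [← eval_map_algebraMap, algebraMap_int_eq, h4, eval_pow, eval_sub, eval_X, eval_C, sub_self, zero_pow hn.ne']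
  obtain ⟨a, ha⟩ := isInteger_of_is_root_of_monic hm h5
  refine ⟨a, ?_⟩
  apply Polynomial.map_injective _ (RingHom.injective_int (Int.castRingHom ℚ))
  rw [h4, Polynomial.map_pow, Polynomial.map_sub, map_X, map_C, ← ha]
  rfl

end algebra

variable {k Ω : Type u} [Field k] [Field Ω] [Algebra k Ω] {l : ℕ} [Fact l.Prime]
  {X : Over (Spec (CommRingCat.of k))} [GrpObj X] [IsCommMonObj X] [IsProper X.hom] [GeometricallyIntegral X.hom]

/-- `V_l` is faithful on endomorphisms. -/
theorem vRep_injective [IsAlgClosed Ω] (hl : (l : k) ≠ 0) : Function.Injective (vRep l (SGA7.pt (K := k) Ω) X) := by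
  haveI := FFThm.finite_tate (l := l) Ω hl X
  haveI := FFThm.free_tate (l := l) Ω hl X
  haveI := isTorsionFree_tateMod (l := l) X (SGA7.pt (K := k) Ω)
  intro a b h
  exact Bridge.injective_tateMap (X := X) (Y := X) Ω hl (baseChange_injective (K := ℚ_[l]) h)

theorem finrank_end0 : Module.finrank ℚ (EndAV.End0 X) = Module.finrank ℤ (EndAV.Hom X X) := by
  haveI : Module.Free ℤ (EndAV.End X) := Bridge.free_hom X X
  change Module.finrank ℚ (ℚ ⊗[ℤ] EndAV.End X) = _
  rw [Module.finrank_baseChange]
  rfl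

variable [Finite k] [IsAlgClosure k Ω] (hl : (l : k) ≠ 0) (πX : X ⟶ X) [IsMonHom πX]
  (hπX : IsFrob (Nat.card k) πX.left) (hT : TateThm Ω l X X)
  [Module.Free ℤ_[l] (TateMod X l (SGA7.pt (K := k) Ω))] [Module.Finite ℤ_[l] (TateMod X l (SGA7.pt (K := k) Ω))]

include hl hπX hT in
theorem finrank_end0_eq : Module.finrank ℚ (EndAV.End0 X) =
    Module.finrank ℚ_[l] (ComRank.Com (vmap (l := l) (T := SGA7.pt (K := k) Ω) πX)) := by
  rw [finrank_end0]
  exact FFThm.finrank_hom_ker hl πX hπX πX hπX hT

include hl hπX hT in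
/-- Commutativity of `End X` and of the commutant of Frobenius. -/
theorem comm_iff : (∀ a b : EndAV.End X, a * b = b * a) ↔
    (∀ a ∈ ComRank.Com (vmap (l := l) (T := SGA7.pt (K := k) Ω) πX),
      ∀ b ∈ ComRank.Com (vmap (l := l) (T := SGA7.pt (K := k) Ω) πX), a * b = b * a) := by
  haveI : IsAlgClosed Ω := IsAlgClosure.isAlgClosed k
  haveI : Algebra.IsAlgebraic k Ω := IsAlgClosure.isAlgebraic
  have hspan : Submodule.span ℚ_[l] (Set.range (VHom Ω l X X)) =
      ComRank.Com (vmap (l := l) (T := SGA7.pt (K := k) Ω) πX) :=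
    span_eq_ker (finite_tors_pow hl) (finite_tors_pow hl) πX hπX πX hπX hT
  constructor
  · intro h a ha b hb
    rw [← hspan] at ha hb
    induction ha using Submodule.span_induction with
    | mem x hx =>
      obtain ⟨f, rfl⟩ := hx
      induction hb using Submodule.span_induction with
      | mem y hy =>
        obtain ⟨g, rfl⟩ := hy
        have h1 := congrArg (vRep l (SGA7.pt (K := k) Ω) X) (h f g)
        rw [map_mul, map_mul] at h1
        exact h1
      | zero => rw [mul_zero, zero_mul]
      | add y z _ _ hy hz => rw [mul_add, add_mul, hy, hz]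
      | smul c y _ hy => rw [mul_smul_comm, smul_mul_assoc, hy]
    | zero => rw [mul_zero, zero_mul]
    | add x z _ _ hx hz => rw [mul_add, add_mul, hx, hz]
    | smul c x _ hx => rw [mul_smul_comm, smul_mul_assoc, hx]
  · intro h a b
    apply vRep_injective (Ω := Ω) (l := l) hl
    rw [map_mul, map_mul]
    refine h _ ?_ _ ?_
    · rw [← hspan]
      exact Submodule.subset_span ⟨a, rfl⟩
    · rw [← hspan]
      exact Submodule.subset_span ⟨b, rfl⟩

theorem squarefree_iff (P : ℤ[X]) (hP : (tateMapₗ (l := l) (T := SGA7.pt (K := k) Ω) πX).charpoly =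
    P.map (Int.castRingHom ℤ_[l])) :
    Squarefree (vmap (l := l) (T := SGA7.pt (K := k) Ω) πX).charpoly ↔ Squarefree (P.map (Int.castRingHom ℚ)) := by
  have h1 : (vmap (l := l) (T := SGA7.pt (K := k) Ω) πX).charpoly =
      (P.map (Int.castRingHom ℚ)).map (algebraMap ℚ ℚ_[l]) := charpoly_baseChange_eq _ P hP
  rw [h1, ← PerfectField.separable_iff_squarefree, ← PerfectField.separable_iff_squarefree, Polynomial.separable_map]

include hl hπX hT in
/-- `S16844`. -/
theorem main_16844 (g : ℕ) (hg : topologicalKrullDim X.left = g)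
    (P : ℤ[X]) (hP : (tateMapₗ (l := l) (T := SGA7.pt (K := k) Ω) πX).charpoly = P.map (Int.castRingHom ℤ_[l])) :
    ((∀ a b : EndAV.End X, a * b = b * a) ↔ Squarefree (P.map (Int.castRingHom ℚ))) ∧
      (Squarefree (P.map (Int.castRingHom ℚ)) ↔ Module.finrank ℚ (EndAV.End0 X) = 2 * g) := by
  classical
  haveI : IsAlgClosed Ω := IsAlgClosure.isAlgClosed k
  have hs : Module.End.IsSemisimple (vmap (l := l) (T := SGA7.pt (K := k) Ω) πX) :=
    FFThm.isSemisimple _ Nat.card_pos.ne' πX hπX _
  have hd : (vmap (l := l) (T := SGA7.pt (K := k) Ω) πX).charpoly.natDegree = 2 * g := by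
    rw [LinearMap.charpoly_natDegree, Module.finrank_baseChange, K523.RankTate.finrank_tate Ω X l hl g hg]
  constructor
  · rw [comm_iff hl πX hπX hT, ComRank.comm_iff _ hs, squarefree_iff πX P hP]
  · rw [← squarefree_iff (Ω := Ω) (l := l) πX P hP, finrank_end0_eq hl πX hπX hT, ComRank.finrank_Com _ hs, ← hd,
      ComRank.sum_sq_eq_iff _ (LinearMap.charpoly_monic _)]

include hl in
/-- `V_l(π) = n` iff `π = n`. -/
theorem eq_intCast_iff [IsAlgClosed Ω] (n : ℤ) : EndAV.End.of πX = (n : EndAV.End X) ↔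
    vmap (l := l) (T := SGA7.pt (K := k) Ω) πX =
      algebraMap ℚ_[l] (Module.End ℚ_[l] (Vl l (SGA7.pt (K := k) Ω) X)) (n : ℚ_[l]) := by
  have h1 : vRep l (SGA7.pt (K := k) Ω) X (n : EndAV.End X) =
      algebraMap ℚ_[l] (Module.End ℚ_[l] (Vl l (SGA7.pt (K := k) Ω) X)) (n : ℚ_[l]) :=
    (map_intCast (vRep l (SGA7.pt (K := k) Ω) X) n).trans
      (map_intCast (algebraMap ℚ_[l] (Module.End ℚ_[l] (Vl l (SGA7.pt (K := k) Ω) X))) n).symm
  have h0 : vRep l (SGA7.pt (K := k) Ω) X (EndAV.End.of πX) = vmap (l := l) (T := SGA7.pt (K := k) Ω) πX := rfl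
  constructor
  · intro h
    rw [← h0, h, h1]
  · intro h
    apply vRep_injective (Ω := Ω) (l := l) hl
    rw [h0, h1, h]

include hl hπX hT in
/-- `S16845`. -/
theorem main_16845 (g : ℕ) (hg : topologicalKrullDim X.left = g)
    (P : ℤ[X]) (hP : (tateMapₗ (l := l) (T := SGA7.pt (K := k) Ω) πX).charpoly = P.map (Int.castRingHom ℤ_[l])) :
    (Module.finrank ℚ (EndAV.End0 X) = (2 * g) ^ 2 ↔ ∃ n : ℤ, EndAV.End.of πX = (n : EndAV.End X)) ∧
      ((∃ n : ℤ, EndAV.End.of πX = (n : EndAV.End X)) ↔
        ∃ a : ℤ, P = (Polynomial.X - Polynomial.C a) ^ (2 * g)) := by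
  haveI : IsAlgClosed Ω := IsAlgClosure.isAlgClosed k
  have hs : Module.End.IsSemisimple (vmap (l := l) (T := SGA7.pt (K := k) Ω) πX) :=
    FFThm.isSemisimple _ Nat.card_pos.ne' πX hπX _
  have hfin : Module.finrank ℚ_[l] (Vl l (SGA7.pt (K := k) Ω) X) = 2 * g := by
    rw [Module.finrank_baseChange, K523.RankTate.finrank_tate Ω X l hl g hg]
  have hc : (vmap (l := l) (T := SGA7.pt (K := k) Ω) πX).charpoly = P.map (Int.castRingHom ℚ_[l]) := by
    change ((tateMapₗ (l := l) (T := SGA7.pt (K := k) Ω) πX).baseChange ℚ_[l]).charpoly = _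
    rw [LinearMap.charpoly_baseChange, hP, Polynomial.map_map]
    exact congrArg (fun i => P.map i) (RingHom.ext_int _ _)
  have hPm : P.Monic := by
    apply Polynomial.monic_of_injective (RingHom.injective_int (Int.castRingHom ℚ_[l]))
    rw [← hc]
    exact LinearMap.charpoly_monic _
  have hPd : P.natDegree = 2 * g := by
    rw [← hfin, ← LinearMap.charpoly_natDegree (vmap (l := l) (T := SGA7.pt (K := k) Ω) πX), hc, hPm.natDegree_map]
  have h2 : (∃ n : ℤ, EndAV.End.of πX = (n : EndAV.End X)) ↔ ∃ a : ℤ, P = (Polynomial.X - C a) ^ (2 * g) := by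
    refine exists_congr fun n => ?_
    rw [eq_intCast_iff (Ω := Ω) (l := l) hl]
    constructor
    · intro h
      apply Polynomial.map_injective _ (RingHom.injective_int (Int.castRingHom ℚ_[l]))
      rw [← hc, h, charpoly_scalar, hfin, Polynomial.map_pow, Polynomial.map_sub, map_X, map_C]
      rfl
    · intro h
      apply eq_scalar _ hs _ (2 * g)
      rw [hc, h, Polynomial.map_pow, Polynomial.map_sub, map_X, map_C]
      rfl
  refine ⟨?_, h2⟩
  rw [finrank_end0_eq hl πX hπX hT]
  constructor
  · intro h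
    obtain ⟨c, hcc⟩ := ComRank.exists_scalar (vmap (l := l) (T := SGA7.pt (K := k) Ω) πX) (by rw [h, hfin])
    rw [h2]
    rcases Nat.eq_zero_or_pos g with hg0 | hg0
    · refine ⟨0, ?_⟩
      rw [hg0, mul_zero] at hPd
      rw [hg0, mul_zero, pow_zero]
      exact hPm.natDegree_eq_zero.mp hPd
    · refine exists_int_root (K := ℚ_[l]) P (2 * g) (by omega) c ?_
      rw [← hc, hcc, charpoly_scalar, hfin]
  · rintro ⟨n, hn⟩
    rw [eq_intCast_iff (Ω := Ω) (l := l) hl] at hn
    have h3 : ComRank.Com (vmap (l := l) (T := SGA7.pt (K := k) Ω) πX) = ⊤ := by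
      rw [eq_top_iff]
      intro φ _
      rw [ComRank.mem_Com, hn]
      exact (Algebra.commutes _ _).symm
    rw [h3, finrank_top, Module.finrank_linearMap, hfin, sq]

end K522.FFThm2
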