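import Groth.Agent.AbVar.K522.DegDet
import Groth.Agent.AbVar.K520.Frob

/-!
# The constant term of the characteristic polynomial of Frobenius is positive
-/

set_option autoImplicit false
universe u

open CategoryTheory CategoryTheory.Limits MonoidalCategory CartesianMonoidalCategory AlgebraicGeometry MonObj

namespace K522.FrobDeg

open Polynomial AbDual K520.Frob

variable {k : Type u} [Field k] {X : Over (Spec (CommRingCat.of k))} [GrpObj X] [IsCommMonObj X] [IsProper X.hom]
  [GeometricallyIntegral X.hom]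

theorem surjective_of_isFrob {q : ℕ} {S : Scheme.{u}} {π : S ⟶ S} (hπ : IsFrob q π) : Surjective π :=
  ⟨fun y => ⟨y, by
    change π.base y = y
    rw [hπ.base]
    rfl⟩⟩

theorem isFinite_of_isFrob {q : ℕ} (π : X ⟶ X) [IsMonHom π] (hπ : IsFrob q π.left) : IsFinite π.left := by
  obtain ⟨g, hg⟩ := K516.HomFin.exists_dim X
  exact (K516.HomFin.isFinite_iff_surjective g hg hg π).mpr (surjective_of_isFrob hπ)

variable (Ω : Type u) [Field Ω] [Algebra k Ω] [IsAlgClosed Ω] {l : ℕ} [Fact l.Prime]

/-- The constant term of the characteristic polynomial of a surjective endomorphism is positive. -/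
theorem coeff_zero_pos (hl : (l : k) ≠ 0) (f : X ⟶ X) [IsMonHom f] (hf : Surjective f.left)
    [Module.Free ℤ_[l] (TateMod X l (SGA7.pt (K := k) Ω))] [Module.Finite ℤ_[l] (TateMod X l (SGA7.pt (K := k) Ω))]
    (P : ℤ[X]) (hP : (tateMapₗ (l := l) (T := SGA7.pt (K := k) Ω) f).charpoly = P.map (Int.castRingHom ℤ_[l])) :
    0 < P.coeff 0 := by
  obtain ⟨g, hg⟩ := K516.HomFin.exists_dim X
  obtain ⟨P', h1, h2, h3, h4, h5⟩ := DegDet.exists_charpoly Ω hl g hg f
  have hPP : P' = P := Polynomial.map_injective _ (RingHom.injective_int (Int.castRingHom ℤ_[l])) (h3.symm.trans hP)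
  subst hPP
  haveI hfin : IsFinite f.left := (K516.HomFin.isFinite_iff_surjective g hg hg f).mpr hf
  haveI : Flat f.left := K516.HomFin.flat_of_isFinite g hg hg f
  haveI : IsLocallyNoetherian X.left := LocallyOfFiniteType.isLocallyNoetherian X.hom
  obtain ⟨x⟩ : Nonempty X.left := inferInstance
  have h6 := h4 hfin x
  have h7 : 1 ≤ f.left.finrank x := (Scheme.Hom.one_le_finrank_iff_surjective (f := f.left)).mpr hf x
  rw [coeff_zero_eq_eval_zero, ← h6]
  exact_mod_cast h7

end K522.FrobDeg
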