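import Groth.Agent.AbVar.K522.Unr
import Groth.Agent.AbVar.K522.EtEnd
import Groth.Agent.AbVar.K522.FixPts
import Groth.Prelude.Def_EndRing

/-!
# Points over finite fields and the degree of `1 - φ`

* `card_fixed`: for a Frobenius `φ` of a proper geometrically integral commutative group scheme over a field of
  characteristic `p`, `1 - φ` is finite étale and its degree is the number of geometric fixed points of `φ`.
* `card_points`: the number of `k'`-points is the degree of `1 - φ`, for `φ` the `card k'`-Frobenius.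
-/

set_option autoImplicit false
universe u

namespace K522.FrobPts

open CategoryTheory CategoryTheory.Limits AlgebraicGeometry MonoidalCategory CartesianMonoidalCategory MonObj GrpObj
open K520.Frob

theorem isFrob_dvd (p : ℕ) [Fact p.Prime] {X : Scheme.{u}} [FrobSch.IsCharP X p] (m : ℕ) (π : X ⟶ X)
    (h : IsFrob (p ^ (m + 1)) π) : ∃ c, π = FrobSch.frob X p ≫ c := by
  obtain ⟨c, hc⟩ := exists_isFrob_pow X p m
  refine ⟨c, h.unique ?_⟩
  have := (isFrob_frob X p).comp hc
  rwa [← pow_succ'] at this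

/-- `IsFrob` of powers of an endomorphism. -/
theorem isFrob_pow {k : Type u} [Field k] (X : Over (Spec (CommRingCat.of k))) [GrpObj X] [IsCommMonObj X]
    (π : EndAV.End X) {q : ℕ} (h : IsFrob q π.toHom.left) (n : ℕ) : IsFrob (q ^ n) (EndAV.End.toHom (π ^ n)).left := by
  induction n with
  | zero => rw [pow_zero, pow_zero]; exact isFrob_id _
  | succ n ih =>
    rw [pow_succ', pow_succ]
    exact h.comp ih

variable {k Ω : Type u} [Field k] [Field Ω] [Algebra k Ω]

theorem card_fixed [IsSepClosed Ω] (p : ℕ) [Fact p.Prime] [CharP k p] (X : Over (Spec (CommRingCat.of k)))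
    [GrpObj X] [IsCommMonObj X] [IsProper X.hom] [GeometricallyIntegral X.hom] (φ ψ : EndAV.End X) (hψ : ψ = 1 - φ) (m : ℕ)
    (hφ : IsFrob (p ^ (m + 1)) φ.toHom.left) (z : Spec (CommRingCat.of Ω)) :
    IsFinite ψ.toHom.left ∧ Surjective ψ.toHom.left ∧
      Etale ψ.toHom.left ∧
      Nat.card {x : SGA7.pt (K := k) Ω ⟶ X // x ≫ φ.toHom = x} =
        ψ.toHom.left.finrank ((1 : SGA7.pt (K := k) Ω ⟶ X).left z) := by
  haveI : FrobSch.IsCharP X.left p := FrobSch.IsCharP.of_hom X.hom p
  obtain ⟨c, hc⟩ := isFrob_dvd p m _ hφ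
  have he : ψ.toHom = (𝟙 X : X ⟶ X) * (φ.toHom)⁻¹ := by
    rw [← div_eq_mul_inv, hψ]
    rfl
  have hinv : ((φ.toHom)⁻¹ : X ⟶ X) = φ.toHom ≫ ι := (Hom.inv_def φ.toHom)
  haveI : FormallyUnramified ψ.toHom.left := by
    rw [he]
    refine Unr.formallyUnramified_mul p X _ (c ≫ (ι : X ⟶ X).left) ?_
    rw [hinv, Over.comp_left, hc, Category.assoc]
  obtain ⟨h1, h2, h3⟩ := EtEnd.finite_etale k X (ψ.toHom)
  refine ⟨h1, h2, h3, ?_⟩
  rw [← EtEnd.card_fibre (ψ.toHom) (1 : SGA7.pt (K := k) Ω ⟶ X) z]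
  refine Nat.card_congr (Equiv.subtypeEquivRight fun x => ?_)
  rw [he, comp_mul, Category.comp_id, hinv, ← Category.assoc, ← Hom.inv_def, mul_inv_eq_one, eq_comm]

/-- The number of points over a finite extension is the degree of `1 - φ`. -/
theorem card_points [IsAlgClosed Ω] (p : ℕ) [Fact p.Prime] [CharP k p] (X : Over (Spec (CommRingCat.of k)))
    [GrpObj X] [IsCommMonObj X] [IsProper X.hom] [GeometricallyIntegral X.hom] (φ ψ : EndAV.End X) (hψ : ψ = 1 - φ) (m : ℕ)
    (k' : Type u) [Field k'] [Algebra k k'] [Finite k'] [Algebra.IsAlgebraic k k'] (hk' : Nat.card k' = p ^ (m + 1))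
    (hφ : IsFrob (Nat.card k') φ.toHom.left) (z : Spec (CommRingCat.of Ω)) :
    IsFinite ψ.toHom.left ∧ Surjective ψ.toHom.left ∧
      Etale ψ.toHom.left ∧
      Nat.card (Over.mk (Spec.map (CommRingCat.ofHom (algebraMap k k'))) ⟶ X) =
        ψ.toHom.left.finrank ((1 : SGA7.pt (K := k) Ω ⟶ X).left z) := by
  rw [FixPts.card_points_eq k Ω X k' φ.toHom hφ]
  rw [hk'] at hφ
  exact card_fixed p X φ ψ hψ m hφ z

end K522.FrobPts
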