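import Groth.Agent.AbVar.K522.TateAbs
import Groth.Agent.AbVar.K522.FrobPts
import Groth.Agent.AbVar.K520.TateFin
import Mathlib.FieldTheory.Finite.GaloisField
import Mathlib.AlgebraicGeometry.Morphisms.FiniteType

/-!
# Galois action and Frobenius on geometric points over a finite field

* `exists_pow_eq`: an automorphism of an algebraic extension of a finite field is a power of Frobenius on every finite set.
* `exists_galAct_eq`: hence `galAct τ x = x ≫ π ^ j` for all `x` in a finite set of geometric points, with `j` independent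
  of the point.
* `comm_gal_of_comm_frob`, `comm_frob_of_comm_gal`: a map of Tate modules commutes with Galois iff it commutes with
  Frobenius.
-/

set_option autoImplicit false
universe u

namespace K522.FrobGal

section field

variable {k Ω : Type*} [Field k] [Finite k] [Field Ω] [Algebra k Ω] [Algebra.IsAlgebraic k Ω]

/-- An automorphism is a power of Frobenius on a finite set. -/
theorem exists_pow_eq (τ : Ω ≃ₐ[k] Ω) (S : Set Ω) (hS : S.Finite) :
    ∃ j : ℕ, ∀ x ∈ S, τ x = x ^ (Nat.card k ^ j) := by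
  classical
  let _ := Fintype.ofFinite k
  let K := IntermediateField.adjoin k S
  haveI : Finite S := hS
  haveI : FiniteDimensional k K := IntermediateField.finiteDimensional_adjoin fun x _ =>
    Algebra.IsIntegral.isIntegral x
  haveI : Finite K := Module.finite_of_finite k
  haveI : Normal k K := inferInstance
  obtain ⟨n, hn⟩ := (FiniteField.bijective_frobeniusAlgEquivOfAlgebraic_pow k K).2 (τ.restrictNormal K)
  refine ⟨n, fun x hx => ?_⟩
  have hxK : x ∈ K := IntermediateField.subset_adjoin k S hx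
  have h1 := AlgEquiv.restrictNormal_commutes τ K ⟨x, hxK⟩
  rw [← hn] at h1
  have h2 : (FiniteField.frobeniusAlgEquivOfAlgebraic k K ^ (n : ℕ)) (⟨x, hxK⟩ : K) =
      (⟨x, hxK⟩ : K) ^ (Fintype.card k ^ (n : ℕ)) := by
    rw [AlgEquiv.coe_pow, FiniteField.coe_frobeniusAlgEquivOfAlgebraic_iterate]
  change algebraMap K Ω _ = τ (algebraMap K Ω _) at h1
  change algebraMap K Ω ((FiniteField.frobeniusAlgEquivOfAlgebraic k K ^ (n : ℕ)) (⟨x, hxK⟩ : K)) = _ at h1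
  rw [h2, map_pow] at h1
  rw [Nat.card_eq_fintype_card]
  exact h1.symm

variable (k Ω) in
/-- The Frobenius automorphism. -/
theorem exists_frob : ∃ τ : Ω ≃ₐ[k] Ω, ∀ x, τ x = x ^ Nat.card k := by
  classical
  let _ := Fintype.ofFinite k
  refine ⟨FiniteField.frobeniusAlgEquivOfAlgebraic k Ω, fun x => ?_⟩
  rw [Nat.card_eq_fintype_card]
  rfl

end field

open CategoryTheory CategoryTheory.Limits AlgebraicGeometry MonoidalCategory CartesianMonoidalCategory MonObj GrpObj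
open K520.Frob

variable {k Ω : Type u} [Field k] [Field Ω] [Algebra k Ω]

theorem exists_isFrob_iter {q : ℕ} {X : Scheme.{u}} (π : X ⟶ X) (hπ : IsFrob q π) (j : ℕ) :
    ∃ ρ : X ⟶ X, IsFrob (q ^ j) ρ := by
  induction j with
  | zero => exact ⟨𝟙 X, by rw [pow_zero]; exact isFrob_id X⟩
  | succ j ih =>
    obtain ⟨ρ, hρ⟩ := ih
    exact ⟨ρ ≫ π, by rw [pow_succ]; exact hρ.comp hπ⟩

/-- A point only involves finitely many elements of `Ω`. -/
theorem exists_finset (X : Over (Spec (CommRingCat.of k))) [LocallyOfFiniteType X.hom]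
    (x : SGA7.pt (K := k) Ω ⟶ X) : ∃ S : Set Ω, S.Finite ∧ ∀ (τ τ' : Ω →+* Ω),
      (∀ a : k, τ (algebraMap k Ω a) = algebraMap k Ω a) →
      (∀ a : k, τ' (algebraMap k Ω a) = algebraMap k Ω a) →
      (∀ s ∈ S, τ s = τ' s) → Spec.map (CommRingCat.ofHom τ) ≫ x.left = Spec.map (CommRingCat.ofHom τ') ≫ x.left := by
  classical
  obtain ⟨z⟩ : Nonempty (Spec (CommRingCat.of Ω)) := inferInstance
  obtain ⟨R, f, _, y, hy⟩ := Scheme.exists_Spec_apply_eq (x.left z)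
  have hr : Set.range x.left ⊆ Set.range f := by
    rintro _ ⟨w, rfl⟩
    have : w = z := Subsingleton.elim (α := PrimeSpectrum Ω) _ _
    rw [this]
    exact ⟨y, hy⟩
  obtain ⟨φ, hφ⟩ := Spec.map_surjective (IsOpenImmersion.lift f x.left hr)
  have hφ' : Spec.map φ ≫ f = x.left := by rw [hφ, IsOpenImmersion.lift_fac]
  obtain ⟨ρ, hρ⟩ := Spec.map_surjective (f ≫ X.hom)
  have hft : ρ.hom.FiniteType := by
    rw [← HasRingHomProperty.Spec_iff (P := @LocallyOfFiniteType), hρ]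
    infer_instance
  have hcomp : ρ ≫ φ = CommRingCat.ofHom (algebraMap k Ω) := by
    apply Spec.map_injective
    rw [Spec.map_comp, hρ, ← Category.assoc, hφ']
    exact Over.w x
  letI : Algebra k R := ρ.hom.toAlgebra
  haveI : Algebra.FiniteType k R := hft
  let φ' : R →ₐ[k] Ω := { φ.hom with commutes' := fun a => congrArg (fun ψ => ψ.hom a) hcomp }
  obtain ⟨T, hT⟩ := Algebra.FiniteType.out (R := k) (A := R)
  refine ⟨φ' '' (T : Set R), T.finite_toSet.image _, fun τ τ' h h' hs => ?_⟩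
  let t : Ω →ₐ[k] Ω := { τ with commutes' := h }
  let t' : Ω →ₐ[k] Ω := { τ' with commutes' := h' }
  have h1 : t.comp φ' = t'.comp φ' := by
    refine AlgHom.ext_of_adjoin_eq_top hT ?_
    intro a ha
    exact hs _ ⟨a, ha, rfl⟩
  rw [← hφ', ← Category.assoc, ← Category.assoc, ← Spec.map_comp, ← Spec.map_comp]
  congr 2
  ext a
  exact DFunLike.congr_fun h1 a

/-- The Galois action on a point is given by a power of Frobenius. -/
theorem exists_galAct_eq [Finite k] [Algebra.IsAlgebraic k Ω] (X : Over (Spec (CommRingCat.of k)))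
    [LocallyOfFiniteType X.hom] (x : SGA7.pt (K := k) Ω ⟶ X) : ∃ S : Set Ω, S.Finite ∧
      ∀ (τ : Ω ≃ₐ[k] Ω) (j : ℕ) (ρ : X ⟶ X), IsFrob (Nat.card k ^ j) ρ.left → (∀ s ∈ S, τ s = s ^ (Nat.card k ^ j)) →
        SGA7.galAct τ x = x ≫ ρ := by
  obtain ⟨S, hS, h⟩ := exists_finset X x
  refine ⟨S, hS, fun τ j ρ hρ hs => ?_⟩
  obtain ⟨F, hF⟩ := exists_frob k Ω
  have hFj : ∀ a, (F ^ j : Ω ≃ₐ[k] Ω) a = a ^ (Nat.card k ^ j) := by
    intro a
    rw [AlgEquiv.coe_pow]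
    have : (F : Ω → Ω) = fun a => a ^ Nat.card k := funext hF
    rw [this, pow_iterate]
  have h1 := h ((τ : Ω ≃ₐ[k] Ω) : Ω →+* Ω) ((F ^ j : Ω ≃ₐ[k] Ω) : Ω →+* Ω) (fun a => τ.commutes a)
    (fun a => (F ^ j).commutes a) (fun s hs' => by
      change τ s = (F ^ j) s
      rw [hs s hs', hFj])
  apply Over.OverMorphism.ext
  change Spec.map (CommRingCat.ofHom (τ : Ω →+* Ω)) ≫ x.left = x.left ≫ ρ.left
  rw [h1]
  obtain ⟨π, hπ⟩ := exists_isFrob k (SGA7.pt (K := k) Ω)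
  obtain ⟨σ, hσ⟩ := exists_isFrob_iter π.left hπ j
  have h2 : Spec.map (CommRingCat.ofHom ((F ^ j : Ω ≃ₐ[k] Ω) : Ω →+* Ω)) = σ := by
    have h3 := FixPts.preimage_apply (CommRingCat.of Ω) σ hσ
    rw [← Spec.map_preimage (R := CommRingCat.of Ω) (S := CommRingCat.of Ω) σ]
    congr 1
    ext a
    exact (hFj a).trans (h3 a).symm
  rw [h2]
  exact hσ.comm hρ x.left

/-- A finite set of points: one exponent works for all. -/
theorem exists_pow_galAct [Finite k] [Algebra.IsAlgebraic k Ω] {X Y : Over (Spec (CommRingCat.of k))}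
    [LocallyOfFiniteType X.hom] [LocallyOfFiniteType Y.hom] (A : Set (SGA7.pt (K := k) Ω ⟶ X)) (hA : A.Finite)
    (B : Set (SGA7.pt (K := k) Ω ⟶ Y)) (hB : B.Finite) (τ : Ω ≃ₐ[k] Ω) :
    ∃ j : ℕ, (∀ x ∈ A, ∀ ρ : X ⟶ X, IsFrob (Nat.card k ^ j) ρ.left → SGA7.galAct τ x = x ≫ ρ) ∧
      ∀ y ∈ B, ∀ ρ : Y ⟶ Y, IsFrob (Nat.card k ^ j) ρ.left → SGA7.galAct τ y = y ≫ ρ := by
  choose S hS h using fun x : SGA7.pt (K := k) Ω ⟶ X => exists_galAct_eq X x
  choose S' hS' h' using fun x : SGA7.pt (K := k) Ω ⟶ Y => exists_galAct_eq Y x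
  obtain ⟨j, hj⟩ := exists_pow_eq τ ((⋃ x ∈ A, S x) ∪ ⋃ y ∈ B, S' y)
    ((hA.biUnion fun x _ => hS x).union (hB.biUnion fun y _ => hS' y))
  refine ⟨j, fun x hx ρ hρ => h x τ j ρ hρ fun s hs => hj s (Or.inl ?_), fun y hy ρ hρ =>
    h' y τ j ρ hρ fun s hs => hj s (Or.inr ?_)⟩
  · exact Set.mem_biUnion hx hs
  · exact Set.mem_biUnion hy hs

/-- The Frobenius automorphism acts as Frobenius. -/
theorem galAct_frob [Finite k] [Algebra.IsAlgebraic k Ω] (X : Over (Spec (CommRingCat.of k)))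
    [LocallyOfFiniteType X.hom] (x : SGA7.pt (K := k) Ω ⟶ X) (π : X ⟶ X) (hπ : IsFrob (Nat.card k) π.left)
    (τ : Ω ≃ₐ[k] Ω) (hτ : ∀ a, τ a = a ^ Nat.card k) : SGA7.galAct τ x = x ≫ π := by
  obtain ⟨S, -, h⟩ := exists_galAct_eq X x
  exact h τ 1 π (by rwa [pow_one]) fun s _ => by rw [pow_one, hτ]

open AbDual TateAbs

section tate

variable {l : ℕ} [Fact l.Prime] {X Y : Over (Spec (CommRingCat.of k))} [GrpObj X] [IsCommMonObj X]
  [GrpObj Y] [IsCommMonObj Y]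

/-- The Frobenius automorphism acts on the Tate module as Frobenius. -/
theorem rho_frob [Finite k] [Algebra.IsAlgebraic k Ω] [LocallyOfFiniteType X.hom]
    {ρ : (Ω ≃ₐ[k] Ω) → Module.End ℤ_[l] (TateMod X l (SGA7.pt Ω))} (hρ : IsGal ρ) (π : X ⟶ X) [IsMonHom π]
    (hπ : IsFrob (Nat.card k) π.left) (τ : Ω ≃ₐ[k] Ω) (hτ : ∀ a, τ a = a ^ Nat.card k) :
    ρ τ = tateMapₗ (l := l) (T := SGA7.pt Ω) π := by
  refine LinearMap.ext fun z => TateMod.ext fun m => ?_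
  apply Additive.toMul.injective
  exact (hρ τ z m).trans (galAct_frob X _ π hπ τ hτ)

/-- A map commuting with Galois commutes with Frobenius. -/
theorem comm_frob_of_comm_gal [Finite k] [Algebra.IsAlgebraic k Ω] [LocallyOfFiniteType X.hom]
    [LocallyOfFiniteType Y.hom] {ρX : (Ω ≃ₐ[k] Ω) → Module.End ℤ_[l] (TateMod X l (SGA7.pt Ω))} (hX : IsGal ρX)
    {ρY : (Ω ≃ₐ[k] Ω) → Module.End ℤ_[l] (TateMod Y l (SGA7.pt Ω))} (hY : IsGal ρY)
    (πX : X ⟶ X) [IsMonHom πX] (hπX : IsFrob (Nat.card k) πX.left)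
    (πY : Y ⟶ Y) [IsMonHom πY] (hπY : IsFrob (Nat.card k) πY.left)
    (u : TateMod X l (SGA7.pt Ω) →ₗ[ℤ_[l]] TateMod Y l (SGA7.pt Ω)) (hu : ∀ τ : Ω ≃ₐ[k] Ω, u ∘ₗ ρX τ = ρY τ ∘ₗ u) :
    u ∘ₗ tateMapₗ (l := l) (T := SGA7.pt Ω) πX = tateMapₗ (l := l) (T := SGA7.pt Ω) πY ∘ₗ u := by
  obtain ⟨F, hF⟩ := exists_frob k Ω
  rw [← rho_frob hX πX hπX F hF, ← rho_frob hY πY hπY F hF, hu]

theorem component_eq (u : TateMod X l (SGA7.pt Ω) →ₗ[ℤ_[l]] TateMod Y l (SGA7.pt Ω)) (m : ℕ)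
    (z w : TateMod X l (SGA7.pt (K := k) Ω))
    (h : TateMod.component X l (SGA7.pt Ω) m z = TateMod.component X l (SGA7.pt Ω) m w) :
    TateMod.component Y l (SGA7.pt Ω) m (u z) = TateMod.component Y l (SGA7.pt Ω) m (u w) := by
  have h1 : TateMod.component X l (SGA7.pt Ω) m (z - w) = 0 := by rw [map_sub, h, sub_self]
  obtain ⟨y, hy⟩ := K520.TateFin.exists_eq_pow_smul (z - w) m h1
  have h2 : u z - u w = (l ^ m) • u y := by
    rw [← map_sub, ← hy, map_nsmul]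
  have h3 : TateMod.component Y l (SGA7.pt Ω) m ((l ^ m) • u y) = 0 := by
    rw [map_nsmul]
    exact (u y).torsion m
  rw [← sub_eq_zero, ← map_sub, h2, h3]

/-- A map commuting with Frobenius commutes with Galois. -/
theorem comm_gal_of_comm_frob [Finite k] [Algebra.IsAlgebraic k Ω] [LocallyOfFiniteType X.hom]
    [LocallyOfFiniteType Y.hom] (hfX : ∀ m : ℕ, {x : SGA7.pt (K := k) Ω ⟶ X | x ^ (l ^ m) = 1}.Finite)
    (hfY : ∀ m : ℕ, {x : SGA7.pt (K := k) Ω ⟶ Y | x ^ (l ^ m) = 1}.Finite)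
    {ρX : (Ω ≃ₐ[k] Ω) → Module.End ℤ_[l] (TateMod X l (SGA7.pt Ω))} (hX : IsGal ρX)
    {ρY : (Ω ≃ₐ[k] Ω) → Module.End ℤ_[l] (TateMod Y l (SGA7.pt Ω))} (hY : IsGal ρY)
    (πX : X ⟶ X) [IsMonHom πX] (hπX : IsFrob (Nat.card k) πX.left)
    (πY : Y ⟶ Y) [IsMonHom πY] (hπY : IsFrob (Nat.card k) πY.left)
    (u : TateMod X l (SGA7.pt Ω) →ₗ[ℤ_[l]] TateMod Y l (SGA7.pt Ω))
    (hu : u ∘ₗ tateMapₗ (l := l) (T := SGA7.pt Ω) πX = tateMapₗ (l := l) (T := SGA7.pt Ω) πY ∘ₗ u)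
    (τ : Ω ≃ₐ[k] Ω) : u ∘ₗ ρX τ = ρY τ ∘ₗ u := by
  refine LinearMap.ext fun z => TateMod.ext fun m => ?_
  obtain ⟨j, h1, h2⟩ := exists_pow_galAct _ (hfX m) _ (hfY m) τ
  let aX : EndAV.End X := EndAV.End.of πX
  let aY : EndAV.End Y := EndAV.End.of πY
  have hjX := FrobPts.isFrob_pow X aX hπX j
  have hjY := FrobPts.isFrob_pow Y aY hπY j
  have hpow : ∀ j : ℕ, u ∘ₗ tateMapₗ (l := l) (T := SGA7.pt Ω) (EndAV.End.toHom (aX ^ j)) =
      tateMapₗ (l := l) (T := SGA7.pt Ω) (EndAV.End.toHom (aY ^ j)) ∘ₗ u := by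
    intro j
    induction j with
    | zero =>
      change u ∘ₗ tateMapₗ (l := l) (T := SGA7.pt Ω) (𝟙 X) = tateMapₗ (l := l) (T := SGA7.pt Ω) (𝟙 Y) ∘ₗ u
      rw [K519.Tate.tateMapₗ_id, K519.Tate.tateMapₗ_id, LinearMap.comp_id, LinearMap.id_comp]
    | succ j ih =>
      have e1 : tateMapₗ (l := l) (T := SGA7.pt Ω) (EndAV.End.toHom (aX ^ (j + 1))) =
          tateMapₗ (l := l) (T := SGA7.pt Ω) (EndAV.End.toHom (aX ^ j)) ∘ₗ tateMapₗ πX :=
        K519.Tate.tateMapₗ_comp πX (EndAV.End.toHom (aX ^ j))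
      have e2 : tateMapₗ (l := l) (T := SGA7.pt Ω) (EndAV.End.toHom (aY ^ (j + 1))) =
          tateMapₗ (l := l) (T := SGA7.pt Ω) (EndAV.End.toHom (aY ^ j)) ∘ₗ tateMapₗ πY :=
        K519.Tate.tateMapₗ_comp πY (EndAV.End.toHom (aY ^ j))
      rw [e1, e2, ← LinearMap.comp_assoc, ih, LinearMap.comp_assoc, hu, LinearMap.comp_assoc]
  have ht : ∀ (Z : Over (Spec (CommRingCat.of k))) [GrpObj Z] [IsCommMonObj Z] (w : TateMod Z l (SGA7.pt (K := k) Ω)),
      (TateMod.component Z l (SGA7.pt Ω) m w).toMul ∈ {x : SGA7.pt (K := k) Ω ⟶ Z | x ^ (l ^ m) = 1} := by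
    intro Z _ _ w
    exact w.torsion m
  have g1 : TateMod.component X l (SGA7.pt Ω) m (ρX τ z) =
      TateMod.component X l (SGA7.pt Ω) m (tateMapₗ (l := l) (T := SGA7.pt Ω) (EndAV.End.toHom (aX ^ j)) z) := by
    apply Additive.toMul.injective
    exact (hX τ z m).trans (h1 _ (ht X z) _ hjX)
  have g2 := component_eq u m _ _ g1
  have g3 := LinearMap.congr_fun (hpow j) z
  refine (show TateMod.component Y l (SGA7.pt Ω) m (u (ρX τ z)) = TateMod.component Y l (SGA7.pt Ω) m (ρY τ (u z)) from ?_)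
  rw [g2]
  apply Additive.toMul.injective
  rw [hY τ (u z) m, h2 _ (ht Y (u z)) _ hjY]
  have g4 : u (tateMapₗ (l := l) (T := SGA7.pt Ω) (EndAV.End.toHom (aX ^ j)) z) =
      tateMapₗ (l := l) (T := SGA7.pt Ω) (EndAV.End.toHom (aY ^ j)) (u z) := g3
  rw [g4]
  rfl

end tate

end K522.FrobGal
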