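import Groth.Agent.AbVar.K522.FrobGal
import Groth.Agent.AbVar.K522.LinInter
import Groth.Agent.AbVar.K521.BcTate
import Mathlib.RingTheory.Localization.Module
import Mathlib.RingTheory.Localization.BaseChange

/-!
# The rank of `Hom(X, Y)` over a finite field

* `rho`: the Galois action on the Tate module.
* `mem_span_of_comm`: from Tate's theorem (integral form): a `ℚ_l`-linear map `V_l X → V_l Y` commuting with Frobenius is a
  combination of homomorphisms.
* `finrank_span_V`: the `ℚ_l`-span of homomorphisms has dimension `rank Hom(X, Y)`.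
* `finrank_hom_eq`: `rank Hom(X, Y) = ∑ mult · mult · deg` over the irreducible factors over `ℚ_l`.
-/

set_option autoImplicit false
universe u

open TensorProduct

namespace K522.HomRank

section algebra

variable {R K : Type*} [CommRing R] [IsDomain R] [Field K] [Algebra R K] [IsFractionRing R K]
  {M N : Type*} [AddCommGroup M] [Module R M] [AddCommGroup N] [Module R N]

theorem exists_smul_eq_tmul (y : K ⊗[R] N) : ∃ (r : R) (n : N), r ≠ 0 ∧ algebraMap R K r • y = 1 ⊗ₜ n := by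
  have h : IsLocalizedModule (nonZeroDivisors R) (TensorProduct.mk R K N 1) :=
    (isLocalizedModule_iff_isBaseChange (nonZeroDivisors R) K (TensorProduct.mk R K N 1)).mpr
      (TensorProduct.isBaseChange R N K)
  obtain ⟨⟨n, r⟩, hx⟩ := IsLocalizedModule.surj (nonZeroDivisors R) (TensorProduct.mk R K N 1) y
  refine ⟨r, n, nonZeroDivisors.ne_zero r.2, ?_⟩
  rw [algebraMap_smul]
  exact hx

theorem exists_smul_eq_baseChange [Module.Finite R M] [Module.Free R M] (w : K ⊗[R] M →ₗ[K] K ⊗[R] N) :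
    ∃ (r : R) (u : M →ₗ[R] N), r ≠ 0 ∧ algebraMap R K r • w = u.baseChange K := by
  classical
  let b := Module.Free.chooseBasis R M
  choose r n hr hn using fun i => exists_smul_eq_tmul (K := K) (w ((1 : K) ⊗ₜ[R] b i))
  refine ⟨∏ i, r i, b.constr R fun i => (∏ j ∈ Finset.univ.erase i, r j) • n i,
    Finset.prod_ne_zero_iff.mpr fun i _ => hr i, ?_⟩
  refine (Algebra.TensorProduct.basis K b).ext fun i => ?_
  rw [Algebra.TensorProduct.basis_apply, LinearMap.smul_apply, LinearMap.baseChange_tmul, Module.Basis.constr_basis,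
    ← Finset.prod_erase_mul _ _ (Finset.mem_univ i), map_mul, mul_smul, hn, TensorProduct.tmul_smul, algebraMap_smul]

theorem baseChange_injective [Module.Free R M] [Module.IsTorsionFree R N] :
    Function.Injective (LinearMap.baseChangeHom R K M N) := by
  intro u v h
  have h0 : Function.Injective (TensorProduct.mk R K N 1) := by
    have h : IsLocalizedModule (nonZeroDivisors R) (TensorProduct.mk R K N 1) :=
      (isLocalizedModule_iff_isBaseChange (nonZeroDivisors R) K (TensorProduct.mk R K N 1)).mpr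
        (TensorProduct.isBaseChange R N K)
    rw [← LinearMap.ker_eq_bot, LinearMap.ker_eq_bot']
    intro m hm
    rw [IsLocalizedModule.eq_zero_iff (nonZeroDivisors R)] at hm
    obtain ⟨c, hc⟩ := hm
    exact (smul_eq_zero_iff_right (nonZeroDivisors.ne_zero c.2)).mp hc
  refine LinearMap.ext fun m => h0 ?_
  have := LinearMap.congr_fun h ((1 : K) ⊗ₜ m)
  simpa using this

end algebra

open CategoryTheory CategoryTheory.Limits AlgebraicGeometry MonoidalCategory CartesianMonoidalCategory MonObj GrpObj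
open K520.Frob AbDual TateAbs VRep

noncomputable section

variable {k Ω : Type u} [Field k] [Field Ω] [Algebra k Ω] {l : ℕ} [Fact l.Prime]
  {X Y : Over (Spec (CommRingCat.of k))} [GrpObj X] [IsCommMonObj X] [GrpObj Y] [IsCommMonObj Y]

/-- The Galois action on points, as a homomorphism. -/
def galHom (τ : Ω ≃ₐ[k] Ω) (X : Over (Spec (CommRingCat.of k))) [GrpObj X] :
    (SGA7.pt (K := k) Ω ⟶ X) →* (SGA7.pt (K := k) Ω ⟶ X) where
  toFun x := SGA7.galAct τ x
  map_one' := comp_one _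
  map_mul' x y := comp_mul _ x y

/-- The Galois action on the Tate module. -/
def rho (l : ℕ) [Fact l.Prime] (X : Over (Spec (CommRingCat.of k))) [GrpObj X] [IsCommMonObj X] (τ : Ω ≃ₐ[k] Ω) :
    Module.End ℤ_[l] (TateMod X l (SGA7.pt Ω)) :=
  K521.BcTate.tateHom l (galHom τ X)

theorem isGal_rho : IsGal (rho (Ω := Ω) l X) := fun _ _ _ => rfl

theorem isTorsionFree_tateMod {B : Scheme.{u}} (A T : Over B) [GrpObj A] [IsCommMonObj A] :
    Module.IsTorsionFree ℤ_[l] (TateMod A l T) :=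
  Module.isTorsionFree_iff_smul_eq_zero.mpr fun a x h => by
    by_cases ha : a = 0
    · exact Or.inl ha
    · exact Or.inr (K519.Tate.eq_zero_of_smul_eq_zero a ha x h)

/-- Tate's theorem for `X` and `Y` (integral form). -/
def TateThm (Ω : Type u) [Field Ω] [Algebra k Ω] (l : ℕ) [Fact l.Prime] (X Y : Over (Spec (CommRingCat.of k)))
    [GrpObj X] [IsCommMonObj X] [GrpObj Y] [IsCommMonObj Y] : Prop :=
  ∀ u : TateMod X l (SGA7.pt Ω) →ₗ[ℤ_[l]] TateMod Y l (SGA7.pt Ω),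
    (∀ τ : Ω ≃ₐ[k] Ω, u ∘ₗ rho l X τ = rho l Y τ ∘ₗ u) →
      u ∈ Submodule.span ℤ_[l] {v : TateMod X l (SGA7.pt Ω) →ₗ[ℤ_[l]] TateMod Y l (SGA7.pt Ω) |
        ∃ (f : X ⟶ Y) (_ : IsMonHom f), v = tateMapₗ (l := l) (T := SGA7.pt Ω) f}

/-- `V_l` as an additive map on homomorphisms. -/
def VHom (Ω : Type u) [Field Ω] [Algebra k Ω] (l : ℕ) [Fact l.Prime] (X Y : Over (Spec (CommRingCat.of k)))
    [GrpObj X] [IsCommMonObj X] [GrpObj Y] [IsCommMonObj Y] :
    EndAV.Hom X Y →+ (Vl l (SGA7.pt (K := k) Ω) X →ₗ[ℚ_[l]] Vl l (SGA7.pt (K := k) Ω) Y) :=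
  (LinearMap.baseChangeHom ℤ_[l] ℚ_[l] _ _).toAddMonoidHom.comp (EndAV.Hom.tateMap (A := X) (B := Y) l (SGA7.pt Ω))

theorem VHom_apply (f : EndAV.Hom X Y) : VHom Ω l X Y f = vmap f.toHom := rfl

theorem range_VHom : Set.range (VHom Ω l X Y) = {ψ : Vl l (SGA7.pt Ω) X →ₗ[ℚ_[l]] Vl l (SGA7.pt Ω) Y |
      ∃ (f : X ⟶ Y) (_ : IsMonHom f), ψ = (tateMapₗ (l := l) (T := SGA7.pt Ω) f).baseChange ℚ_[l]} := by
  ext ψ
  constructor
  · rintro ⟨f, rfl⟩
    exact ⟨f.toHom, inferInstance, rfl⟩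
  · rintro ⟨f, hf, rfl⟩
    exact ⟨EndAV.Hom.of f, rfl⟩

/-- Maps `V_l X → V_l Y` commuting with Frobenius are combinations of homomorphisms. -/
theorem mem_span_of_comm [Finite k] [Algebra.IsAlgebraic k Ω] [LocallyOfFiniteType X.hom]
    [LocallyOfFiniteType Y.hom] (hfX : ∀ m : ℕ, {x : SGA7.pt (K := k) Ω ⟶ X | x ^ (l ^ m) = 1}.Finite)
    (hfY : ∀ m : ℕ, {x : SGA7.pt (K := k) Ω ⟶ Y | x ^ (l ^ m) = 1}.Finite)
    [Module.Free ℤ_[l] (TateMod X l (SGA7.pt Ω))] [Module.Finite ℤ_[l] (TateMod X l (SGA7.pt Ω))]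
    (πX : X ⟶ X) [IsMonHom πX] (hπX : IsFrob (Nat.card k) πX.left)
    (πY : Y ⟶ Y) [IsMonHom πY] (hπY : IsFrob (Nat.card k) πY.left) (hT : TateThm Ω l X Y)
    (w : Vl l (SGA7.pt Ω) X →ₗ[ℚ_[l]] Vl l (SGA7.pt Ω) Y) (hw : w ∘ₗ vmap πX = vmap πY ∘ₗ w) :
    w ∈ Submodule.span ℚ_[l] (Set.range (VHom Ω l X Y)) := by
  haveI := isTorsionFree_tateMod (l := l) Y (SGA7.pt (K := k) Ω)
  obtain ⟨r, u, hr, hru⟩ := exists_smul_eq_baseChange w
  have hr' : algebraMap ℤ_[l] ℚ_[l] r ≠ 0 := by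
    rwa [Ne, IsFractionRing.to_map_eq_zero_iff]
  have hu : u ∘ₗ tateMapₗ (l := l) (T := SGA7.pt Ω) πX = tateMapₗ (l := l) (T := SGA7.pt Ω) πY ∘ₗ u := by
    apply baseChange_injective (K := ℚ_[l])
    change LinearMap.baseChange ℚ_[l] (u ∘ₗ tateMapₗ (l := l) (T := SGA7.pt Ω) πX) =
      LinearMap.baseChange ℚ_[l] (tateMapₗ (l := l) (T := SGA7.pt Ω) πY ∘ₗ u)
    rw [LinearMap.baseChange_comp, LinearMap.baseChange_comp, ← hru]
    change (_ • w) ∘ₗ vmap πX = vmap πY ∘ₗ (_ • w)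
    rw [LinearMap.smul_comp, hw, LinearMap.comp_smul]
  have h1 := hT u fun τ => FrobGal.comm_gal_of_comm_frob hfX hfY isGal_rho isGal_rho πX hπX πY hπY u hu τ
  have h2 : algebraMap ℤ_[l] ℚ_[l] r • w ∈ Submodule.span ℚ_[l] (Set.range (VHom Ω l X Y)) := by
    rw [hru]
    clear hru hu
    induction h1 using Submodule.span_induction with
    | mem x hx =>
      obtain ⟨f, _, rfl⟩ := hx
      exact Submodule.subset_span ⟨EndAV.Hom.of f, rfl⟩
    | zero => rw [LinearMap.baseChange_zero]; exact zero_mem _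
    | add x y _ _ hx hy => rw [LinearMap.baseChange_add]; exact add_mem hx hy
    | smul a x _ hx =>
      rw [LinearMap.baseChange_smul, ← algebraMap_smul ℚ_[l] a]
      exact Submodule.smul_mem _ _ hx
  have h3 := Submodule.smul_mem _ (algebraMap ℤ_[l] ℚ_[l] r)⁻¹ h2
  rwa [smul_smul, inv_mul_cancel₀ hr', one_smul] at h3

/-- The intertwiners are the span of the homomorphisms. -/
theorem span_eq_ker [Finite k] [Algebra.IsAlgebraic k Ω] [LocallyOfFiniteType X.hom]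
    [LocallyOfFiniteType Y.hom] (hfX : ∀ m : ℕ, {x : SGA7.pt (K := k) Ω ⟶ X | x ^ (l ^ m) = 1}.Finite)
    (hfY : ∀ m : ℕ, {x : SGA7.pt (K := k) Ω ⟶ Y | x ^ (l ^ m) = 1}.Finite)
    [Module.Free ℤ_[l] (TateMod X l (SGA7.pt Ω))] [Module.Finite ℤ_[l] (TateMod X l (SGA7.pt Ω))]
    (πX : X ⟶ X) [IsMonHom πX] (hπX : IsFrob (Nat.card k) πX.left)
    (πY : Y ⟶ Y) [IsMonHom πY] (hπY : IsFrob (Nat.card k) πY.left) (hT : TateThm Ω l X Y) :
    Submodule.span ℚ_[l] (Set.range (VHom Ω l X Y)) =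
      LinearMap.ker (LinearMap.lcomp ℚ_[l] (Vl l (SGA7.pt Ω) Y) (vmap (l := l) (T := SGA7.pt Ω) πX) -
        LinearMap.llcomp ℚ_[l] (Vl l (SGA7.pt Ω) X) (Vl l (SGA7.pt Ω) Y) (Vl l (SGA7.pt Ω) Y)
          (vmap (l := l) (T := SGA7.pt Ω) πY)) := by
  apply le_antisymm
  · rw [Submodule.span_le]
    rintro _ ⟨f, rfl⟩
    rw [SetLike.mem_coe, LinearMap.mem_ker]
    refine sub_eq_zero.mpr ?_
    change vmap f.toHom ∘ₗ vmap πX = vmap πY ∘ₗ vmap f.toHom
    rw [← vmap_comp, ← vmap_comp]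
    exact vmap_congr (Over.OverMorphism.ext (hπX.comm hπY _))
  · intro w hw
    rw [LinearMap.mem_ker] at hw
    exact mem_span_of_comm hfX hfY πX hπX πY hπY hT w (sub_eq_zero.mp hw)

/-- The dimension of the span of the homomorphisms. -/
theorem finrank_span_V [Module.Free ℤ (EndAV.Hom X Y)] [Module.Finite ℤ (EndAV.Hom X Y)]
    [Module.Free ℤ_[l] (TateMod X l (SGA7.pt Ω))]
    (hI : ∀ (n : ℕ) (e : Fin n → EndAV.Hom X Y), LinearIndependent ℤ e →
      LinearIndependent ℤ_[l] (fun i => EndAV.Hom.tateMap (A := X) (B := Y) l (SGA7.pt Ω) (e i))) :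
    Module.finrank ℚ_[l] (Submodule.span ℚ_[l] (Set.range (VHom Ω l X Y))) = Module.finrank ℤ (EndAV.Hom X Y) := by
  haveI := isTorsionFree_tateMod (l := l) Y (SGA7.pt (K := k) Ω)
  let b := Module.finBasis ℤ (EndAV.Hom X Y)
  have h1 := hI _ b b.linearIndependent
  have h2 : LinearIndependent ℤ_[l] (fun i => VHom Ω l X Y (b i)) :=
    h1.map' (LinearMap.baseChangeHom ℤ_[l] ℚ_[l] _ _) (LinearMap.ker_eq_bot.mpr baseChange_injective)
  have h3 : LinearIndependent ℚ_[l] (fun i => VHom Ω l X Y (b i)) :=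
    (LinearIndependent.iff_fractionRing ℤ_[l] ℚ_[l]).mp h2
  have h4 : Submodule.span ℚ_[l] (Set.range (VHom Ω l X Y)) =
      Submodule.span ℚ_[l] (Set.range fun i => VHom Ω l X Y (b i)) := by
    apply le_antisymm
    · rw [Submodule.span_le]
      rintro _ ⟨f, rfl⟩
      rw [← b.sum_repr f, map_sum]
      refine sum_mem fun i _ => ?_
      rw [map_zsmul, ← Int.cast_smul_eq_zsmul ℚ_[l]]
      exact Submodule.smul_mem _ _ (Submodule.subset_span ⟨i, rfl⟩)
    · refine Submodule.span_mono ?_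
      rintro _ ⟨i, rfl⟩
      exact ⟨b i, rfl⟩
  rw [h4, finrank_span_eq_card h3, Fintype.card_fin]

/-- The rank of `Hom(X, Y)` is the dimension of the space of maps commuting with Frobenius. -/
theorem finrank_hom_eq_ker [Finite k] [Algebra.IsAlgebraic k Ω] [LocallyOfFiniteType X.hom]
    [LocallyOfFiniteType Y.hom] (hfX : ∀ m : ℕ, {x : SGA7.pt (K := k) Ω ⟶ X | x ^ (l ^ m) = 1}.Finite)
    (hfY : ∀ m : ℕ, {x : SGA7.pt (K := k) Ω ⟶ Y | x ^ (l ^ m) = 1}.Finite)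
    [Module.Free ℤ_[l] (TateMod X l (SGA7.pt Ω))] [Module.Finite ℤ_[l] (TateMod X l (SGA7.pt Ω))]
    (πX : X ⟶ X) [IsMonHom πX] (hπX : IsFrob (Nat.card k) πX.left)
    (πY : Y ⟶ Y) [IsMonHom πY] (hπY : IsFrob (Nat.card k) πY.left) (hT : TateThm Ω l X Y)
    (hI : ∀ (n : ℕ) (e : Fin n → EndAV.Hom X Y), LinearIndependent ℤ e →
      LinearIndependent ℤ_[l] (fun i => EndAV.Hom.tateMap (A := X) (B := Y) l (SGA7.pt Ω) (e i)))
    (hH : Module.Free ℤ (EndAV.Hom X Y) ∧ Module.Finite ℤ (EndAV.Hom X Y)) :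
    Module.finrank ℤ (EndAV.Hom X Y) =
      Module.finrank ℚ_[l] (LinearMap.ker (LinearMap.lcomp ℚ_[l] (Vl l (SGA7.pt Ω) Y)
        (vmap (l := l) (T := SGA7.pt Ω) πX) -
        LinearMap.llcomp ℚ_[l] (Vl l (SGA7.pt Ω) X) (Vl l (SGA7.pt Ω) Y) (Vl l (SGA7.pt Ω) Y)
          (vmap (l := l) (T := SGA7.pt Ω) πY))) := by
  obtain ⟨h1, h2⟩ := hH
  rw [← finrank_span_V hI, span_eq_ker hfX hfY πX hπX πY hπY hT]

open UniqueFactorizationMonoid in
open scoped Classical in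
/-- The rank of `Hom(X, Y)` over a finite field. -/
theorem finrank_hom_eq [Finite k] [Algebra.IsAlgebraic k Ω] [LocallyOfFiniteType X.hom]
    [LocallyOfFiniteType Y.hom] (hfX : ∀ m : ℕ, {x : SGA7.pt (K := k) Ω ⟶ X | x ^ (l ^ m) = 1}.Finite)
    (hfY : ∀ m : ℕ, {x : SGA7.pt (K := k) Ω ⟶ Y | x ^ (l ^ m) = 1}.Finite)
    [Module.Free ℤ_[l] (TateMod X l (SGA7.pt Ω))] [Module.Finite ℤ_[l] (TateMod X l (SGA7.pt Ω))]
    [Module.Finite ℤ_[l] (TateMod Y l (SGA7.pt Ω))]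
    (πX : X ⟶ X) [IsMonHom πX] (hπX : IsFrob (Nat.card k) πX.left)
    (πY : Y ⟶ Y) [IsMonHom πY] (hπY : IsFrob (Nat.card k) πY.left) (hT : TateThm Ω l X Y)
    (hI : ∀ (n : ℕ) (e : Fin n → EndAV.Hom X Y), LinearIndependent ℤ e →
      LinearIndependent ℤ_[l] (fun i => EndAV.Hom.tateMap (A := X) (B := Y) l (SGA7.pt Ω) (e i)))
    (hH : Module.Free ℤ (EndAV.Hom X Y) ∧ Module.Finite ℤ (EndAV.Hom X Y))
    (hsX : Module.End.IsSemisimple ((tateMapₗ (l := l) (T := SGA7.pt Ω) πX).baseChange ℚ_[l]))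
    (hsY : Module.End.IsSemisimple ((tateMapₗ (l := l) (T := SGA7.pt Ω) πY).baseChange ℚ_[l])) :
    Module.finrank ℤ (EndAV.Hom X Y) =
      ∑ P ∈ (normalizedFactors ((tateMapₗ (l := l) (T := SGA7.pt Ω) πX).baseChange ℚ_[l]).charpoly).toFinset,
        (normalizedFactors ((tateMapₗ (l := l) (T := SGA7.pt Ω) πX).baseChange ℚ_[l]).charpoly).count P *
          (normalizedFactors ((tateMapₗ (l := l) (T := SGA7.pt Ω) πY).baseChange ℚ_[l]).charpoly).count P *
            P.natDegree := by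
  obtain ⟨h1, h2⟩ := hH
  rw [← finrank_span_V hI, span_eq_ker hfX hfY πX hπX πY hπY hT]
  exact LinInter.finrank_intertwiners _ _ hsX hsY

end

end K522.HomRank
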