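import Groth.Agent.AbVar.K522.LinInter
import Mathlib.Algebra.MvPolynomial.Funext

/-!
# Semisimple endomorphisms with the same characteristic polynomial are conjugate

* `nonempty_equiv`: two finite-dimensional semisimple `K[X]`-modules with the same characteristic polynomial are isomorphic.
* `exists_conj`: two semisimple endomorphisms with the same characteristic polynomial are conjugate.
* `exists_int_comb`: if some `K`-combination of maps `V → W` is bijective then some integral combination is (characteristic 0).
-/

set_option autoImplicit false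
universe u v w

namespace K522.SsIso

open Polynomial LinInter

variable {K : Type u} [Field K]

section

variable {M : Type v} [AddCommGroup M] [Module K M] [Module K[X] M] [IsScalarTower K K[X] M] [FiniteDimensional K M]

theorem decomp_charpoly (S N : Submodule K[X] M) (h : IsCompl S N) :
    (mX (K := K) M).charpoly =
      (haveI := finite_submodule (K := K) S; (mX (K := K) S).charpoly) *
        (haveI := finite_submodule (K := K) N; (mX (K := K) N).charpoly) := by
  haveI := finite_submodule (K := K) S
  haveI := finite_submodule (K := K) N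
  rw [← charpoly_prod]
  exact charpoly_eq_of_equiv (Submodule.prodEquivOfIsCompl S N h).symm

end

theorem exists_simple (n : ℕ) : ∀ (M : Type v) [AddCommGroup M] [Module K M] [Module K[X] M] [IsScalarTower K K[X] M]
    [FiniteDimensional K M] [IsSemisimpleModule K[X] M] (p : K[X]), Irreducible p → p.Monic →
    p ∣ (mX (K := K) M).charpoly → Module.finrank K M = n →
    ∃ S : Submodule K[X] M, IsSimpleModule K[X] S ∧
      (haveI := finite_submodule (K := K) S; (mX (K := K) S).charpoly) = p := by
  induction n using Nat.strong_induction_on with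
  | _ n ih =>
  intro M _ _ _ _ _ _ p hp hpm hd hn
  haveI : Nontrivial M := by
    by_contra hM
    rw [not_nontrivial_iff_subsingleton] at hM
    have h1 : (mX (K := K) M).charpoly.natDegree = 0 := by
      rw [LinearMap.charpoly_natDegree, Module.finrank_zero_of_subsingleton]
    have h2 : (mX (K := K) M).charpoly = 1 := (LinearMap.charpoly_monic _).natDegree_eq_zero.mp h1
    rw [h2] at hd
    exact hp.not_isUnit (isUnit_of_dvd_one hd)
  obtain ⟨S, hS⟩ := IsSemisimpleModule.exists_simple_submodule K[X] M
  obtain ⟨N, hN⟩ := exists_isCompl S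
  haveI := finite_submodule (K := K) S
  haveI := finite_submodule (K := K) N
  have h1 := decomp_charpoly (K := K) S N hN
  rw [h1] at hd
  rcases hp.prime.dvd_or_dvd hd with h | h
  · refine ⟨S, hS, ?_⟩
    have h2 := (simple_equiv (K := K) (M := S)).1
    exact (Polynomial.eq_of_monic_of_associated hpm (LinearMap.charpoly_monic _) (hp.associated_of_dvd h2 h)).symm
  · have h3 : Module.finrank K N < n := by
      have h4 := LinearEquiv.finrank_eq ((Submodule.prodEquivOfIsCompl S N hN).restrictScalars K)
      rw [Module.finrank_prod] at h4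
      have : Nontrivial S := IsSimpleModule.nontrivial K[X] S
      have h5 : 0 < Module.finrank K S := Module.finrank_pos
      omega
    obtain ⟨S', hS', hc⟩ := ih _ h3 N p hp hpm h rfl
    let e := S'.equivMapOfInjective N.subtype N.injective_subtype
    haveI := finite_submodule (K := K) (S'.map N.subtype)
    haveI := finite_submodule (K := K) S'
    refine ⟨S'.map N.subtype, ?_, ?_⟩
    · haveI := hS'
      exact IsSimpleModule.congr (N := S') e.symm
    · rw [← hc]
      exact (charpoly_eq_of_equiv e).symm

theorem nonempty_equiv (n : ℕ) : ∀ (M : Type v) (N : Type w) [AddCommGroup M] [Module K M] [Module K[X] M]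
    [IsScalarTower K K[X] M] [FiniteDimensional K M] [IsSemisimpleModule K[X] M]
    [AddCommGroup N] [Module K N] [Module K[X] N] [IsScalarTower K K[X] N] [FiniteDimensional K N]
    [IsSemisimpleModule K[X] N], (mX (K := K) M).charpoly = (mX (K := K) N).charpoly → Module.finrank K M = n →
    Nonempty (M ≃ₗ[K[X]] N) := by
  induction n using Nat.strong_induction_on with
  | _ n ih =>
  intro M N _ _ _ _ _ _ _ _ _ _ _ _ hc hn
  have hfin : Module.finrank K N = n := by
    rw [← hn, ← LinearMap.charpoly_natDegree (mX (K := K) M), hc, LinearMap.charpoly_natDegree]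
  rcases subsingleton_or_nontrivial M with hM | hM
  · haveI : Subsingleton N := by
      rw [Module.finrank_zero_of_subsingleton] at hn
      rw [← hn] at hfin
      exact Module.finrank_zero_iff.mp hfin
    exact ⟨0⟩
  · obtain ⟨S, hS⟩ := IsSemisimpleModule.exists_simple_submodule K[X] M
    obtain ⟨M', hM'⟩ := exists_isCompl S
    haveI := finite_submodule (K := K) S
    haveI := finite_submodule (K := K) M'
    have h1 := decomp_charpoly (K := K) S M' hM'
    obtain ⟨hi, ⟨eS⟩⟩ := simple_equiv (K := K) (M := S)
    obtain ⟨S', hS', hcS'⟩ := exists_simple (K := K) _ N (mX (K := K) S).charpoly hi (LinearMap.charpoly_monic _)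
      (by rw [← hc, h1]; exact dvd_mul_right _ _) rfl
    obtain ⟨N', hN'⟩ := exists_isCompl S'
    haveI := finite_submodule (K := K) S'
    haveI := finite_submodule (K := K) N'
    have h2 := decomp_charpoly (K := K) S' N' hN'
    obtain ⟨-, ⟨eS'⟩⟩ := simple_equiv (K := K) (M := S')
    rw [hcS'] at eS' h2
    have h3 : (mX (K := K) M').charpoly = (mX (K := K) N').charpoly := by
      apply mul_left_cancel₀ (LinearMap.charpoly_monic (mX (K := K) S)).ne_zero
      rw [← h1, ← h2, hc]
    have h4 : Module.finrank K M' < n := by
      have h4 := LinearEquiv.finrank_eq ((Submodule.prodEquivOfIsCompl S M' hM').restrictScalars K)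
      rw [Module.finrank_prod] at h4
      have : Nontrivial S := IsSimpleModule.nontrivial K[X] S
      have h5 : 0 < Module.finrank K S := Module.finrank_pos
      omega
    obtain ⟨e⟩ := ih _ h4 M' N' h3 rfl
    exact ⟨(Submodule.prodEquivOfIsCompl S M' hM').symm.trans
      (((eS.trans eS'.symm).prodCongr e).trans (Submodule.prodEquivOfIsCompl S' N' hN'))⟩

/-- Two semisimple endomorphisms with the same characteristic polynomial are conjugate. -/
theorem exists_conj {V : Type v} {W : Type w} [AddCommGroup V] [Module K V] [FiniteDimensional K V] [AddCommGroup W]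
    [Module K W] [FiniteDimensional K W] (π : Module.End K V) (ρ : Module.End K W) (h₁ : π.IsSemisimple)
    (h₂ : ρ.IsSemisimple) (hc : π.charpoly = ρ.charpoly) : ∃ e : V ≃ₗ[K] W, ∀ v, e (π v) = ρ (e v) := by
  haveI : IsSemisimpleModule K[X] (Module.AEval' π) := h₁
  haveI : IsSemisimpleModule K[X] (Module.AEval' ρ) := h₂
  haveI : FiniteDimensional K (Module.AEval' π) := Module.Finite.equiv (Module.AEval'.of π)
  haveI : FiniteDimensional K (Module.AEval' ρ) := Module.Finite.equiv (Module.AEval'.of ρ)
  have c₁ : (mX (K := K) (Module.AEval' π)).charpoly = π.charpoly := by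
    rw [← LinearEquiv.charpoly_conj (Module.AEval'.of π) π]
    congr 1
    refine LinearMap.ext fun m => ?_
    obtain ⟨m, rfl⟩ := (Module.AEval'.of π).surjective m
    change (X : K[X]) • (Module.AEval'.of π m) =
      Module.AEval'.of π (π ((Module.AEval'.of π).symm (Module.AEval'.of π m)))
    rw [Module.AEval'.X_smul_of, LinearEquiv.symm_apply_apply]
  have c₂ : (mX (K := K) (Module.AEval' ρ)).charpoly = ρ.charpoly := by
    rw [← LinearEquiv.charpoly_conj (Module.AEval'.of ρ) ρ]
    congr 1
    refine LinearMap.ext fun m => ?_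
    obtain ⟨m, rfl⟩ := (Module.AEval'.of ρ).surjective m
    change (X : K[X]) • (Module.AEval'.of ρ m) =
      Module.AEval'.of ρ (ρ ((Module.AEval'.of ρ).symm (Module.AEval'.of ρ m)))
    rw [Module.AEval'.X_smul_of, LinearEquiv.symm_apply_apply]
  obtain ⟨e⟩ := nonempty_equiv (K := K) _ (Module.AEval' π) (Module.AEval' ρ) (by rw [c₁, c₂, hc]) rfl
  refine ⟨(Module.AEval'.of π).trans ((e.restrictScalars K).trans (Module.AEval'.of ρ).symm), fun v => ?_⟩
  change (Module.AEval'.of ρ).symm (e (Module.AEval'.of π (π v))) = ρ ((Module.AEval'.of ρ).symm (e (Module.AEval'.of π v)))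
  rw [← Module.AEval'.X_smul_of, map_smul]
  obtain ⟨w, hw⟩ := (Module.AEval'.of ρ).surjective (e (Module.AEval'.of π v))
  rw [← hw, Module.AEval'.X_smul_of, LinearEquiv.symm_apply_apply, LinearEquiv.symm_apply_apply]

/-- If some combination over `K` of linear maps is bijective then so is some integral combination. -/
theorem exists_int_comb [CharZero K] {V : Type v} {W : Type w} [AddCommGroup V] [Module K V] [FiniteDimensional K V]
    [AddCommGroup W] [Module K W] {ι : Type*} [Fintype ι] (f : ι → (V →ₗ[K] W)) (c : ι → K)
    (h : Function.Bijective (∑ i, c i • f i : V →ₗ[K] W)) :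
    ∃ a : ι → ℤ, Function.Bijective (∑ i, a i • f i : V →ₗ[K] W) := by
  classical
  let e : V ≃ₗ[K] W := LinearEquiv.ofBijective _ h
  let b := Module.finBasis K V
  let A : ι → Matrix (Fin (Module.finrank K V)) (Fin (Module.finrank K V)) K := fun i =>
    LinearMap.toMatrix b b (e.symm.toLinearMap ∘ₗ f i)
  let F : MvPolynomial ι K := Matrix.det (∑ i, (A i).map fun x => MvPolynomial.C x * MvPolynomial.X i)
  have hF : ∀ x : ι → K, MvPolynomial.eval x F = LinearMap.det (e.symm.toLinearMap ∘ₗ (∑ i, x i • f i : V →ₗ[K] W)) := by
    intro x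
    rw [RingHom.map_det, ← LinearMap.det_toMatrix b]
    congr 1
    ext p q
    rw [RingHom.mapMatrix_apply, Matrix.map_apply, Matrix.sum_apply, map_sum]
    have h1 : e.symm.toLinearMap ∘ₗ (∑ i, x i • f i : V →ₗ[K] W) = ∑ i, x i • (e.symm.toLinearMap ∘ₗ f i) := by
      ext v
      simp
    rw [h1, map_sum, Matrix.sum_apply]
    refine Finset.sum_congr rfl fun i _ => ?_
    rw [map_smul, Matrix.smul_apply, Matrix.map_apply, map_mul, MvPolynomial.eval_C, MvPolynomial.eval_X, smul_eq_mul,
      mul_comm]
  have hF0 : F ≠ 0 := by
    intro h0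
    have h1 := hF c
    rw [h0, map_zero] at h1
    have h2 : e.symm.toLinearMap ∘ₗ (∑ i, c i • f i : V →ₗ[K] W) = LinearMap.id := by
      ext v
      exact e.symm_apply_apply v
    rw [h2, LinearMap.det_id] at h1
    exact zero_ne_one h1
  obtain ⟨a, ha⟩ : ∃ a : ι → ℤ, MvPolynomial.eval (fun i => (a i : K)) F ≠ 0 := by
    by_contra hcon
    push Not at hcon
    apply hF0
    refine MvPolynomial.funext_set (fun _ => Set.range (Int.cast : ℤ → K))
      (fun _ => Set.infinite_range_of_injective Int.cast_injective) fun x hx => ?_
    choose a ha using fun i => hx i trivial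
    have : x = fun i => (a i : K) := funext fun i => (ha i).symm
    rw [this, hcon, map_zero]
  refine ⟨a, ?_⟩
  rw [hF] at ha
  have h1 : (∑ i, (a i : K) • f i : V →ₗ[K] W) = ∑ i, a i • f i :=
    Finset.sum_congr rfl fun i _ => Int.cast_smul_eq_zsmul K _ _
  rw [h1] at ha
  have h2 : IsUnit (e.symm.toLinearMap ∘ₗ (∑ i, a i • f i : V →ₗ[K] W)) :=
    (LinearMap.isUnit_iff_isUnit_det _).mpr (isUnit_iff_ne_zero.mpr ha)
  have h3 := (Module.End.isUnit_iff _).mp h2
  exact (Function.Bijective.of_comp_iff' e.symm.bijective _).mp h3

end K522.SsIso
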