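import Groth.Agent.AbVar.K522.BcMor
import Groth.Agent.AbVar.K522.FFThm
import Groth.Agent.AbVar.K522.SsIso
import Groth.Agent.AbVar.K519.KerFinite
import Groth.Agent.AbVar.K517.Isog

/-!
# Isogenies and Tate modules

* `isFinite_iff_injective`: over any field, for abelian varieties of the same dimension: `f` is finite iff `T_l(f)` is
  injective.
* `exists_rev`: then `f` is an isogeny (two-sided quasi-inverse).
* `exists_isogeny_of_charpoly_eq`: over a finite field, equal characteristic polynomials of Frobenius imply isogenous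
  (modulo Tate's theorem); `charpoly_eq_of_isogeny`: the converse.
-/

set_option autoImplicit false
universe u

open CategoryTheory CategoryTheory.Limits MonoidalCategory CartesianMonoidalCategory AlgebraicGeometry MonObj
open Groth.Agent.Sga7.H761.BaseChg Groth.Agent.Sga7.H761.TransSig
open AbDual K515.Bc K522.Bridge

noncomputable section

namespace K522.IsogCrit

open K520.Frob TateAbs VRep HomRank

variable {k : Type u} [Field k] (Ω : Type u) [Field Ω] [Algebra k Ω] {l : ℕ} [Fact l.Prime]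
  {X Y : Over (Spec (CommRingCat.of k))} [GrpObj X] [IsCommMonObj X] [IsProper X.hom] [GeometricallyIntegral X.hom]
  [GrpObj Y] [IsCommMonObj Y] [IsProper Y.hom] [GeometricallyIntegral Y.hom]

theorem injective_bc_iff (f : X ⟶ Y) [IsMonHom f] :
    Function.Injective (tateMapₗ (l := l) (T := Over.mk (𝟙 (Spec (CommRingCat.of Ω)))) (bcHom Ω f)) ↔
      Function.Injective (tateMapₗ (l := l) (T := SGA7.pt (K := k) Ω) f) := by
  have h : (tateMapₗ (l := l) (T := SGA7.pt (K := k) Ω) f) ∘ (tateE Ω l X) =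
      (tateE Ω l Y) ∘ (tateMapₗ (l := l) (T := Over.mk (𝟙 (Spec (CommRingCat.of Ω)))) (bcHom Ω f)) :=
    funext fun z => (tateE_comp Ω l f z).symm
  have h1 : Function.Injective ((tateMapₗ (l := l) (T := SGA7.pt (K := k) Ω) f) ∘ (tateE Ω l X)) ↔
      Function.Injective (tateMapₗ (l := l) (T := SGA7.pt (K := k) Ω) f) :=
    Function.Injective.of_comp_iff' _ (tateE Ω l X).bijective
  rw [← h1, h]
  exact (Function.Injective.of_comp_iff (tateE Ω l Y).injective _).symm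

/-- Finiteness of a homomorphism and injectivity on the Tate module. -/
theorem isFinite_iff_injective [IsAlgClosed Ω] (hl : (l : k) ≠ 0) (g : ℕ) (hX : topologicalKrullDim X.left = g)
    (hY : topologicalKrullDim Y.left = g) (f : X ⟶ Y) [IsMonHom f] :
    IsFinite f.left ↔ Function.Injective (tateMapₗ (l := l) (T := SGA7.pt (K := k) Ω) f) := by
  rw [← BcMor.isFinite_iff Ω g hX hY f, ← injective_bc_iff Ω f]
  exact K519.KerFinite.isFinite_iff_injective l (cast_ne_zero Ω hl) _ _ (bcHom Ω f)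

/-- A homomorphism injective on Tate modules between abelian varieties of the same dimension is an isogeny. -/
theorem exists_rev [IsAlgClosed Ω] (hl : (l : k) ≠ 0) (g : ℕ) (hX : topologicalKrullDim X.left = g)
    (hY : topologicalKrullDim Y.left = g) (f : X ⟶ Y) [IsMonHom f]
    (h : Function.Injective (tateMapₗ (l := l) (T := SGA7.pt (K := k) Ω) f)) :
    ∃ (n : ℕ) (v : Y ⟶ X), 1 ≤ n ∧ IsMonHom v ∧ f ≫ v = (𝟙 X) ^ n ∧ v ≫ f = (𝟙 Y) ^ n := by
  have h1 := (isFinite_iff_injective Ω hl g hX hY f).mpr h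
  haveI := K516.HomFin.surjective_of_isFinite g hX hY f
  exact K517.Isog.exists_rev_of_surjective f (by rw [hX, hY])

variable {Ω}

/-- The dimension is determined by the rational Tate module. -/
theorem dim_eq [IsAlgClosed Ω] (hl : (l : k) ≠ 0) (g : ℕ) (hX : topologicalKrullDim X.left = g)
    (e : Vl l (SGA7.pt (K := k) Ω) X ≃ₗ[ℚ_[l]] Vl l (SGA7.pt (K := k) Ω) Y) : topologicalKrullDim Y.left = g := by
  haveI := FFThm.finite_tate (l := l) Ω hl X
  haveI := FFThm.free_tate (l := l) Ω hl X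
  haveI := FFThm.finite_tate (l := l) Ω hl Y
  haveI := FFThm.free_tate (l := l) Ω hl Y
  obtain ⟨h, hh⟩ := K516.HomFin.exists_dim Y
  have h1 := e.finrank_eq
  rw [Module.finrank_baseChange, Module.finrank_baseChange, K523.RankTate.finrank_tate Ω X l hl g hX,
    K523.RankTate.finrank_tate Ω Y l hl h hh] at h1
  have h2 : h = g := by omega
  rw [hh, h2]

/-- `V_l` of a sum of homomorphisms. -/
theorem vmap_injective_iff (f : X ⟶ Y) [IsMonHom f] :
    Function.Injective (vmap (l := l) (T := SGA7.pt (K := k) Ω) f) →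
      Function.Injective (tateMapₗ (l := l) (T := SGA7.pt (K := k) Ω) f) := by
  intro h
  haveI := isTorsionFree_tateMod (l := l) X (SGA7.pt (K := k) Ω)
  intro a b hab
  have h0 : Function.Injective (TensorProduct.mk ℤ_[l] ℚ_[l] (TateMod X l (SGA7.pt (K := k) Ω)) 1) := by
    have hh : IsLocalizedModule (nonZeroDivisors ℤ_[l])
        (TensorProduct.mk ℤ_[l] ℚ_[l] (TateMod X l (SGA7.pt (K := k) Ω)) 1) :=
      (isLocalizedModule_iff_isBaseChange (nonZeroDivisors ℤ_[l]) ℚ_[l] _).mpr (TensorProduct.isBaseChange _ _ _)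
    rw [← LinearMap.ker_eq_bot, LinearMap.ker_eq_bot']
    intro m hm
    rw [IsLocalizedModule.eq_zero_iff (nonZeroDivisors ℤ_[l])] at hm
    obtain ⟨c, hc⟩ := hm
    exact (smul_eq_zero_iff_right (nonZeroDivisors.ne_zero c.2)).mp hc
  apply h0
  apply h
  change (1 : ℚ_[l]) ⊗ₜ[ℤ_[l]] (tateMapₗ f a) = (1 : ℚ_[l]) ⊗ₜ[ℤ_[l]] (tateMapₗ f b)
  rw [hab]

theorem exists_hom_of_equiv [IsAlgClosed Ω] (e : Vl l (SGA7.pt (K := k) Ω) X ≃ₗ[ℚ_[l]] Vl l (SGA7.pt (K := k) Ω) Y)
    [Module.Finite ℤ_[l] (TateMod X l (SGA7.pt (K := k) Ω))]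
    (he : e.toLinearMap ∈ Submodule.span ℚ_[l] (Set.range (VHom Ω l X Y))) :
    ∃ f : EndAV.Hom X Y, Function.Bijective (VHom Ω l X Y f) := by
  haveI := Bridge.free_hom X Y
  haveI := Bridge.finite_hom X Y
  let b := Module.finBasis ℤ (EndAV.Hom X Y)
  have h4 : Submodule.span ℚ_[l] (Set.range (VHom Ω l X Y)) ≤
      Submodule.span ℚ_[l] (Set.range fun i => VHom Ω l X Y (b i)) := by
    rw [Submodule.span_le]
    rintro _ ⟨f, rfl⟩
    rw [← b.sum_repr f, map_sum]
    refine sum_mem fun i _ => ?_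
    rw [map_zsmul, ← Int.cast_smul_eq_zsmul ℚ_[l]]
    exact Submodule.smul_mem _ _ (Submodule.subset_span ⟨i, rfl⟩)
  obtain ⟨c, hc⟩ := (Submodule.mem_span_range_iff_exists_fun ℚ_[l]).mp (h4 he)
  obtain ⟨a, ha⟩ := SsIso.exists_int_comb (fun i => VHom Ω l X Y (b i)) c (by rw [hc]; exact e.bijective)
  refine ⟨∑ i, a i • b i, ?_⟩
  have h5 : VHom Ω l X Y (∑ i, a i • b i) = ∑ i, a i • VHom Ω l X Y (b i) := by
    rw [map_sum]
    exact Finset.sum_congr rfl fun i _ => map_zsmul _ _ _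
  rw [h5]
  exact ha

/-- Equal characteristic polynomials of Frobenius: isogenous. -/
theorem exists_isogeny_of_charpoly_eq [Finite k] [IsAlgClosure k Ω] (hl : (l : k) ≠ 0)
    (πX : X ⟶ X) [IsMonHom πX] (hπX : IsFrob (Nat.card k) πX.left)
    (πY : Y ⟶ Y) [IsMonHom πY] (hπY : IsFrob (Nat.card k) πY.left) (hT : TateThm Ω l X Y)
    [Module.Free ℤ_[l] (TateMod X l (SGA7.pt (K := k) Ω))] [Module.Finite ℤ_[l] (TateMod X l (SGA7.pt (K := k) Ω))]
    [Module.Free ℤ_[l] (TateMod Y l (SGA7.pt (K := k) Ω))] [Module.Finite ℤ_[l] (TateMod Y l (SGA7.pt (K := k) Ω))]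
    (hc : (tateMapₗ (l := l) (T := SGA7.pt (K := k) Ω) πX).charpoly =
      (tateMapₗ (l := l) (T := SGA7.pt (K := k) Ω) πY).charpoly) :
    ∃ (u : X ⟶ Y) (_ : IsMonHom u) (v : Y ⟶ X) (_ : IsMonHom v) (n : ℕ), 0 < n ∧
        u ≫ v = (𝟙 X) ^ n ∧ v ≫ u = (𝟙 Y) ^ n := by
  haveI : IsAlgClosed Ω := IsAlgClosure.isAlgClosed k
  haveI : Algebra.IsAlgebraic k Ω := IsAlgClosure.isAlgebraic
  obtain ⟨e, he⟩ := SsIso.exists_conj (vmap (l := l) (T := SGA7.pt (K := k) Ω) πX)
    (vmap (l := l) (T := SGA7.pt (K := k) Ω) πY)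
    (FFThm.isSemisimple _ Nat.card_pos.ne' πX hπX _) (FFThm.isSemisimple _ Nat.card_pos.ne' πY hπY _) (by
      change ((tateMapₗ (l := l) (T := SGA7.pt (K := k) Ω) πX).baseChange ℚ_[l]).charpoly =
        ((tateMapₗ (l := l) (T := SGA7.pt (K := k) Ω) πY).baseChange ℚ_[l]).charpoly
      rw [LinearMap.charpoly_baseChange, LinearMap.charpoly_baseChange, hc])
  have h1 := mem_span_of_comm (RankThm.finite_tors_pow hl) (RankThm.finite_tors_pow hl) πX hπX πY hπY hT
    e.toLinearMap (LinearMap.ext he)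
  obtain ⟨f, hf⟩ := exists_hom_of_equiv e h1
  obtain ⟨g, hg⟩ := K516.HomFin.exists_dim X
  have hY := dim_eq hl g hg e
  obtain ⟨n, v, hn, hv, h2, h3⟩ := exists_rev Ω hl g hg hY f.toHom (vmap_injective_iff f.toHom hf.1)
  exact ⟨f.toHom, inferInstance, v, hv, n, hn, h2, h3⟩

/-- Isogenous: equal characteristic polynomials of Frobenius. -/
theorem charpoly_eq_of_isogeny {q : ℕ}
    (πX : X ⟶ X) [IsMonHom πX] (hπX : IsFrob q πX.left)
    (πY : Y ⟶ Y) [IsMonHom πY] (hπY : IsFrob q πY.left)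
    [Module.Free ℤ_[l] (TateMod X l (SGA7.pt (K := k) Ω))] [Module.Finite ℤ_[l] (TateMod X l (SGA7.pt (K := k) Ω))]
    [Module.Free ℤ_[l] (TateMod Y l (SGA7.pt (K := k) Ω))] [Module.Finite ℤ_[l] (TateMod Y l (SGA7.pt (K := k) Ω))]
    (u : X ⟶ Y) [IsMonHom u] (v : Y ⟶ X) [IsMonHom v] (n : ℕ) (hn : 0 < n) (h1 : u ≫ v = (𝟙 X) ^ n)
    (h2 : v ≫ u = (𝟙 Y) ^ n) :
    (tateMapₗ (l := l) (T := SGA7.pt (K := k) Ω) πX).charpoly =
      (tateMapₗ (l := l) (T := SGA7.pt (K := k) Ω) πY).charpoly := by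
  have hpow : ∀ (Z : Over (Spec (CommRingCat.of k))) [GrpObj Z] [IsCommMonObj Z] (w : Z ⟶ Z) [IsMonHom w],
      w = (𝟙 Z) ^ n → vmap (l := l) (T := SGA7.pt (K := k) Ω) w = (n : ℚ_[l]) • LinearMap.id := by
    intro Z _ _ w _ hw
    have h3 : vmap (l := l) (T := SGA7.pt (K := k) Ω) w =
        VRep.vRep l (SGA7.pt (K := k) Ω) Z ((n : ℕ) : EndAV.End Z) := by
      change _ = vmap (EndAV.End.toHom ((n : ℕ) : EndAV.End Z))
      exact vmap_congr (by rw [hw, EndAV.End.toHom_natCast])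
    rw [h3, map_natCast, Nat.cast_smul_eq_nsmul, nsmul_eq_mul]
    exact (_root_.mul_one _).symm
  have hn' : (n : ℚ_[l]) ≠ 0 := by exact_mod_cast hn.ne'
  have e1 : vmap (l := l) (T := SGA7.pt (K := k) Ω) v ∘ₗ vmap u = (n : ℚ_[l]) • LinearMap.id := by
    rw [← vmap_comp]
    exact hpow X (u ≫ v) h1
  have e2 : vmap (l := l) (T := SGA7.pt (K := k) Ω) u ∘ₗ vmap v = (n : ℚ_[l]) • LinearMap.id := by
    rw [← vmap_comp]
    exact hpow Y (v ≫ u) h2
  let e : Vl l (SGA7.pt (K := k) Ω) X ≃ₗ[ℚ_[l]] Vl l (SGA7.pt (K := k) Ω) Y :=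
    LinearEquiv.ofLinearMap (vmap u) ((n : ℚ_[l])⁻¹ • vmap v)
      (by rw [LinearMap.comp_smul, e2, smul_smul, inv_mul_cancel₀ hn', one_smul])
      (by rw [LinearMap.smul_comp, e1, smul_smul, inv_mul_cancel₀ hn', one_smul])
  have hcomm : vmap (l := l) (T := SGA7.pt (K := k) Ω) u ∘ₗ vmap πX = vmap πY ∘ₗ vmap u := by
    rw [← vmap_comp, ← vmap_comp]
    exact vmap_congr (Over.OverMorphism.ext (hπX.comm hπY _))
  have h4 : e.conj (vmap (l := l) (T := SGA7.pt (K := k) Ω) πX) = vmap (l := l) (T := SGA7.pt (K := k) Ω) πY := by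
    refine LinearMap.ext fun w => ?_
    obtain ⟨z, rfl⟩ := e.surjective w
    rw [LinearEquiv.conj_apply]
    change e (vmap πX (e.symm (e z))) = vmap πY (e z)
    rw [LinearEquiv.symm_apply_apply]
    exact LinearMap.congr_fun hcomm z
  have h5 : ((tateMapₗ (l := l) (T := SGA7.pt (K := k) Ω) πX).baseChange ℚ_[l]).charpoly =
      ((tateMapₗ (l := l) (T := SGA7.pt (K := k) Ω) πY).baseChange ℚ_[l]).charpoly := by
    change (vmap (l := l) (T := SGA7.pt (K := k) Ω) πX).charpoly = (vmap (l := l) (T := SGA7.pt (K := k) Ω) πY).charpoly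
    rw [← h4, LinearEquiv.charpoly_conj]
  rw [LinearMap.charpoly_baseChange, LinearMap.charpoly_baseChange] at h5
  exact Polynomial.map_injective _ (IsFractionRing.injective ℤ_[l] ℚ_[l]) h5

end K522.IsogCrit
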