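import Mathlib.LinearAlgebra.QuadraticForm.Basic
import Mathlib.LinearAlgebra.Semisimple
import Mathlib.LinearAlgebra.Matrix.ToLinearEquiv
import Mathlib.Analysis.Complex.Polynomial.Basic
import Mathlib.LinearAlgebra.Charpoly.ToMatrix
import Mathlib.LinearAlgebra.BilinearForm.Orthogonal

/-!
# Similitudes of rational positive definite forms

Let `B` be a symmetric positive definite form on a finite-dimensional rational vector space `V` and `T` an
endomorphism with `B (T v) (T w) = q * B v w`.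
* `norm_sq_of_isRoot_charpoly`: the complex roots of the characteristic polynomial have absolute value `√q`;
* `isSemisimple`: `T` is semisimple (`q ≠ 0`).
* `norm_sq_of_minpoly`, `squarefree_minpoly`: the same for an integral element `a` of a `ℚ`-algebra with a positive
  definite form such that `B (a * x) (a * y) = q * B x y`.
-/

set_option autoImplicit false

namespace K522.Isom

open Module Matrix Polynomial LinearMap.BilinForm

section

variable {V : Type*} [AddCommGroup V] [Module ℚ V] [FiniteDimensional ℚ V] (B : LinearMap.BilinForm ℚ V)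
  (T : Module.End ℚ V) (q : ℚ)

theorem norm_sq_of_isRoot_charpoly (hs : ∀ v w, B v w = B w v) (hp : ∀ v, v ≠ 0 → 0 < B v v)
    (hT : ∀ v w, B (T v) (T w) = q * B v w) (α : ℂ)
    (hα : (T.charpoly.map (algebraMap ℚ ℂ)).eval α = 0) : ‖α‖ ^ 2 = q := by
  classical
  haveI : Invertible (2 : ℚ) := invertibleOfNonzero (by norm_num)
  obtain ⟨v, hv⟩ := exists_orthogonal_basis (B := B) ⟨fun x y => hs x y⟩
  let d : Fin (finrank ℚ V) → ℚ := fun i => B (v i) (v i)
  have hd : ∀ i, 0 < d i := fun i => hp _ (v.ne_zero i)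
  let M : Matrix (Fin (finrank ℚ V)) (Fin (finrank ℚ V)) ℚ := LinearMap.toMatrix v v T
  have hB : ∀ i j, B (v i) (v j) = if i = j then d i else 0 := fun i j => by
    split_ifs with h
    · rw [h]
    · exact hv h
  have hTv : ∀ j, T (v j) = ∑ i, M i j • v i := fun j => by
    refine (v.sum_repr (T (v j))).symm.trans (Finset.sum_congr rfl fun i _ => ?_)
    exact congrArg (· • v i) (LinearMap.toMatrix_apply v v T i j).symm
  have hM : ∀ j k, ∑ i, d i * (M i j * M i k) = if j = k then q * d j else 0 := fun j k => by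
    have h1 := hT (v j) (v k)
    rw [hTv, hTv, hB] at h1
    simp only [map_sum, LinearMap.sum_apply, map_smul, LinearMap.smul_apply, smul_eq_mul, hB] at h1
    rw [mul_ite, mul_zero] at h1
    rw [← h1]
    refine Finset.sum_congr rfl fun i _ => ?_
    simp only [mul_ite, mul_zero, Finset.sum_ite_eq, Finset.mem_univ, if_true, Finset.sum_ite_eq']
    ring
  let M' : Matrix (Fin (finrank ℚ V)) (Fin (finrank ℚ V)) ℂ := M.map (algebraMap ℚ ℂ)
  have hchar : M'.charpoly = T.charpoly.map (algebraMap ℚ ℂ) := by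
    rw [← LinearMap.charpoly_toMatrix T v]
    exact Matrix.charpoly_map M (algebraMap ℚ ℂ)
  rw [← hchar, Matrix.eval_charpoly] at hα
  obtain ⟨x, hx, hx0⟩ := Matrix.exists_mulVec_eq_zero_iff.mpr hα
  have hx1 : M' *ᵥ x = α • x := by
    rw [Matrix.sub_mulVec, sub_eq_zero] at hx0
    rw [← hx0]
    simp [Matrix.scalar_apply, ← Matrix.smul_one_eq_diagonal, Matrix.smul_mulVec]
  have hMx : ∀ i, (M' *ᵥ x) i = ∑ j, (M i j : ℂ) * x j := fun i => rfl
  have h1 : ∑ i, (d i : ℂ) * ((M' *ᵥ x) i * star ((M' *ᵥ x) i)) = q * ∑ i, (d i : ℂ) * (x i * star (x i)) := by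
    have h2 : ∀ i, (d i : ℂ) * ((M' *ᵥ x) i * star ((M' *ᵥ x) i)) =
        ∑ j, ∑ k, (x j * star (x k)) * ((d i * (M i j * M i k) : ℚ) : ℂ) := fun i => by
      rw [hMx, star_sum, Finset.sum_mul_sum, Finset.mul_sum]
      refine Finset.sum_congr rfl fun j _ => ?_
      rw [Finset.mul_sum]
      refine Finset.sum_congr rfl fun k _ => ?_
      have : star ((M i k : ℚ) : ℂ) = ((M i k : ℚ) : ℂ) := by
        rw [← Complex.ofReal_ratCast]; exact Complex.conj_ofReal _
      rw [star_mul', this]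
      push_cast
      ring
    simp_rw [h2]
    rw [Finset.sum_comm, Finset.mul_sum]
    refine Finset.sum_congr rfl fun j _ => ?_
    rw [Finset.sum_comm]
    simp_rw [← Finset.mul_sum, ← Rat.cast_sum, hM]
    rw [Finset.sum_eq_single j]
    · rw [if_pos rfl]; push_cast; ring
    · intro k _ hk
      rw [if_neg (Ne.symm hk)]; simp
    · intro h; exact absurd (Finset.mem_univ j) h
  rw [hx1] at h1
  have h3 : ∀ z : ℂ, z * star z = ((‖z‖ ^ 2 : ℝ) : ℂ) := fun z => by
    rw [← Complex.normSq_eq_norm_sq]; exact Complex.mul_conj z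
  have h4 : ∑ i, d i * ((‖α‖ ^ 2) * ‖x i‖ ^ 2 : ℝ) = q * ∑ i, (d i : ℝ) * ‖x i‖ ^ 2 := by
    have h5 : ∀ i, ((α • x) i * star ((α • x) i)) = (((‖α‖ ^ 2) * ‖x i‖ ^ 2 : ℝ) : ℂ) := fun i => by
      rw [h3, Pi.smul_apply, smul_eq_mul, norm_mul, mul_pow]
    simp_rw [h5, h3] at h1
    exact_mod_cast h1
  have h6 : 0 < ∑ i, (d i : ℝ) * ‖x i‖ ^ 2 := by
    obtain ⟨i, hi⟩ := Function.ne_iff.mp hx
    have hi' : 0 < ‖x i‖ := norm_pos_iff.mpr hi
    refine Finset.sum_pos' (fun j _ => ?_) ⟨i, Finset.mem_univ i, ?_⟩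
    · have : (0 : ℝ) < d j := by exact_mod_cast hd j
      positivity
    · have : (0 : ℝ) < d i := by exact_mod_cast hd i
      positivity
  have h7 : ‖α‖ ^ 2 * ∑ i, (d i : ℝ) * ‖x i‖ ^ 2 = q * ∑ i, (d i : ℝ) * ‖x i‖ ^ 2 := by
    rw [← h4, Finset.mul_sum]
    refine Finset.sum_congr rfl fun i _ => by ring
  exact mul_right_cancel₀ h6.ne' h7

theorem isSemisimple (hs : ∀ v w, B v w = B w v) (hp : ∀ v, v ≠ 0 → 0 < B v v)
    (hT : ∀ v w, B (T v) (T w) = q * B v w) (hq : q ≠ 0) : T.IsSemisimple := by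
  rw [Module.End.isSemisimple_iff]
  intro p hpT
  rw [Module.End.mem_invtSubmodule] at hpT
  have hinj : Function.Injective T := by
    rw [← LinearMap.ker_eq_bot, LinearMap.ker_eq_bot']
    intro v hv
    by_contra h
    have h1 := hT v v
    rw [hv, map_zero] at h1
    have h2 := hp v h
    have h3 : q * B v v ≠ 0 := mul_ne_zero hq h2.ne'
    exact h3 h1.symm
  have hmap : p.map T = p := by
    refine Submodule.eq_of_le_of_finrank_eq (Submodule.map_le_iff_le_comap.mpr hpT) ?_
    exact (Submodule.equivMapOfInjective T hinj p).finrank_eq.symm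
  refine ⟨LinearMap.BilinForm.orthogonal B p, ?_, ?_⟩
  · rw [Module.End.mem_invtSubmodule]
    intro v hv
    rw [Submodule.mem_comap, LinearMap.BilinForm.mem_orthogonal_iff]
    intro w hw
    rw [← hmap] at hw
    obtain ⟨w', hw', rfl⟩ := hw
    rw [hT, hv w' hw', mul_zero]
  · rw [LinearMap.BilinForm.isCompl_orthogonal_iff_disjoint (fun x y h => by rw [hs]; exact h), Submodule.disjoint_def]
    intro v hv hv'
    by_contra h
    exact (hp v h).ne' (hv' v hv)

end

end K522.Isom
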