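import Groth.Agent.AbVar.K522.QPiAlg
import Groth.Agent.AbVar.K522.RH
import Groth.Agent.AbVar.K522.Bridge
import Mathlib.RingTheory.Localization.Integral
import Mathlib.RingTheory.Flat.Basic

/-!
# The algebra `ℚ[π]` (`S16847`)

* `toEnd0_injective`, `minpoly_eq`: the minimal polynomial over `ℚ` of `π` in `End⁰(X)` is integral.
* `isField_iff`.
-/

set_option autoImplicit false
universe u

open CategoryTheory CategoryTheory.Limits MonoidalCategory CartesianMonoidalCategory AlgebraicGeometry MonObj GrpObj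

namespace K522.QPi

open AbDual K520.Frob Polynomial

variable {k : Type u} [Field k] {X : Over (Spec (CommRingCat.of k))} [GrpObj X] [IsCommMonObj X] [IsProper X.hom]
  [GeometricallyIntegral X.hom]

theorem toEnd0_injective : Function.Injective (EndAV.toEnd0 (A := X)) := by
  haveI : Module.Free ℤ (EndAV.End X) := Bridge.free_hom X X
  exact Algebra.TensorProduct.includeRight_injective (RingHom.injective_int (algebraMap ℤ ℚ))

/-- Evaluation in `End⁰`. -/
theorem aeval_toEnd0 (F : ℤ[X]) (π : EndAV.End X) :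
    aeval (EndAV.toEnd0 π) (F.map (Int.castRingHom ℚ)) = EndAV.toEnd0 (F.eval₂ (Int.castRingHom (EndAV.End X)) π) := by
  rw [CharZero.aeval_map_int]
  exact (CharZero.eval₂_ringHom (EndAV.toEnd0 (A := X)).toRingHom F π).symm

/-- The minimal polynomial in `End⁰`. -/
theorem minpoly_eq (π : EndAV.End X) (m : ℤ[X]) (hm : m.Monic) (h0 : m.eval₂ (Int.castRingHom (EndAV.End X)) π = 0)
    (h1 : ∀ F : ℤ[X], F.eval₂ (Int.castRingHom (EndAV.End X)) π = 0 → m ∣ F) :
    IsIntegral ℚ (EndAV.toEnd0 π) ∧ minpoly ℚ (EndAV.toEnd0 π) = m.map (Int.castRingHom ℚ) := by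
  have h2 : aeval (EndAV.toEnd0 π) (m.map (Int.castRingHom ℚ)) = 0 := by rw [aeval_toEnd0, h0, map_zero]
  have hint : IsIntegral ℚ (EndAV.toEnd0 π) := ⟨_, hm.map _, by rw [← aeval_def]; exact h2⟩
  refine ⟨hint, ?_⟩
  have h3 := minpoly.dvd ℚ _ h2
  obtain ⟨N, hN⟩ := IsLocalization.integerNormalization_map_to_map (nonZeroDivisors ℤ) (minpoly ℚ (EndAV.toEnd0 π))
  set F := IsLocalization.integerNormalization (nonZeroDivisors ℤ) (minpoly ℚ (EndAV.toEnd0 π)) with hF
  have h4 : F.eval₂ (Int.castRingHom (EndAV.End X)) π = 0 := by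
    apply toEnd0_injective
    rw [← aeval_toEnd0, map_zero]
    have : F.map (Int.castRingHom ℚ) = N • minpoly ℚ (EndAV.toEnd0 π) := hN
    rw [this]
    change aeval _ ((N : ℤ) • minpoly ℚ (EndAV.toEnd0 π)) = 0
    rw [map_zsmul, minpoly.aeval, smul_zero]
  have h5 : m.map (Int.castRingHom ℚ) ∣ minpoly ℚ (EndAV.toEnd0 π) := by
    have h6 : m.map (Int.castRingHom ℚ) ∣ F.map (Int.castRingHom ℚ) := Polynomial.map_dvd _ (h1 F h4)
    have h7 : F.map (Int.castRingHom ℚ) = C ((N : ℤ) : ℚ) * minpoly ℚ (EndAV.toEnd0 π) := by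
      have : F.map (Int.castRingHom ℚ) = N • minpoly ℚ (EndAV.toEnd0 π) := hN
      rw [this]
      change (N : ℤ) • minpoly ℚ (EndAV.toEnd0 π) = _
      rw [← Int.cast_smul_eq_zsmul ℚ, smul_eq_C_mul]
    rw [h7] at h6
    have h8 : IsUnit (C ((N : ℤ) : ℚ)) := by
      rw [isUnit_C, isUnit_iff_ne_zero]
      exact_mod_cast nonZeroDivisors.ne_zero N.2
    exact h8.dvd_mul_left.mp h6
  exact eq_of_monic_of_associated (minpoly.monic hint) (hm.map _) (associated_of_dvd_dvd h3 h5)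

variable {Ω : Type u} [Field Ω] [Algebra k Ω] [IsAlgClosed Ω] {l : ℕ} [Fact l.Prime]

/-- `ℚ[π]` is a field iff the characteristic polynomial is a power of an irreducible polynomial. -/
theorem isField_iff (hl : (l : k) ≠ 0) (q : ℕ) (hq : q ≠ 0) (π : EndAV.End X) (hπ : IsFrob q π.toHom.left)
    [Module.Free ℤ_[l] (TateMod X l (SGA7.pt (K := k) Ω))] [Module.Finite ℤ_[l] (TateMod X l (SGA7.pt (K := k) Ω))]
    (P : ℤ[X])
    (hP : (tateMapₗ (l := l) (T := SGA7.pt (K := k) Ω) π.toHom).charpoly = P.map (Int.castRingHom ℤ_[l])) :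
    IsField (EndAV.QAdj π) ↔
      ∃ (h : ℚ[X]) (n : ℕ), Irreducible h ∧ 0 < n ∧ P.map (Int.castRingHom ℚ) = h ^ n := by
  have hPm : P.Monic := by
    have h1 : (P.map (Int.castRingHom ℤ_[l])).Monic := hP ▸ LinearMap.charpoly_monic _
    exact Polynomial.monic_of_injective (RingHom.injective_int _) h1
  have hP0 := CharZero.eval₂_charpoly (l := l) (Ω := Ω) hl π P hP
  obtain ⟨m, hm1, hm2, hm3, hm4, -⟩ := RH.exists_min q hq π hπ P hPm hP0
  obtain ⟨hint, hmin⟩ := minpoly_eq π m hm1 hm3 hm4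
  rw [QPiAlg.isField_adjoin_iff _ hint, hmin]
  refine QPiAlg.irreducible_iff _ _ (hPm.map _) (hm1.map _) (Polynomial.map_dvd _ (hm4 P hP0)) hm2 fun α hα => ?_
  have e : ∀ F : ℤ[X], aeval α (F.map (Int.castRingHom ℚ)) = (F.map (Int.castRingHom ℂ)).eval α := fun F => by
    rw [CharZero.aeval_map_int, eval_map]
  rw [e] at hα ⊢
  exact CharRoots.isRoot_of_isRoot_charpoly _ P m hP
    ((CharZero.eval₂_eq_zero_iff (l := l) (Ω := Ω) hl m π).mp hm3) α hα

end K522.QPi
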