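import Mathlib.FieldTheory.Minpoly.Field
import Mathlib.RingTheory.UniqueFactorizationDomain.NormalizedFactors
import Mathlib.RingTheory.Polynomial.UniqueFactorization
import Mathlib.Algebra.Polynomial.FieldDivision
import Mathlib.RingTheory.PrincipalIdealDomain
import Mathlib.Analysis.Complex.Polynomial.Basic
import Mathlib.RingTheory.Algebraic.Integral
import Mathlib.RingTheory.Ideal.Quotient.Operations
import Mathlib.Algebra.Squarefree.Basic

/-!
# When is `K[a]` a field

* `isField_adjoin_iff`: `K[a]` (in any `K`-algebra, `a` integral) is a field iff the minimal polynomial is irreducible.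
* `irreducible_iff`: `m ∣ P` monic, `m` squarefree with the same complex roots: `m` is irreducible iff `P` is a positive power
  of an irreducible polynomial.
-/

set_option autoImplicit false

namespace K522.QPiAlg

open Polynomial

theorem isField_adjoin_iff {K A : Type*} [Field K] [Ring A] [Algebra K A] (a : A) (ha : IsIntegral K a) :
    IsField (Algebra.adjoin K {a}) ↔ Irreducible (minpoly K a) := by
  let f : K[X] →ₐ[K] Algebra.adjoin K {a} :=
    AlgHom.codRestrict (aeval a) (Algebra.adjoin K {a}) fun p => by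
      rw [Algebra.adjoin_singleton_eq_range_aeval]
      exact ⟨p, rfl⟩
  have hf : Function.Surjective f := by
    rintro ⟨x, hx⟩
    have hx' := hx
    rw [Algebra.adjoin_singleton_eq_range_aeval] at hx'
    obtain ⟨p, hp⟩ := hx'
    exact ⟨p, Subtype.ext hp⟩
  have hker : RingHom.ker f = Ideal.span {minpoly K a} := by
    ext p
    rw [RingHom.mem_ker, Ideal.mem_span_singleton, minpoly.dvd_iff]
    constructor
    · intro h
      exact congrArg Subtype.val h
    · intro h
      exact Subtype.ext h
  have e : (K[X] ⧸ Ideal.span {minpoly K a}) ≃+* Algebra.adjoin K {a} :=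
    (Ideal.quotEquivOfEq hker.symm).trans (RingHom.quotientKerEquivOfSurjective (f := (f : K[X] →+* Algebra.adjoin K {a})) hf)
  have h0 : minpoly K a ≠ 0 := minpoly.ne_zero ha
  rw [Ideal.irreducible_iff_isMaximal_span_singleton h0, Ideal.Quotient.maximal_ideal_iff_isField_quotient]
  constructor
  · intro h
    exact MulEquiv.isField h e.toMulEquiv
  · intro h
    exact MulEquiv.isField h e.symm.toMulEquiv

theorem associated_of_root {p m : ℚ[X]} (hp : Irreducible p) (hm : Irreducible m)
    (hr : ∀ α : ℂ, aeval α p = 0 → aeval α m = 0) : Associated p m := by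
  obtain ⟨α, hα⟩ := IsAlgClosed.exists_aeval_eq_zero ℂ p (degree_pos_of_irreducible hp).ne'
  have h1 := hr α hα
  have hd : minpoly ℚ α ∣ p := minpoly.dvd ℚ α hα
  have hd' : minpoly ℚ α ∣ m := minpoly.dvd ℚ α h1
  have hint : IsIntegral ℚ α := by
    rw [← isAlgebraic_iff_isIntegral]
    exact ⟨p, hp.ne_zero, hα⟩
  have hi := minpoly.irreducible hint
  exact (hi.associated_of_dvd hp hd).symm.trans (hi.associated_of_dvd hm hd')

theorem irreducible_iff (P m : ℚ[X]) (hP : P.Monic) (hm : m.Monic) (hd : m ∣ P) (hs : Squarefree m)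
    (hr : ∀ α : ℂ, aeval α P = 0 → aeval α m = 0) :
    Irreducible m ↔ ∃ (h : ℚ[X]) (n : ℕ), Irreducible h ∧ 0 < n ∧ P = h ^ n := by
  constructor
  · intro hi
    have hfin : FiniteMultiplicity m P :=
      finiteMultiplicity_of_degree_pos_of_monic (degree_pos_of_irreducible hi) hm hP.ne_zero
    obtain ⟨Q, hQ, hnd⟩ := hfin.exists_eq_pow_mul_and_not_dvd
    have hQm : Q.Monic := by
      rw [hQ] at hP
      exact (hm.pow _).of_mul_monic_left hP
    have hQ1 : Q = 1 := by
      by_contra hne
      have hnu : ¬ IsUnit Q := fun hu => hne (hQm.eq_one_of_isUnit hu)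
      obtain ⟨p, hp, hpQ⟩ := WfDvdMonoid.exists_irreducible_factor hnu hQm.ne_zero
      have h1 : Associated p m := associated_of_root hp hi fun α hα => hr α (by
        obtain ⟨c, hc⟩ := hpQ
        rw [hQ, hc, map_mul, map_mul, hα, zero_mul, mul_zero])
      exact hnd (h1.symm.dvd.trans hpQ)
    refine ⟨m, multiplicity m P, hi, ?_, by conv_lhs => rw [hQ, hQ1, mul_one]⟩
    rw [Nat.pos_iff_ne_zero]
    intro h0
    rw [h0, pow_zero, one_mul] at hQ
    rw [← hQ] at hnd
    exact hnd hd
  · rintro ⟨h, n, hh, hn, hPn⟩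
    rw [hPn] at hd
    obtain ⟨i, hin, hi⟩ := (dvd_prime_pow hh.prime n).mp hd
    have hi1 : i ≤ 1 := by
      by_contra hi1
      have h1 : h * h ∣ m := by
        rw [← sq]
        exact (pow_dvd_pow h (by omega)).trans hi.symm.dvd
      exact hh.not_isUnit (hs h h1)
    rcases Nat.le_one_iff_eq_zero_or_eq_one.mp hi1 with h0 | h0
    · exfalso
      rw [h0, pow_zero] at hi
      have hu : IsUnit m := hi.symm.isUnit isUnit_one
      have hm1 : m = 1 := hm.eq_one_of_isUnit hu
      obtain ⟨α, hα⟩ := IsAlgClosed.exists_aeval_eq_zero ℂ h (degree_pos_of_irreducible hh).ne'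
      have h2 := hr α (by rw [hPn, map_pow, hα, zero_pow hn.ne'])
      rw [hm1, map_one] at h2
      exact one_ne_zero h2
    · rw [h0, pow_one] at hi
      exact hi.symm.irreducible hh

end K522.QPiAlg
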