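import Groth.Agent.AbVar.K522.HomRank
import Groth.Agent.S16836
import Mathlib.LinearAlgebra.Charpoly.BaseChange

/-!
# Rank of `Hom(X, Y)` over a finite field, final form (`S16843`, `S14946`, `S14937` modulo inputs)
-/

set_option autoImplicit false
universe u

open TensorProduct

namespace K522.RankThm

open CategoryTheory CategoryTheory.Limits AlgebraicGeometry MonoidalCategory CartesianMonoidalCategory MonObj GrpObj
open K520.Frob AbDual TateAbs VRep HomRank

theorem charpoly_baseChange_eq {R M : Type*} [CommRing R] [IsDomain R] [AddCommGroup M] [Module R M] [Module.Free R M]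
    [Module.Finite R M] (f : Module.End R M) {K : Type*} [Field K] [Algebra R K] (P : Polynomial ℤ)
    (hP : f.charpoly = P.map (Int.castRingHom R)) [Algebra ℚ K] :
    (f.baseChange K).charpoly = (P.map (Int.castRingHom ℚ)).map (algebraMap ℚ K) := by
  rw [LinearMap.charpoly_baseChange, hP, Polynomial.map_map, Polynomial.map_map]
  congr 1
  exact RingHom.ext_int _ _

open UniqueFactorizationMonoid in
/-- `S16836` for arbitrary decidability instances. -/
theorem sum_map_eq (K L : Type*) [Field K] [DecidableEq K] [PerfectField K] [Field L] [DecidableEq L] [Algebra K L]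
    (f g : Polynomial K) (hf : f ≠ 0) (hg : g ≠ 0) :
    ∑ P ∈ (normalizedFactors (f.map (algebraMap K L))).toFinset,
        (normalizedFactors (f.map (algebraMap K L))).count P *
          (normalizedFactors (g.map (algebraMap K L))).count P * P.natDegree =
      ∑ P ∈ (normalizedFactors f).toFinset,
        (normalizedFactors f).count P * (normalizedFactors g).count P * P.natDegree := by
  obtain rfl : ‹DecidableEq K› = fun a b => Classical.propDecidable (a = b) := Subsingleton.elim _ _
  obtain rfl : ‹DecidableEq L› = fun a b => Classical.propDecidable (a = b) := Subsingleton.elim _ _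
  exact Groth.Agent.S16836.result K L f g hf hg

open UniqueFactorizationMonoid in
theorem sum_eq {R M N : Type*} [CommRing R] [IsDomain R] [AddCommGroup M] [Module R M] [Module.Free R M]
    [Module.Finite R M] [AddCommGroup N] [Module R N] [Module.Free R N] [Module.Finite R N] (f : Module.End R M)
    (g : Module.End R N) (K : Type*) [Field K] [DecidableEq K] [Algebra R K] (P Q : Polynomial ℤ)
    (hP : f.charpoly = P.map (Int.castRingHom R)) (hQ : g.charpoly = Q.map (Int.castRingHom R)) [Algebra ℚ K] :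
    ∑ P ∈ (normalizedFactors (f.baseChange K).charpoly).toFinset,
        (normalizedFactors (f.baseChange K).charpoly).count P *
          (normalizedFactors (g.baseChange K).charpoly).count P * P.natDegree =
      ∑ p ∈ (normalizedFactors (P.map (Int.castRingHom ℚ))).toFinset,
        (normalizedFactors (P.map (Int.castRingHom ℚ))).count p *
          (normalizedFactors (Q.map (Int.castRingHom ℚ))).count p * p.natDegree := by
  have h1 := charpoly_baseChange_eq (K := K) _ P hP
  have h2 := charpoly_baseChange_eq (K := K) _ Q hQ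
  have hPm : P.map (Int.castRingHom ℚ) ≠ 0 := by
    intro h0
    rw [h0, Polynomial.map_zero] at h1
    exact (LinearMap.charpoly_monic _).ne_zero h1
  have hQm : Q.map (Int.castRingHom ℚ) ≠ 0 := by
    intro h0
    rw [h0, Polynomial.map_zero] at h2
    exact (LinearMap.charpoly_monic _).ne_zero h2
  rw [h1, h2]
  exact sum_map_eq ℚ K _ _ hPm hQm

variable {k Ω : Type u} [Field k] [Finite k] [Field Ω] [Algebra k Ω] {l : ℕ} [Fact l.Prime]
  {X Y : Over (Spec (CommRingCat.of k))} [GrpObj X] [IsCommMonObj X] [IsProper X.hom] [GeometricallyIntegral X.hom]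
  [GrpObj Y] [IsCommMonObj Y] [IsProper Y.hom] [GeometricallyIntegral Y.hom]

/-- linear independence over `ℤ_l` (the statement of `S19983`). -/
def IndepThm (Ω : Type u) [Field Ω] [Algebra k Ω] (l : ℕ) [Fact l.Prime] (X Y : Over (Spec (CommRingCat.of k)))
    [GrpObj X] [IsCommMonObj X] [GrpObj Y] [IsCommMonObj Y] : Prop :=
  ∀ (n : ℕ) (e : Fin n → EndAV.Hom X Y), LinearIndependent ℤ e →
      LinearIndependent ℤ_[l] (fun i => EndAV.Hom.tateMap (A := X) (B := Y) l (SGA7.pt Ω) (e i))

theorem finite_tors_pow (hl : (l : k) ≠ 0) (m : ℕ) : {x : SGA7.pt (K := k) Ω ⟶ X | x ^ (l ^ m) = 1}.Finite :=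
  K520.TateFin.finite_tors Ω X (n := l ^ m) (by rw [Nat.cast_pow]; exact pow_ne_zero _ hl)

open UniqueFactorizationMonoid in
open scoped Classical in
theorem finrank_hom_eq' [IsAlgClosure k Ω] (hl : (l : k) ≠ 0)
    [Module.Free ℤ_[l] (TateMod X l (SGA7.pt Ω))] [Module.Finite ℤ_[l] (TateMod X l (SGA7.pt Ω))]
    [Module.Finite ℤ_[l] (TateMod Y l (SGA7.pt Ω))]
    (πX : X ⟶ X) [IsMonHom πX] (hπX : IsFrob (Nat.card k) πX.left)
    (πY : Y ⟶ Y) [IsMonHom πY] (hπY : IsFrob (Nat.card k) πY.left) (hT : TateThm Ω l X Y)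
    (hI : IndepThm Ω l X Y)
    (hH : Module.Free ℤ (EndAV.Hom X Y) ∧ Module.Finite ℤ (EndAV.Hom X Y))
    (hsX : Module.End.IsSemisimple ((tateMapₗ (l := l) (T := SGA7.pt Ω) πX).baseChange ℚ_[l]))
    (hsY : Module.End.IsSemisimple ((tateMapₗ (l := l) (T := SGA7.pt Ω) πY).baseChange ℚ_[l])) :
    Module.finrank ℤ (EndAV.Hom X Y) =
      ∑ P ∈ (normalizedFactors ((tateMapₗ (l := l) (T := SGA7.pt Ω) πX).baseChange ℚ_[l]).charpoly).toFinset,
        (normalizedFactors ((tateMapₗ (l := l) (T := SGA7.pt Ω) πX).baseChange ℚ_[l]).charpoly).count P *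
          (normalizedFactors ((tateMapₗ (l := l) (T := SGA7.pt Ω) πY).baseChange ℚ_[l]).charpoly).count P *
            P.natDegree := by
  haveI : Algebra.IsAlgebraic k Ω := IsAlgClosure.isAlgebraic
  exact finrank_hom_eq (finite_tors_pow hl) (finite_tors_pow hl) πX hπX πY hπY hT hI hH hsX hsY

open UniqueFactorizationMonoid in
open scoped Classical in
/-- `S16843` modulo Tate's theorem, independence, finiteness of `Hom` and semisimplicity. -/
theorem finrank_hom_int [IsAlgClosure k Ω] (hl : (l : k) ≠ 0)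
    [Module.Free ℤ_[l] (TateMod X l (SGA7.pt Ω))] [Module.Finite ℤ_[l] (TateMod X l (SGA7.pt Ω))]
    [Module.Free ℤ_[l] (TateMod Y l (SGA7.pt Ω))] [Module.Finite ℤ_[l] (TateMod Y l (SGA7.pt Ω))]
    (πX : X ⟶ X) [IsMonHom πX] (hπX : IsFrob (Nat.card k) πX.left)
    (πY : Y ⟶ Y) [IsMonHom πY] (hπY : IsFrob (Nat.card k) πY.left) (hT : TateThm Ω l X Y)
    (hI : IndepThm Ω l X Y)
    (hH : Module.Free ℤ (EndAV.Hom X Y) ∧ Module.Finite ℤ (EndAV.Hom X Y))
    (hsX : Module.End.IsSemisimple ((tateMapₗ (l := l) (T := SGA7.pt Ω) πX).baseChange ℚ_[l]))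
    (hsY : Module.End.IsSemisimple ((tateMapₗ (l := l) (T := SGA7.pt Ω) πY).baseChange ℚ_[l]))
    (PX : Polynomial ℤ) (hPX : (tateMapₗ (l := l) (T := SGA7.pt Ω) πX).charpoly = PX.map (Int.castRingHom ℤ_[l]))
    (PY : Polynomial ℤ) (hPY : (tateMapₗ (l := l) (T := SGA7.pt Ω) πY).charpoly = PY.map (Int.castRingHom ℤ_[l])) :
    Module.finrank ℤ (EndAV.Hom X Y) =
      ∑ P ∈ (normalizedFactors (PX.map (Int.castRingHom ℚ))).toFinset,
        (normalizedFactors (PX.map (Int.castRingHom ℚ))).count P *
          (normalizedFactors (PY.map (Int.castRingHom ℚ))).count P * P.natDegree := by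
  refine (finrank_hom_eq' hl πX hπX πY hπY hT hI hH hsX hsY).trans ?_
  exact sum_eq _ _ ℚ_[l] PX PY hPX hPY

/-- A `ℤ`-basis of `Hom(X, Y)` in terms of morphisms. -/
theorem exists_basis {r : ℕ} (hH : Module.Free ℤ (EndAV.Hom X Y) ∧ Module.Finite ℤ (EndAV.Hom X Y))
    (hr : r = Module.finrank ℤ (EndAV.Hom X Y)) :
    ∃ e : Fin r → (X ⟶ Y), (∀ i, IsMonHom (e i)) ∧ LinearIndependent ℤ (fun i => Additive.ofMul (e i)) ∧
      ∀ f : X ⟶ Y, IsMonHom f → ∃ a : Fin r → ℤ, f = ∏ i, e i ^ a i := by
  subst hr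
  obtain ⟨h1, h2⟩ := hH
  let b := Module.finBasis ℤ (EndAV.Hom X Y)
  let toAdd : EndAV.Hom X Y →+ Additive (X ⟶ Y) :=
    { toFun := fun φ => Additive.ofMul φ.toHom, map_zero' := rfl, map_add' := fun _ _ => rfl }
  have hinj : Function.Injective toAdd := fun a b h => EndAV.Hom.ext (Additive.ofMul.injective h)
  refine ⟨fun i => (b i).toHom, fun i => inferInstance, ?_, fun f hf => ?_⟩
  · exact b.linearIndependent.map' toAdd.toIntLinearMap (LinearMap.ker_eq_bot.mpr hinj)
  · refine ⟨fun i => b.repr (EndAV.Hom.of f) i, ?_⟩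
    have h3 := congrArg toAdd (b.sum_repr (EndAV.Hom.of f))
    rw [map_sum] at h3
    have h4 : ∀ i, toAdd (b.repr (EndAV.Hom.of f) i • b i) =
        Additive.ofMul ((b i).toHom ^ (b.repr (EndAV.Hom.of f) i)) := fun i => by
      rw [map_zsmul]
      rfl
    simp only [h4] at h3
    rw [← ofMul_prod] at h3
    exact (Additive.ofMul.injective h3).symm

open UniqueFactorizationMonoid in
/-- The degree is at most the weighted sum of squares. -/
theorem natDegree_le_sum {K : Type*} [Field K] [DecidableEq K] (f : Polynomial K) (hf : f.Monic) :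
    f.natDegree ≤ ∑ P ∈ (normalizedFactors f).toFinset,
      (normalizedFactors f).count P * (normalizedFactors f).count P * P.natDegree := by
  have h1 : (normalizedFactors f).prod = f := by
    rw [prod_normalizedFactors_eq hf.ne_zero, hf.normalize_eq_self]
  have h2 : f.natDegree = ((normalizedFactors f).map Polynomial.natDegree).sum := by
    conv_lhs => rw [← h1]
    rw [Polynomial.natDegree_multiset_prod]
    intro h
    exact (prime_of_normalized_factor 0 h).ne_zero rfl
  rw [h2, Finset.sum_multiset_map_count]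
  refine Finset.sum_le_sum fun P hP => ?_
  rw [smul_eq_mul]
  refine Nat.mul_le_mul_right _ ?_
  have h3 : 0 < (normalizedFactors f).count P := Multiset.count_pos.mpr (Multiset.mem_toFinset.mp hP)
  exact Nat.le_mul_of_pos_left _ h3

end K522.RankThm
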