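import Mathlib.Analysis.Polynomial.Basic
import Mathlib.Analysis.Complex.Polynomial.Basic
import Mathlib.Topology.Algebra.Polynomial
import Mathlib.Algebra.Polynomial.RingDivision

/-!
# Parity of the multiplicities of the real roots `±√q`

* `even_rootMultiplicity`: `P : ℤ[X]` monic of even degree, `0 < P(0)`, all complex roots of absolute value `s`:
  the multiplicities of `s` and `-s` as roots of `P` are even.
-/

set_option autoImplicit false

namespace K522.RealRoots

open Polynomial Filter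

theorem eval_zero_pos (Q : ℝ[X]) (hQ : Q.Monic) (h : ∀ x, 0 ≤ x → Q.eval x ≠ 0) : 0 < Q.eval 0 := by
  by_contra hn
  have h0 : Q.eval 0 ≤ 0 := not_lt.mp hn
  rcases Nat.eq_zero_or_pos Q.natDegree with hd | hd
  · rw [hQ.natDegree_eq_zero] at hd
    rw [hd, eval_one] at h0
    exact absurd h0 (by norm_num)
  · have ht := Polynomial.tendsto_atTop_of_leadingCoeff_nonneg Q
      (Polynomial.natDegree_pos_iff_degree_pos.mp hd) (by rw [hQ.leadingCoeff]; norm_num)
    obtain ⟨x, hx1, hx2⟩ := ((ht.eventually_gt_atTop 0).and (eventually_ge_atTop (0 : ℝ))).exists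
    have hivt := intermediate_value_Icc hx2 (f := fun y => Q.eval y) Q.continuous.continuousOn
    obtain ⟨y, hy1, hy2⟩ := hivt ⟨h0, hx1.le⟩
    exact h y hy1.1 hy2

theorem even_of_pos (P : ℝ[X]) (hP : P.Monic) (s : ℝ) (hs : 0 < s) (hr : ∀ x, P.eval x = 0 → x = s ∨ x = -s)
    (h0 : 0 < P.eval 0) : Even (P.rootMultiplicity s) := by
  obtain ⟨Q, hQ, hndvd⟩ := exists_eq_pow_rootMultiplicity_mul_and_not_dvd P hP.ne_zero s
  set a := P.rootMultiplicity s with ha
  have hQm : Q.Monic := (Polynomial.Monic.of_mul_monic_left ((monic_X_sub_C s).pow a) (hQ ▸ hP))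
  have hQs : Q.eval s ≠ 0 := fun h => hndvd (Polynomial.dvd_iff_isRoot.mpr h)
  have hQ0 : 0 < Q.eval 0 := by
    refine eval_zero_pos Q hQm fun x hx hx0 => ?_
    have h1 : P.eval x = 0 := by rw [hQ, eval_mul, hx0, mul_zero]
    rcases hr x h1 with rfl | rfl
    · exact hQs hx0
    · linarith
  rw [hQ, eval_mul, eval_pow, eval_sub, eval_X, eval_C, zero_sub] at h0
  have h2 : 0 < (-s) ^ a := (mul_pos_iff_of_pos_right hQ0).mp h0
  by_contra hodd
  rw [Nat.not_even_iff_odd] at hodd
  have := hodd.pow_neg (show -s < 0 by linarith)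
  linarith

theorem even_both (P : ℝ[X]) (hP : P.Monic) (hd : Even P.natDegree) (s : ℝ) (hs : 0 < s)
    (hr : ∀ x, P.eval x = 0 → x = s ∨ x = -s) (h0 : 0 < P.eval 0) :
    Even (P.rootMultiplicity s) ∧ Even (P.rootMultiplicity (-s)) := by
  refine ⟨even_of_pos P hP s hs hr h0, ?_⟩
  have h1 := rootMultiplicity_comp_C_mul_X_add_C P (-1) 0 s (by simp)
  rw [neg_one_mul, add_zero] at h1
  rw [← h1]
  have h2 : P.comp (C (-1) * X + C 0) = P.comp (-X) := by simp
  rw [h2]
  refine even_of_pos _ ?_ s hs (fun x hx => ?_) ?_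
  · rw [Monic, comp_neg_X_leadingCoeff_eq, hd.neg_one_pow, one_mul, hP.leadingCoeff]
  · rw [eval_comp, eval_neg, eval_X] at hx
    rcases hr _ hx with h | h
    · right; linarith
    · left; linarith
  · rw [eval_comp, eval_neg, eval_X, neg_zero]
    exact h0

/-- The multiplicities of the real roots `±s` are even. -/
theorem even_rootMultiplicity (P : ℤ[X]) (hP : P.Monic) (hd : Even P.natDegree) (h0 : 0 < P.coeff 0) (s : ℝ)
    (hs : 0 < s) (hroots : ∀ α ∈ (P.map (Int.castRingHom ℂ)).roots, ‖α‖ = s) :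
    Even ((P.map (Int.castRingHom ℝ)).rootMultiplicity s) ∧
      Even ((P.map (Int.castRingHom ℝ)).rootMultiplicity (-s)) := by
  refine even_both _ (hP.map _) (by rwa [hP.natDegree_map]) s hs (fun x hx => ?_) ?_
  · have h1 : (x : ℂ) ∈ (P.map (Int.castRingHom ℂ)).roots := by
      rw [mem_roots (hP.map _).ne_zero, IsRoot.def]
      have h2 : P.map (Int.castRingHom ℂ) = (P.map (Int.castRingHom ℝ)).map Complex.ofRealHom := by
        rw [Polynomial.map_map]
        congr 1
      have h3 : (x : ℂ) = Complex.ofRealHom x := rfl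
      rw [h2, h3, eval_map_apply, hx, map_zero]
    have h4 := hroots _ h1
    rw [Complex.norm_real, Real.norm_eq_abs] at h4
    rcases abs_cases x with ⟨h, -⟩ | ⟨h, -⟩
    · left; rw [← h4, h]
    · right; rw [← h4, h, neg_neg]
  · rw [← coeff_zero_eq_eval_zero, coeff_map]
    simpa using h0

end K522.RealRoots
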