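import Mathlib.RingTheory.Polynomial.Resultant.Basic
import Mathlib.Analysis.Complex.Polynomial.Basic
import Mathlib.RingTheory.IntegralClosure.IntegrallyClosed
import Mathlib.RingTheory.Polynomial.RationalRoot
import Mathlib.Analysis.SpecialFunctions.Log.Basic
import Mathlib.Analysis.SpecialFunctions.Pow.Real

/-!
# Serre's bound for the trace of Frobenius

* `abs_nextCoeff_le`: if `P : ℤ[X]` is monic of degree `2 * g` and all its complex roots have absolute value `√q`
  (`q > 0`), then `|nextCoeff P| ≤ g * ⌊2 * √q⌋`.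
-/

set_option autoImplicit false

namespace K522.Serre

open Polynomial

/-- a rational algebraic integer which is a positive real is at least one. -/
theorem one_le_of_isIntegral (y : ℝ) (hy : 0 < y) (hi : IsIntegral ℤ (y : ℂ)) (r : ℚ) (hr : (y : ℂ) = r) : 1 ≤ y := by
  have h1 : (y : ℝ) = (r : ℝ) := by exact_mod_cast hr
  have h2 : IsIntegral ℤ (algebraMap ℚ ℂ r) := by
    have : algebraMap ℚ ℂ r = (y : ℂ) := by rw [hr]; rfl
    rw [this]; exact hi
  have h3 : IsIntegral ℤ r := (isIntegral_algebraMap_iff (algebraMap ℚ ℂ).injective).mp h2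
  obtain ⟨z, hz⟩ := IsIntegrallyClosed.isIntegral_iff.mp h3
  have h4 : (z : ℝ) = y := by
    rw [h1, ← hz]; simp
  have h5 : 0 < z := by
    have : (0 : ℝ) < z := by rw [h4]; exact hy
    exact_mod_cast this
  rw [← h4]
  exact_mod_cast h5

theorem card_le_sum (s : Multiset ℝ) (h : ∀ y ∈ s, 0 < y) (hp : 1 ≤ s.prod) : (s.card : ℝ) ≤ s.sum := by
  have h1 : ∀ t : Multiset ℝ, (∀ y ∈ t, 0 < y) → (t.card : ℝ) + Real.log t.prod ≤ t.sum := by
    intro t
    induction t using Multiset.induction_on with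
    | empty => intro _; simp
    | cons a t ih =>
      intro ht
      have ha : 0 < a := ht a (Multiset.mem_cons_self _ _)
      have ht' : ∀ y ∈ t, 0 < y := fun y hy => ht y (Multiset.mem_cons_of_mem hy)
      have hpos : 0 < t.prod := Multiset.prod_pos ht'
      rw [Multiset.card_cons, Multiset.prod_cons, Multiset.sum_cons, Real.log_mul ha.ne' hpos.ne']
      have h2 := Real.log_le_sub_one_of_pos ha
      have h3 := ih ht'
      push_cast
      linarith
  have h2 := h1 s h
  have h3 := Real.log_nonneg hp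
  linarith

section

variable (P : ℤ[X]) (hP : P.Monic) (g : ℕ) (hg : P.natDegree = 2 * g) (q : ℕ) (hq : 0 < q)
  (hroots : ∀ α ∈ (P.map (Int.castRingHom ℂ)).roots, ‖α‖ = Real.sqrt q)

include hP hg hq hroots in
theorem le_mul_re (ε : ℤ) (hε : ε = 1 ∨ ε = -1) :
    -((g : ℝ) * (⌊2 * Real.sqrt q⌋ : ℝ)) ≤ ε * ((P.map (Int.castRingHom ℂ)).roots.sum).re := by
  set R := (P.map (Int.castRingHom ℂ)).roots with hR
  set m : ℤ := ⌊2 * Real.sqrt q⌋ with hm
  have hs : (P.map (Int.castRingHom ℂ)).Splits := IsAlgClosed.splits _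
  have hcard : R.card = 2 * g := by
    rw [hR, ← hs.natDegree_eq_card_roots, hP.natDegree_map, hg]
  have hqpos : (0 : ℝ) < Real.sqrt q := Real.sqrt_pos.mpr (by exact_mod_cast hq)
  let y : ℂ → ℝ := fun α => (m + 1 : ℝ) + ε * (2 * α.re)
  have hre : ∀ α ∈ R, |α.re| ≤ Real.sqrt q := fun α hα => by
    rw [← hroots α hα]; exact Complex.abs_re_le_norm α
  have hfl : 2 * Real.sqrt q < (m : ℝ) + 1 := Int.lt_floor_add_one _
  have hypos : ∀ α ∈ R, 0 < y α := fun α hα => by
    have h1 := abs_le.mp (hre α hα)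
    change 0 < (m + 1 : ℝ) + ε * (2 * α.re)
    rcases hε with rfl | rfl
    · push_cast; linarith [h1.1]
    · push_cast; linarith [h1.2]
  have hmc : ∀ α ∈ R, α * (starRingEnd ℂ) α = (q : ℂ) := fun α hα => by
    rw [Complex.mul_conj, Complex.normSq_eq_norm_sq, hroots α hα, Real.sq_sqrt (by positivity)]
    simp
  have hyc : ∀ α, (y α : ℂ) = (m + 1 : ℂ) + ε * (α + (starRingEnd ℂ) α) := fun α => by
    rw [Complex.add_conj]
    simp only [y]
    push_cast
    ring
  let G : ℤ[X] := C ε * X ^ 2 + C (m + 1) * X + C (ε * q)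
  have hyG : ∀ α ∈ R, (y α : ℂ) * α = (G.map (Int.castRingHom ℂ)).eval α := fun α hα => by
    have h1 : (G.map (Int.castRingHom ℂ)).eval α = ε * α ^ 2 + (m + 1) * α + ε * q := by
      simp [G]
    rw [h1, hyc, ← hmc α hα]
    ring
  have hα0 : ∀ α ∈ R, α ≠ 0 := fun α hα h => by
    have := hroots α hα
    rw [h, norm_zero] at this
    exact hqpos.ne this
  have hint : ∀ α ∈ R, IsIntegral ℤ α := fun α hα => by
    refine ⟨P, hP, ?_⟩
    have h1 := Polynomial.isRoot_of_mem_roots hα
    rw [Polynomial.IsRoot.def, Polynomial.eval_map] at h1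
    exact h1
  have hyint : ∀ α ∈ R, IsIntegral ℤ (y α : ℂ) := fun α hα => by
    rw [hyc]
    have h1 : IsIntegral ℤ ((starRingEnd ℂ) α) := by
      have h2 : (starRingEnd ℂ) α = Complex.conjAe.toAlgHom.restrictScalars ℤ α := rfl
      rw [h2]
      exact (hint α hα).map _
    have h3 : ∀ z : ℤ, IsIntegral ℤ (z : ℂ) := fun z => isIntegral_algebraMap (R := ℤ) (A := ℂ) (x := z)
    have h4 : IsIntegral ℤ ((m : ℂ) + 1) := by
      have := h3 (m + 1)
      push_cast at this
      exact this
    exact h4.add ((h3 ε).mul ((hint α hα).add h1))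
  have hprodR : R.prod = (P.coeff 0 : ℂ) := by
    have h1 := hs.coeff_zero_eq_prod_roots_of_monic (hP.map _)
    rw [hP.natDegree_map, hg, pow_mul, neg_one_sq, one_pow, one_mul, coeff_map] at h1
    exact h1.symm
  have hres : (R.map (fun α => (G.map (Int.castRingHom ℂ)).eval α)).prod = ((resultant P G : ℤ) : ℂ) := by
    have h5 := resultant_eq_prod_eval (P.map (Int.castRingHom ℂ)) (G.map (Int.castRingHom ℂ)) G.natDegree
      natDegree_map_le hs
    rw [(hP.map _).leadingCoeff, one_pow, one_mul, hP.natDegree_map, resultant_map_map] at h5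
    exact h5.symm
  have hprod0 : R.prod ≠ 0 := by
    rw [Ne, Multiset.prod_eq_zero_iff]
    exact fun h => hα0 0 h rfl
  have hyprod : (((R.map y).prod : ℝ) : ℂ) * R.prod = ((resultant P G : ℤ) : ℂ) := by
    have h1 : (((R.map y).prod : ℝ) : ℂ) = (R.map (fun α => (y α : ℂ))).prod := by
      have := (map_multiset_prod Complex.ofRealHom (R.map y))
      rw [Multiset.map_map] at this
      exact this
    have h2 : R.prod = (R.map (fun α => α)).prod := by rw [Multiset.map_id']
    rw [h1]
    conv_lhs => rw [h2]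
    rw [← Multiset.prod_map_mul, ← hres]
    congr 1
    exact Multiset.map_congr rfl hyG
  have hone : 1 ≤ (R.map y).prod := by
    refine one_le_of_isIntegral _ (Multiset.prod_pos fun z hz => ?_) ?_
      (((resultant P G : ℤ) : ℚ) / ((P.coeff 0 : ℤ) : ℚ)) ?_
    · obtain ⟨α, hα, rfl⟩ := Multiset.mem_map.mp hz
      exact hypos α hα
    · have h1 : (((R.map y).prod : ℝ) : ℂ) = (R.map (fun α => (y α : ℂ))).prod := by
        have := (map_multiset_prod Complex.ofRealHom (R.map y))
        rw [Multiset.map_map] at this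
        exact this
      rw [h1]
      refine IsIntegral.multiset_prod fun z hz => ?_
      obtain ⟨α, hα, rfl⟩ := Multiset.mem_map.mp hz
      exact hyint α hα
    · push_cast
      rw [← hprodR, eq_div_iff hprod0, hyprod]
  have hsum := card_le_sum (R.map y) (fun z hz => by
    obtain ⟨α, hα, rfl⟩ := Multiset.mem_map.mp hz
    exact hypos α hα) hone
  rw [Multiset.card_map, hcard] at hsum
  have hsum2 : (R.map y).sum = (2 * g : ℕ) * (m + 1 : ℝ) + ε * (2 * R.sum.re) := by
    simp only [y]
    rw [Multiset.sum_map_add, Multiset.map_const', Multiset.sum_replicate, hcard, nsmul_eq_mul,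
      Multiset.sum_map_mul_left, Multiset.sum_map_mul_left]
    congr 3
    have h1 : R.sum = (R.map (fun α => α)).sum := by rw [Multiset.map_id']
    have := (map_multiset_sum Complex.reAddGroupHom R)
    exact this.symm
  rw [hsum2] at hsum
  push_cast at hsum
  linarith

include hP hg hq hroots in
/-- Serre's bound. -/
theorem abs_nextCoeff_le : |(P.nextCoeff : ℝ)| ≤ (g : ℝ) * (⌊2 * Real.sqrt q⌋ : ℝ) := by
  have hs : (P.map (Int.castRingHom ℂ)).Splits := IsAlgClosed.splits _
  have h1 := hs.nextCoeff_eq_neg_sum_roots_of_monic (hP.map _)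
  have h2 : (P.map (Int.castRingHom ℂ)).nextCoeff = (P.nextCoeff : ℂ) := by
    rw [Polynomial.nextCoeff_map (RingHom.injective_int (Int.castRingHom ℂ))]
    rfl
  rw [h2] at h1
  have h3 : ((P.map (Int.castRingHom ℂ)).roots.sum).re = -(P.nextCoeff : ℝ) := by
    have h4 : (P.map (Int.castRingHom ℂ)).roots.sum = -(P.nextCoeff : ℂ) := by rw [h1, neg_neg]
    rw [h4]
    simp
  have h5 := le_mul_re P hP g hg q hq hroots 1 (Or.inl rfl)
  have h6 := le_mul_re P hP g hg q hq hroots (-1) (Or.inr rfl)
  rw [h3] at h5 h6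
  rw [abs_le]
  push_cast at h5 h6
  constructor <;> linarith

end

end K522.Serre
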