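import Groth.Agent.AbVar.K522.SymLocal
import Mathlib.AlgebraicGeometry.Stalk
import Mathlib.CategoryTheory.Monoidal.Cartesian.Grp
import Mathlib.CategoryTheory.Monoidal.Cartesian.Over
import Mathlib.AlgebraicGeometry.Pullbacks

/-! For a commutative group scheme `X` over a perfect field of characteristic `p`, multiplication by `p` maps every
local ring into the `p`-th powers. -/

set_option autoImplicit false
universe u

namespace K522.StalkPow

open CategoryTheory CategoryTheory.Limits AlgebraicGeometry MonoidalCategory CartesianMonoidalCategory MonObj GrpObj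
open K522.SymTensor K522.SymLocal IsLocalRing

section

variable {C : Type*} [Category C] [CartesianMonoidalCategory C] [BraidedCategory C]

theorem comp_prod {I : Type*} (s : Finset I) {X Y M : C} [GrpObj M] [IsCommMonObj M] (f : X ⟶ Y) (g : I → (Y ⟶ M)) :
    f ≫ (∏ i ∈ s, g i) = ∏ i ∈ s, (f ≫ g i) := by
  classical
  induction s using Finset.induction_on with
  | empty => simp
  | insert a s ha ih => rw [Finset.prod_insert ha, Finset.prod_insert ha, MonObj.comp_mul, ih]

end

/-- A morphism from the spectrum of a local ring factors through the local ring at the image of the closed point. -/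
theorem exists_fac {R : CommRingCat.{u}} [IsLocalRing R] {X : Scheme.{u}} (f : Spec R ⟶ X) (y : X)
    (hy : f (closedPoint R) = y) : ∃ ψ : X.presheaf.stalk y ⟶ R, Spec.map ψ ≫ X.fromSpecStalk y = f := by
  subst hy
  exact ⟨Scheme.stalkClosedPointTo f, Scheme.Spec_stalkClosedPointTo_fromSpecStalk f⟩

theorem fac_unique {R : CommRingCat.{u}} {X : Scheme.{u}} {y : X} (ψ ψ' : X.presheaf.stalk y ⟶ R)
    (h : Spec.map ψ ≫ X.fromSpecStalk y = Spec.map ψ' ≫ X.fromSpecStalk y) : ψ = ψ' := by
  rw [cancel_mono] at h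
  exact Spec.map_injective h

variable (k : Type u) [Field k] (p : ℕ) [hp : Fact p.Prime]

/-- The inclusion of the `i`-th factor. -/
noncomputable def sg (A : Type u) [CommRing A] [Algebra k A] (i : ZMod p) : A →ₐ[k] TP k p A :=
  PiTensorProduct.singleAlgHom (R := k) (A := fun _ : ZMod p => A) i

theorem sg_apply (A : Type u) [CommRing A] [Algebra k A] (i : ZMod p) (a : A) :
    sg k p A i a = PiTensorProduct.tprod k (Pi.mulSingle i a) := rfl

theorem mu_sg (A : Type u) [CommRing A] [Algebra k A] (i : ZMod p) (a : A) : mu k p A (sg k p A i a) = a := by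
  rw [sg_apply, mu_tprod]
  simp

theorem rot_sg (A : Type u) [CommRing A] [Algebra k A] (i : ZMod p) (a : A) :
    rot k p A (sg k p A (i + 1) a) = sg k p A i a := by
  rw [sg_apply, sg_apply, rot_tprod]
  congr 1
  ext j
  by_cases h : j = i
  · subst h; simp
  · rw [Pi.mulSingle_eq_of_ne h, Pi.mulSingle_eq_of_ne (by simpa using h)]

variable (A : Type u) [CommRing A] [Algebra k A]

/-- `Spec A` over `Spec k`. -/
noncomputable abbrev VA : Over (Spec (CommRingCat.of k)) := Over.mk (Spec.map (CommRingCat.ofHom (algebraMap k A)))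

/-- A `k`-algebra map on spectra. -/
noncomputable def sp {A B : Type u} [CommRing A] [Algebra k A] [CommRing B] [Algebra k B] (f : A →ₐ[k] B) :
    VA k B ⟶ VA k A := Over.homMk (Spec.map (CommRingCat.ofHom f.toRingHom)) (by
      change _ ≫ Spec.map _ = Spec.map _
      rw [← Spec.map_comp, ← CommRingCat.ofHom_comp]
      congr 2
      exact f.comp_algebraMap)

theorem sp_comp {A B C : Type u} [CommRing A] [Algebra k A] [CommRing B] [Algebra k B] [CommRing C] [Algebra k C]
    (f : A →ₐ[k] B) (g : B →ₐ[k] C) : sp k g ≫ sp k f = sp k (g.comp f) := by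
  ext1
  change Spec.map _ ≫ Spec.map _ = Spec.map _
  rw [← Spec.map_comp, ← CommRingCat.ofHom_comp]
  rfl

theorem sp_id (A : Type u) [CommRing A] [Algebra k A] : sp k (AlgHom.id k A) = 𝟙 (VA k A) := by
  ext1
  change Spec.map _ = 𝟙 _
  rw [← Spec.map_id]
  rfl

theorem hρι (i : ZMod p) : sp k (rot k p A) ≫ sp k (sg k p A (i + 1)) = sp k (sg k p A i) := by
  rw [sp_comp]
  congr 1
  ext a
  exact rot_sg k p A i a

theorem hδι (i : ZMod p) : sp k (mu k p A) ≫ sp k (sg k p A i) = 𝟙 _ := by
  rw [sp_comp, ← sp_id]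
  congr 1
  ext a
  exact mu_sg k p A i a

variable (X : Over (Spec (CommRingCat.of k))) [GrpObj X] [IsCommMonObj X]

section

variable {k A X} (j : VA k A ⟶ X)

/-- The product of the points given by the `p` factors. -/
noncomputable def gg : VA k (TP k p A) ⟶ X := ∏ i, (sp k (sg k p A i) ≫ j)

theorem rot_gg : sp k (rot k p A) ≫ gg p j = gg p j := by
  unfold gg
  rw [comp_prod, ← Equiv.prod_comp (Equiv.addRight (1 : ZMod p))]
  apply Finset.prod_congr rfl
  intro i _
  rw [← Category.assoc]
  exact congrArg (· ≫ j) (hρι k p A i)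

theorem mu_gg : sp k (mu k p A) ≫ gg p j = j ≫ (𝟙 X) ^ p := by
  unfold gg
  rw [comp_prod]
  have : ∀ i ∈ (Finset.univ : Finset (ZMod p)), sp k (mu k p A) ≫ sp k (sg k p A i) ≫ j = j := by
    intro i _
    rw [← Category.assoc, hδι, Category.id_comp]
  rw [Finset.prod_congr rfl this, Finset.prod_const, Finset.card_univ, ZMod.card, MonObj.comp_pow, Category.comp_id]

variable [IsLocalRing A]

theorem isLocalHom_muL : IsLocalHom (muL k p A) := by
  constructor
  intro z hz
  obtain ⟨t, ⟨h, hh⟩, rfl⟩ := IsLocalization.exists_mk'_eq (PP k p A).primeCompl z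
  have h1 : muL k p A (IsLocalization.mk' (LP k p A) t (⟨h, hh⟩ : (PP k p A).primeCompl)) *
      muL k p A (algebraMap _ _ h) = muL k p A (algebraMap _ _ t) := by
    rw [← map_mul, IsLocalization.mk'_spec (LP k p A) t (⟨h, hh⟩ : (PP k p A).primeCompl)]
  have h2 : IsUnit (mu k p A t) := by
    rw [← muL_algebraMap, ← h1, muL_algebraMap]
    refine hz.mul ?_
    by_contra hcon
    exact hh ((IsLocalRing.mem_maximalIdeal _).mpr hcon)
  have h3 : t ∈ (PP k p A).primeCompl := fun h4 => (IsLocalRing.mem_maximalIdeal _).mp h4 h2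
  have h4 : IsUnit (algebraMap (TP k p A) (LP k p A) t) := IsLocalization.map_units (LP k p A) (⟨t, h3⟩ : (PP k p A).primeCompl)
  rw [← IsLocalization.mk'_spec (LP k p A) t (⟨h, hh⟩ : (PP k p A).primeCompl)] at h4
  exact isUnit_of_mul_isUnit_left h4

/-- Key local statement. -/
theorem pow_of_fac [CharP k p] [PerfectField k] (y : X.left) (ψ' : X.left.presheaf.stalk y ⟶ CommRingCat.of A)
    [IsLocalHom ψ'.hom]
    (hψ' : Spec.map ψ' ≫ X.left.fromSpecStalk y = (j ≫ (𝟙 X) ^ p).left) (s : X.left.presheaf.stalk y) :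
    ∃ r : A, ψ'.hom s = r ^ p := by
  let L : CommRingCat.{u} := CommRingCat.of (LP k p A)
  let lam : CommRingCat.of (TP k p A) ⟶ L := CommRingCat.ofHom (algebraMap _ _)
  let f1 : Spec L ⟶ X.left := Spec.map lam ≫ (gg p j).left
  let mL : L ⟶ CommRingCat.of A := CommRingCat.ofHom (muL k p A)
  let rL : L ⟶ L := CommRingCat.ofHom (rotL k p A)
  have hmL : Spec.map mL ≫ f1 = Spec.map ψ' ≫ X.left.fromSpecStalk y := by
    have h1 : Spec.map mL ≫ Spec.map lam = Spec.map (CommRingCat.ofHom (mu k p A).toRingHom) := by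
      rw [← Spec.map_comp, ← CommRingCat.ofHom_comp]
      congr 2
      ext t
      exact muL_algebraMap k p A t
    rw [← Category.assoc, h1, hψ', ← mu_gg]
    rfl
  have hrL : Spec.map rL ≫ f1 = f1 := by
    have h1 : Spec.map rL ≫ Spec.map lam = Spec.map lam ≫ Spec.map (CommRingCat.ofHom (rot k p A).toRingHom) := by
      rw [← Spec.map_comp, ← Spec.map_comp, ← CommRingCat.ofHom_comp, ← CommRingCat.ofHom_comp]
      congr 2
      ext t
      exact rotL_algebraMap k p A t
    rw [← Category.assoc, h1, Category.assoc]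
    exact congrArg (Spec.map lam ≫ ·) (congrArg CommaMorphism.left (rot_gg p j))
  haveI : IsLocalHom mL.hom := isLocalHom_muL p
  have hcl : f1 (closedPoint L) = y := by
    have h1 : (Spec.map mL) (closedPoint (CommRingCat.of A)) = closedPoint L := Spec_closedPoint (f := mL)
    have h2 : (Spec.map ψ') (closedPoint (CommRingCat.of A)) = closedPoint _ := Spec_closedPoint (f := ψ')
    rw [← h1, ← Scheme.Hom.comp_apply, hmL, Scheme.Hom.comp_apply, h2, Scheme.fromSpecStalk_closedPoint]
  obtain ⟨ψ, hψ⟩ := exists_fac f1 y hcl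
  have e1 : ψ ≫ rL = ψ := by
    apply fac_unique
    rw [Spec.map_comp, Category.assoc, hψ, hrL]
  have e2 : ψ ≫ mL = ψ' := by
    apply fac_unique
    rw [Spec.map_comp, Category.assoc, hψ, hmL]
  obtain ⟨r, hr⟩ := exists_pow_eq_muL k p A (ψ.hom s) (by
    have := congrArg (fun f => f.hom s) e1
    exact this)
  refine ⟨r, ?_⟩
  rw [← hr, ← e2]
  rfl

end

/-- Multiplication by `p` maps each local ring into the `p`-th powers. -/
theorem stalkMap_pow [CharP k p] [PerfectField k] (x : X.left)
    (s : X.left.presheaf.stalk (((𝟙 X : X ⟶ X) ^ p).left x)) :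
    ∃ r : X.left.presheaf.stalk x, (((𝟙 X : X ⟶ X) ^ p).left.stalkMap x).hom s = r ^ p := by
  obtain ⟨φ, hφ⟩ : ∃ φ : CommRingCat.of k ⟶ X.left.presheaf.stalk x, Spec.map φ = X.left.fromSpecStalk x ≫ X.hom :=
    ⟨Spec.preimage _, Spec.map_preimage _⟩
  letI : Algebra k (X.left.presheaf.stalk x) := φ.hom.toAlgebra
  let j : VA k (X.left.presheaf.stalk x) ⟶ X := Over.homMk (X.left.fromSpecStalk x) hφ.symm
  exact pow_of_fac (A := X.left.presheaf.stalk x) p j (((𝟙 X : X ⟶ X) ^ p).left x)
    (((𝟙 X : X ⟶ X) ^ p).left.stalkMap x) (by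
      rw [Scheme.SpecMap_stalkMap_fromSpecStalk]
      rfl) s

end K522.StalkPow
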