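import Groth.Agent.AbVar.K522.SymTensor
import Mathlib.RingTheory.Localization.AtPrime.Basic
import Mathlib.RingTheory.LocalRing.RingHom.Basic

/-! The local version: an element of `(A^{⊗p})_P`, `P` the preimage of the maximal ideal of the local ring `A`,
invariant under rotation has a `p`-th power as image in `A`. -/

set_option autoImplicit false
universe u v w

namespace K522.SymLocal

open K522.SymTensor IsLocalRing

variable (k : Type u) [Field k] (p : ℕ) [hp : Fact p.Prime] (A : Type v) [CommRing A] [Algebra k A] [IsLocalRing A]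

/-- The prime of `A^{⊗p}` over the maximal ideal, along the diagonal. -/
noncomputable abbrev PP : Ideal (TP k p A) := (maximalIdeal A).comap (mu k p A).toRingHom

theorem rot_mem_PP {t : TP k p A} : rot k p A t ∈ PP k p A ↔ t ∈ PP k p A := by
  change mu k p A (rot k p A t) ∈ maximalIdeal A ↔ mu k p A t ∈ maximalIdeal A
  rw [mu_rot]

theorem PP_comap_rot : PP k p A = (PP k p A).comap (rot k p A).toRingHom := by
  ext t
  exact (rot_mem_PP k p A).symm

/-- The local ring of the `p`-th power at the diagonal point. -/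
abbrev LP : Type (max u v) := Localization.AtPrime (PP k p A)

/-- Rotation on the local ring. -/
noncomputable def rotL : LP k p A →+* LP k p A :=
  Localization.localRingHom (PP k p A) (PP k p A) (rot k p A).toRingHom (PP_comap_rot k p A)

/-- The diagonal map from the local ring. -/
noncomputable def muL : LP k p A →+* A :=
  IsLocalization.lift (M := (PP k p A).primeCompl) (g := (mu k p A).toRingHom) (by
    rintro ⟨t, ht⟩
    have : mu k p A t ∉ maximalIdeal A := ht
    rw [IsLocalRing.mem_maximalIdeal, mem_nonunits_iff, not_not] at this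
    exact this)

theorem muL_algebraMap (t : TP k p A) : muL k p A (algebraMap _ _ t) = mu k p A t :=
  IsLocalization.lift_eq _ _

theorem rotL_algebraMap (t : TP k p A) : rotL k p A (algebraMap _ _ t) = algebraMap _ _ (rot k p A t) :=
  Localization.localRingHom_to_map _ _ _ _ _

/-- The norm for rotation. -/
noncomputable def nm (t : TP k p A) : TP k p A := ∏ j ∈ Finset.range p, (rot k p A)^[j] t

theorem rot_nm (t : TP k p A) : rot k p A (nm k p A t) = nm k p A t := by
  have h := rot_iterate_p k p A t
  obtain ⟨n, hn⟩ : ∃ n, p = n + 1 := ⟨p - 1, (Nat.sub_add_cancel hp.out.one_le).symm⟩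
  unfold nm
  rw [map_prod]
  have h1 : ∀ j, rot k p A ((rot k p A)^[j] t) = (rot k p A)^[j+1] t := fun j => (Function.iterate_succ_apply' _ _ _).symm
  rw [Finset.prod_congr rfl (fun j _ => h1 j)]
  have e1 := Finset.prod_range_succ (fun j => (rot k p A)^[j] t) p
  have e2 := Finset.prod_range_succ' (fun j => (rot k p A)^[j] t) p
  rw [e1] at e2
  simp only [Function.iterate_zero, id_eq] at e2
  rw [h] at e2
  rw [Finset.prod_range_succ'] at e1
  subst hn
  rw [Finset.prod_range_succ, Finset.prod_range_succ']
  rw [h]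
  simp

theorem dvd_nm (t : TP k p A) : t ∣ nm k p A t := by
  have : t = (rot k p A)^[0] t := rfl
  conv_lhs => rw [this]
  exact Finset.dvd_prod_of_mem (fun j => (rot k p A)^[j] t) (Finset.mem_range.mpr hp.out.pos)

theorem mu_iterate (t : TP k p A) (j : ℕ) : mu k p A ((rot k p A)^[j] t) = mu k p A t := by
  induction j with
  | zero => rfl
  | succ j ih => rw [Function.iterate_succ_apply', mu_rot, ih]

theorem mu_nm (t : TP k p A) : mu k p A (nm k p A t) = mu k p A t ^ p := by
  unfold nm
  rw [map_prod, Finset.prod_congr rfl (fun j _ => mu_iterate k p A t j), Finset.prod_const, Finset.card_range]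

theorem nm_mem {t : TP k p A} (ht : t ∉ PP k p A) : nm k p A t ∉ PP k p A := by
  intro h
  apply ht
  change mu k p A (nm k p A t) ∈ maximalIdeal A at h
  rw [mu_nm] at h
  exact (maximalIdeal.isMaximal A).isPrime.mem_of_pow_mem _ h

/-- A rotation-invariant element of the local ring at the diagonal point has a `p`-th power as image. -/
theorem exists_pow_eq_muL [CharP k p] [PerfectField k] (z : LP k p A) (hz : rotL k p A z = z) :
    ∃ r : A, muL k p A z = r ^ p := by
  obtain ⟨a, ⟨h, hh⟩, rfl⟩ := IsLocalization.exists_mk'_eq (PP k p A).primeCompl z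
  have hh' : h ∉ PP k p A := hh
  -- multiply so that the denominator is invariant
  obtain ⟨c, hc⟩ := dvd_nm k p A h
  have hN : nm k p A h ∉ PP k p A := nm_mem k p A hh'
  set z := IsLocalization.mk' (LP k p A) a (⟨h, hh⟩ : (PP k p A).primeCompl) with hzdef
  have hz1 : algebraMap _ (LP k p A) (nm k p A h) * z = algebraMap _ _ (a * c) := by
    rw [hc, map_mul, map_mul, mul_right_comm, hzdef, mul_comm (algebraMap _ (LP k p A) h)]
    rw [IsLocalization.mk'_spec (LP k p A) a (⟨h, hh⟩ : (PP k p A).primeCompl)]
  have hz2 : algebraMap _ (LP k p A) (rot k p A (a * c)) = algebraMap _ _ (a * c) := by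
    rw [← rotL_algebraMap, ← hz1, map_mul, rotL_algebraMap, rot_nm, hz]
  obtain ⟨⟨u, hu⟩, hu'⟩ := (IsLocalization.eq_iff_exists (PP k p A).primeCompl (LP k p A)).mp hz2
  simp only at hu'
  obtain ⟨d, hd⟩ := dvd_nm k p A u
  have hU : nm k p A u ∉ PP k p A := nm_mem k p A hu
  have hinv : rot k p A (nm k p A u * (a * c)) = nm k p A u * (a * c) := by
    rw [map_mul, rot_nm, hd, mul_comm u d, mul_assoc, mul_assoc, hu']
  obtain ⟨b, hb⟩ := exists_pow_eq_mu k p A _ hinv
  have hinv2 : mu k p A (nm k p A u * nm k p A h) = (mu k p A u * mu k p A h) ^ p := by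
    rw [map_mul, mu_nm, mu_nm, mul_pow]
  have hunit : IsUnit (mu k p A u * mu k p A h) := by
    have h1 : IsUnit (mu k p A u) := by
      by_contra hcon
      exact hu ((IsLocalRing.mem_maximalIdeal _).mpr hcon)
    have h2 : IsUnit (mu k p A h) := by
      by_contra hcon
      exact hh ((IsLocalRing.mem_maximalIdeal _).mpr hcon)
    exact h1.mul h2
  obtain ⟨e, he⟩ := hunit
  refine ⟨b * (e⁻¹ : Aˣ), ?_⟩
  have h3 : mu k p A (nm k p A u * nm k p A h) * muL k p A z = b ^ p := by
    rw [← hb, ← muL_algebraMap, ← muL_algebraMap, ← map_mul, map_mul (algebraMap _ (LP k p A)), mul_assoc, hz1,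
      ← map_mul]
  rw [hinv2, ← he] at h3
  rw [mul_pow, ← h3, mul_comm ((e : A) ^ p), mul_assoc, ← mul_pow, Units.mul_inv, one_pow, mul_one]

end K522.SymLocal
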