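import Mathlib.RingTheory.PiTensorProduct
import Mathlib.LinearAlgebra.PiTensorProduct.Basis
import Mathlib.FieldTheory.Perfect
import Mathlib.Algebra.CharP.Lemmas
import Mathlib.LinearAlgebra.Basis.VectorSpace
import Mathlib.Data.ZMod.Basic
import Mathlib.Algebra.CharP.Algebra

/-! Cyclically symmetric tensors of degree `p` in characteristic `p`: their product is a `p`-th power. -/

set_option autoImplicit false
universe u v w

namespace K522.SymTensor

open scoped TensorProduct
open PiTensorProduct

/-- Sum over a stable finite set of an invariant function killed by `p`, for a permutation of order dividing the prime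
`p`: only fixed points count. -/
theorem sum_eq_sum_fixed {α : Type v} {M : Type w} [DecidableEq α] [AddCommMonoid M] (p : ℕ) [Fact p.Prime]
    (hM : ∀ m : M, p • m = 0) (σ : Equiv.Perm α) (hσ : σ ^ p = 1) (F : α → M) (hF : ∀ a, F (σ a) = F a)
    (n : ℕ) : ∀ (S : Finset α), S.card = n → (∀ a ∈ S, σ a ∈ S) →
      ∑ a ∈ S, F a = ∑ a ∈ S with σ a = a, F a := by
  induction n using Nat.strong_induction_on with
  | _ n ih =>
  intro S hn hS
  by_cases hfix : ∀ a ∈ S, σ a = a
  · rw [Finset.filter_true_of_mem hfix]
  · push Not at hfix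
    obtain ⟨x, hxS, hx⟩ := hfix
    have hmem : ∀ j : ℕ, (σ ^ j) x ∈ S := by
      intro j
      induction j with
      | zero => simpa using hxS
      | succ j ihj => rw [pow_succ', Equiv.Perm.mul_apply]; exact hS _ ihj
    have hper : Function.minimalPeriod σ x = p := by
      have h1 : Function.IsPeriodicPt σ p x := by
        change (σ^[p]) x = x
        rw [← Equiv.Perm.coe_pow, hσ]; rfl
      exact Function.minimalPeriod_eq_prime h1 hx
    have hinj : Set.InjOn (fun j : ℕ => (σ ^ j) x) (Finset.range p : Set ℕ) := by
      intro i hi j hj hij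
      simp only [Finset.coe_range, Set.mem_Iio] at hi hj
      have hij' : (σ^[i]) x = (σ^[j]) x := by
        rw [← Equiv.Perm.coe_pow, ← Equiv.Perm.coe_pow]; exact hij
      have := (Function.iterate_eq_iterate_iff_of_lt_minimalPeriod (f := σ) (x := x) (by rw [hper]; exact hi)
        (by rw [hper]; exact hj)).mp hij'
      exact this
    set O := (Finset.range p).image (fun j : ℕ => (σ ^ j) x) with hO
    have hOS : O ⊆ S := by
      intro a ha
      rw [hO, Finset.mem_image] at ha
      obtain ⟨j, -, rfl⟩ := ha
      exact hmem j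
    have hFO : ∀ j : ℕ, F ((σ ^ j) x) = F x := by
      intro j
      induction j with
      | zero => simp
      | succ j ihj => rw [pow_succ', Equiv.Perm.mul_apply, hF, ihj]
    have hsumO : ∑ a ∈ O, F a = 0 := by
      rw [hO, Finset.sum_image hinj, Finset.sum_congr rfl (fun j _ => hFO j), Finset.sum_const, Finset.card_range, hM]
    have hOst : ∀ a, a ∈ O → σ a ∈ O := by
      intro a ha
      rw [hO, Finset.mem_image] at ha ⊢
      obtain ⟨j, hj, rfl⟩ := ha
      rw [Finset.mem_range] at hj
      rcases Nat.lt_or_ge (j + 1) p with h | h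
      · exact ⟨j + 1, Finset.mem_range.mpr h, by rw [pow_succ', Equiv.Perm.mul_apply]⟩
      · have hjp : j + 1 = p := by omega
        refine ⟨0, Finset.mem_range.mpr (Fact.out : p.Prime).pos, ?_⟩
        rw [← Equiv.Perm.mul_apply, ← pow_succ', hjp, hσ]
        simp
    have hOst' : ∀ a, σ a ∈ O → a ∈ O := by
      intro a ha
      have h2 : ∀ j : ℕ, (σ ^ j) (σ a) ∈ O := by
        intro j
        induction j with
        | zero => simpa using ha
        | succ j ihj => rw [pow_succ', Equiv.Perm.mul_apply]; exact hOst _ ihj
      have h3 := h2 (p - 1)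
      rw [← Equiv.Perm.mul_apply, ← pow_succ, Nat.sub_add_cancel (Fact.out : p.Prime).one_le, hσ] at h3
      simpa using h3
    have hxO : x ∈ O := by
      rw [hO, Finset.mem_image]
      exact ⟨0, Finset.mem_range.mpr (Fact.out : p.Prime).pos, by simp⟩
    have hcard : (S \ O).card < n := by
      rw [← hn]
      exact Finset.card_lt_card (Finset.sdiff_ssubset hOS ⟨x, hxO⟩)
    have hdst : ∀ a ∈ S \ O, σ a ∈ S \ O := by
      intro a ha
      rw [Finset.mem_sdiff] at ha ⊢
      exact ⟨hS a ha.1, fun h => ha.2 (hOst' a h)⟩
    have h1 := ih _ hcard (S \ O) rfl hdst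
    have hnofix : ∀ a ∈ O, σ a ≠ a := by
      intro a ha h
      rw [hO, Finset.mem_image] at ha
      obtain ⟨j, -, rfl⟩ := ha
      apply hx
      have : (σ ^ j) (σ x) = (σ ^ j) x := by
        rw [← Equiv.Perm.mul_apply, ← pow_succ, pow_succ', Equiv.Perm.mul_apply]; exact h
      exact (σ ^ j).injective this
    rw [← Finset.sum_sdiff hOS, hsumO, add_zero, h1]
    apply Finset.sum_congr _ (fun _ _ => rfl)
    ext a
    simp only [Finset.mem_filter, Finset.mem_sdiff]
    constructor
    · rintro ⟨⟨h, -⟩, h2⟩; exact ⟨h, h2⟩
    · rintro ⟨h, h2⟩; exact ⟨⟨h, fun h3 => hnofix a h3 h2⟩, h2⟩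

section

variable (k : Type u) [Field k] (p : ℕ) [hp : Fact p.Prime] (A : Type v) [CommRing A] [Algebra k A]

/-- The `p`-fold tensor power, factors indexed by `ZMod p`. -/
abbrev TP : Type (max u v) := ⨂[k] (_ : ZMod p), A

/-- The product map `A^{⊗p} → A`. -/
noncomputable def mu : TP k p A →ₐ[k] A :=
  liftAlgHom (MultilinearMap.mkPiAlgebra k (ZMod p) A) (by simp) (by intro x y; simp [Finset.prod_mul_distrib])

@[simp] theorem mu_tprod (a : ZMod p → A) : mu k p A (tprod k a) = ∏ i, a i := by
  simp [mu, liftAlgHom]

/-- Cyclic rotation of the factors. -/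
noncomputable def rot : TP k p A →ₐ[k] TP k p A :=
  AlgHom.ofLinearMap (reindex k (fun _ : ZMod p => A) (Equiv.subRight (1 : ZMod p))).toLinearMap
    (by
      rw [PiTensorProduct.one_def]
      simp only [LinearEquiv.coe_coe, reindex_tprod]
      rfl)
    (by
      intro x y
      induction x using PiTensorProduct.induction_on with
      | smul_tprod r a =>
        induction y using PiTensorProduct.induction_on with
        | smul_tprod s b =>
          rw [smul_tprod_mul_smul_tprod]
          simp only [LinearEquiv.coe_coe, map_smul, reindex_tprod]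
          rw [smul_tprod_mul_smul_tprod]
          rfl
        | add y z hy hz => rw [mul_add, map_add, hy, hz, map_add, mul_add]
      | add x z hx hz => rw [add_mul, map_add, hx, hz, map_add, add_mul])

@[simp] theorem rot_tprod (a : ZMod p → A) : rot k p A (tprod k a) = tprod k (fun i => a (i + 1)) := by
  change reindex k (fun _ : ZMod p => A) (Equiv.subRight (1 : ZMod p)) (tprod k a) = _
  rw [reindex_tprod]
  rfl

theorem mu_rot (t : TP k p A) : mu k p A (rot k p A t) = mu k p A t := by
  induction t using PiTensorProduct.induction_on with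
  | smul_tprod r a =>
    rw [map_smul, map_smul, rot_tprod, mu_tprod, map_smul, mu_tprod]
    congr 1
    exact Equiv.prod_comp (Equiv.addRight (1 : ZMod p)) a
  | add x z hx hz => rw [map_add, map_add, hx, hz, map_add]

theorem rot_iterate_tprod (n : ℕ) (a : ZMod p → A) :
    (rot k p A)^[n] (tprod k a) = tprod k (fun i => a (i + n)) := by
  induction n with
  | zero => simp
  | succ n ih =>
    rw [Function.iterate_succ_apply', ih, rot_tprod]
    congr 1
    ext i
    congr 1
    push_cast
    ring

theorem rot_iterate_p (t : TP k p A) : (rot k p A)^[p] t = t := by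
  induction t using PiTensorProduct.induction_on with
  | smul_tprod r a =>
    rw [← AlgHom.coe_pow, map_smul, AlgHom.coe_pow, rot_iterate_tprod]
    congr 2
    ext i
    rw [CharP.cast_eq_zero, add_zero]
  | add x z hx hz =>
    rw [← AlgHom.coe_pow] at hx hz ⊢
    rw [map_add, hx, hz]

/-- The product of a cyclically invariant tensor of degree `p` is a `p`-th power (`k` perfect of characteristic `p`). -/
theorem exists_pow_eq_mu [CharP k p] [PerfectField k] (t : TP k p A) (ht : rot k p A t = t) :
    ∃ b : A, mu k p A t = b ^ p := by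
  classical
  rcases subsingleton_or_nontrivial A with hA | hA
  · exact ⟨0, Subsingleton.elim _ _⟩
  haveI : CharP A p := charP_of_injective_algebraMap (algebraMap k A).injective p
  let e := Module.Basis.ofVectorSpace k A
  let κ := Module.Basis.ofVectorSpaceIndex k A
  let E := Basis.piTensorProduct (R := k) (fun _ : ZMod p => e)
  have hE : ∀ f, E f = tprod k (fun i => e (f i)) := fun f => Basis.piTensorProduct_apply _ f
  let σ : Equiv.Perm (ZMod p → κ) := Equiv.arrowCongr (Equiv.subRight (1 : ZMod p)) (Equiv.refl κ)
  have hσ : ∀ f i, σ f i = f (i + 1) := fun f i => rfl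
  have hσn : ∀ (n : ℕ) f i, (σ ^ n) f i = f (i + n) := by
    intro n
    induction n with
    | zero => intro f i; simp
    | succ n ih =>
      intro f i
      rw [pow_succ', Equiv.Perm.mul_apply, hσ, ih]
      congr 1
      push_cast
      ring
  have hσp : σ ^ p = 1 := by
    ext f i : 2
    rw [hσn]
    simp
  have hrot : ∀ x, E.repr (rot k p A x) = Finsupp.mapDomain σ (E.repr x) := by
    intro x
    have h : E.repr.toLinearMap ∘ₗ (rot k p A).toLinearMap =
        Finsupp.lmapDomain k k σ ∘ₗ E.repr.toLinearMap := by
      apply E.ext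
      intro f
      have h1 : rot k p A (E f) = E (σ f) := by
        rw [hE, hE, rot_tprod]
        rfl
      simp only [LinearMap.coe_comp, LinearEquiv.coe_coe, Function.comp_apply, AlgHom.toLinearMap_apply, h1,
        Module.Basis.repr_self, Finsupp.lmapDomain_apply, Finsupp.mapDomain_single]
    exact LinearMap.congr_fun h x
  set c := E.repr t with hc
  have hcσ : ∀ f, c (σ f) = c f := by
    intro f
    have h1 := hrot t
    rw [ht] at h1
    calc c (σ f) = (Finsupp.mapDomain σ c) (σ f) := by rw [← h1]
      _ = c f := Finsupp.mapDomain_apply σ.injective c f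
  let F : (ZMod p → κ) → A := fun f => c f • ∏ i, e (f i)
  have hFσ : ∀ f, F (σ f) = F f := by
    intro f
    simp only [F, hcσ]
    congr 1
    exact Equiv.prod_comp (Equiv.addRight (1 : ZMod p)) (fun i => e (f i))
  have ht' : mu k p A t = ∑ f ∈ c.support, F f := by
    conv_lhs => rw [← E.linearCombination_repr t]
    rw [Finsupp.linearCombination_apply, Finsupp.sum, map_sum]
    apply Finset.sum_congr rfl
    intro f _
    rw [map_smul, hE, mu_tprod]
  have hpM : ∀ m : A, p • m = 0 := by
    intro m
    rw [nsmul_eq_mul, CharP.cast_eq_zero, zero_mul]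
  rw [ht', sum_eq_sum_fixed p hpM σ hσp F hFσ _ c.support rfl (by
    intro f hf
    rw [Finsupp.mem_support_iff] at hf ⊢
    rwa [hcσ])]
  have hconst : ∀ f, σ f = f → ∀ i, f i = f 0 := by
    intro f hf
    have h1 : ∀ n : ℕ, f (n : ZMod p) = f 0 := by
      intro n
      induction n with
      | zero => simp
      | succ n ih =>
        have := congrFun hf (n : ZMod p)
        rw [hσ] at this
        rw [Nat.cast_succ, this, ih]
    intro i
    have h2 := h1 i.val
    rwa [ZMod.natCast_zmod_val] at h2
  have hroot : ∀ x : k, ∃ y : k, y ^ p = x := fun x => (PerfectField.toPerfectRing (K := k) p).bijective_frobenius.surjective x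
  choose r hr using hroot
  refine ⟨∑ f ∈ c.support with σ f = f, r (c f) • e (f 0), ?_⟩
  rw [sum_pow_char]
  apply Finset.sum_congr rfl
  intro f hf
  rw [Finset.mem_filter] at hf
  simp only [F]
  rw [Finset.prod_congr rfl (fun i _ => by rw [hconst f hf.2 i]), Finset.prod_const, Finset.card_univ, ZMod.card,
    smul_pow, hr]

end

end K522.SymTensor
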