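import Groth.Prelude.Def_Frob
import Groth.Agent.AbVar.K522.FrobRoot
import Mathlib.AlgebraicGeometry.Morphisms.FormallyUnramified
import Mathlib.CategoryTheory.Monoidal.Cartesian.Grp
import Mathlib.CategoryTheory.Monoidal.Cartesian.Over

/-! For a group scheme `X` of characteristic `p` and a morphism `c : X ⟶ X` divisible by the absolute Frobenius, the
morphism `𝟙 * c` is formally unramified. -/

set_option autoImplicit false
universe u

namespace K522.Unr

open CategoryTheory CategoryTheory.Limits AlgebraicGeometry MonoidalCategory CartesianMonoidalCategory MonObj GrpObj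

variable (p : ℕ) [hp : Fact p.Prime]

theorem natCast_eq_zero_of_isCharP (R : CommRingCat.{u}) [h : FrobSch.IsCharP (Spec R) p] : (p : R) = 0 := by
  have := congrArg (Scheme.ΓSpecIso R).hom.hom h.natCast_eq_zero
  rwa [map_natCast, map_zero] at this

theorem frob_Spec (R : CommRingCat.{u}) [FrobSch.IsCharP (Spec R) p] :
    FrobSch.frob (Spec R) p = Spec.map (CommRingCat.ofHom (FrobSch.powHom p R (natCast_eq_zero_of_isCharP p R))) := by
  apply AlgebraicGeometry.ext_of_isAffine
  ext s
  apply (Scheme.ΓSpecIso R).commRingCatIsoToRingEquiv.injective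
  have h1 := ConcreteCategory.congr_hom
    (Scheme.ΓSpecIso_naturality (CommRingCat.ofHom (FrobSch.powHom p R (natCast_eq_zero_of_isCharP p R)))) s
  refine Eq.trans ?_ h1.symm
  change (Scheme.ΓSpecIso R).hom.hom (s ^ p) = ((Scheme.ΓSpecIso R).hom.hom s) ^ p
  rw [map_pow]

/-- The Frobenius of `Spec R` factors through any closed subscheme with ideal of square zero. -/
theorem exists_fac (R S : CommRingCat.{u}) [FrobSch.IsCharP (Spec R) p] (φ : R ⟶ S)
    (hφ : Function.Surjective φ) (hk : RingHom.ker φ.hom ^ 2 = ⊥) :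
    ∃ ψ : Spec R ⟶ Spec S, ψ ≫ Spec.map φ = FrobSch.frob (Spec R) p := by
  let P := FrobSch.powHom p R (natCast_eq_zero_of_isCharP p R)
  have hker : RingHom.ker φ.hom ≤ RingHom.ker P := by
    intro x hx
    have h2 : x ^ 2 = 0 := by
      have : x ^ 2 ∈ RingHom.ker φ.hom ^ 2 := Ideal.pow_mem_pow hx 2
      rw [hk] at this
      exact this
    have h3 : x ^ p = 0 := pow_eq_zero_of_le hp.out.two_le h2
    exact h3
  let ψ : S →+* R := RingHom.liftOfSurjective φ.hom hφ ⟨P, hker⟩
  have hψ : ψ.comp φ.hom = P := RingHom.liftOfRightInverse_comp _ _ _ _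
  refine ⟨Spec.map (CommRingCat.ofHom ψ), ?_⟩
  rw [frob_Spec, ← Spec.map_comp]
  congr 1
  ext x
  exact RingHom.congr_fun hψ x

variable {S : Scheme.{u}} (X : Over S) [GrpObj X] [FrobSch.IsCharP X.left p]

/-- `𝟙 * c` is formally unramified when `c` is divisible by Frobenius. -/
theorem formallyUnramified_mul (c : X ⟶ X) (c' : X.left ⟶ X.left) (hc : c.left = FrobSch.frob X.left p ≫ c') :
    FormallyUnramified ((𝟙 X : X ⟶ X) * c).left := by
  apply FormallyUnramified.of_hom_ext
  intro R S' φ hφ hk g₁ g₂ h1 h2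
  set f : X ⟶ X := (𝟙 X) * c with hf
  haveI : FrobSch.IsCharP (Spec R) p := FrobSch.IsCharP.of_hom g₁ p
  have h3 : g₂ ≫ X.hom = g₁ ≫ X.hom := by
    rw [← Over.w f, ← Category.assoc, ← Category.assoc, h2]
  let T : Over S := Over.mk (g₁ ≫ X.hom)
  let G₁ : T ⟶ X := Over.homMk g₁ rfl
  let G₂ : T ⟶ X := Over.homMk g₂ h3
  obtain ⟨ψ, hψ⟩ := exists_fac p R S' φ hφ hk
  have h4 : G₁ ≫ c = G₂ ≫ c := by
    ext1
    change g₁ ≫ c.left = g₂ ≫ c.left
    rw [hc, ← Category.assoc, ← Category.assoc, ← FrobSch.frob_comp, ← FrobSch.frob_comp, ← hψ, Category.assoc,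
      Category.assoc, Category.assoc, Category.assoc, ← Category.assoc (Spec.map φ), h1, Category.assoc]
  have h5 : G₁ ≫ f = G₂ ≫ f := by
    ext1
    exact h2
  rw [hf, comp_mul, comp_mul, Category.comp_id, Category.comp_id, h4] at h5
  have h6 : G₁ = G₂ := mul_right_cancel h5
  exact congrArg CommaMorphism.left h6

end K522.Unr
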